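import Cfsg.Agent.Lib.Compute.WordAut

/-! Generated: certificate for the automorphism group of the Held group. -/

set_option autoImplicit false

namespace Cfsg.Agent.Lib.Compute.Sporadic.He.AutData

set_option maxRecDepth 20000

open Cfsg.Agent.Lib.Compute.WordTwins Cfsg.Agent.Lib.Compute.WordAut

def lev1T0_0 : WTree := (.node (.node (.node (.node .leaf 0 [] .leaf) 1 [1] .leaf) 2 [6] (.node .leaf 3 [2, 1] .leaf)) 4 [6, 1] (.node (.node .leaf 5 [3, 6] .leaf) 6 [3, 2, 1] (.node .leaf 7 [6, 2, 1] .leaf)))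

def lev1T0_1 : WTree := (.node (.node (.node .leaf 9 [2, 3, 6] .leaf) 10 [4, 3, 6] (.node .leaf 11 [5, 3, 6] .leaf)) 12 [2, 3, 2, 1] (.node (.node .leaf 13 [4, 3, 2, 1] .leaf) 14 [5, 3, 2, 1] (.node .leaf 15 [2, 3, 6, 1] .leaf)))

def lev1T0_2 : WTree := (.node (.node (.node .leaf 17 [5, 3, 6, 1] .leaf) 18 [1, 2, 3, 6] (.node .leaf 19 [3, 2, 3, 6] .leaf)) 20 [4, 2, 3, 6] (.node (.node .leaf 21 [5, 2, 3, 6] .leaf) 22 [5, 4, 3, 6] (.node .leaf 23 [1, 2, 3, 2, 1] .leaf)))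

def lev1T0_3 : WTree := (.node (.node (.node .leaf 25 [4, 2, 3, 2, 1] .leaf) 26 [5, 2, 3, 2, 1] (.node .leaf 27 [5, 4, 3, 2, 1] .leaf)) 28 [1, 2, 3, 6, 1] (.node (.node .leaf 29 [3, 2, 3, 6, 1] .leaf) 30 [4, 2, 3, 6, 1] (.node .leaf 31 [5, 2, 3, 6, 1] .leaf)))

def lev1T0_4 : WTree := (.node (.node (.node .leaf 33 [0, 1, 2, 3, 6] .leaf) 34 [3, 1, 2, 3, 6] (.node .leaf 35 [5, 1, 2, 3, 6] .leaf)) 36 [2, 3, 2, 3, 6] (.node (.node .leaf 37 [4, 3, 2, 3, 6] .leaf) 38 [5, 3, 2, 3, 6] (.node .leaf 39 [5, 4, 2, 3, 6] .leaf)))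

def lev1T0_5 : WTree := (.node (.node (.node .leaf 41 [0, 1, 2, 3, 2, 1] .leaf) 42 [3, 1, 2, 3, 2, 1] (.node .leaf 43 [5, 1, 2, 3, 2, 1] .leaf)) 44 [4, 3, 2, 3, 2, 1] (.node (.node .leaf 45 [5, 3, 2, 3, 2, 1] .leaf) 46 [6, 3, 2, 3, 2, 1] (.node .leaf 47 [3, 4, 2, 3, 2, 1] .leaf)))

def lev1T0_6 : WTree := (.node (.node (.node .leaf 49 [3, 5, 2, 3, 2, 1] .leaf) 50 [3, 5, 4, 3, 2, 1] (.node .leaf 51 [0, 1, 2, 3, 6, 1] .leaf)) 52 [3, 1, 2, 3, 6, 1] (.node (.node .leaf 53 [5, 1, 2, 3, 6, 1] .leaf) 54 [4, 3, 2, 3, 6, 1] (.node .leaf 55 [5, 3, 2, 3, 6, 1] .leaf)))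

def lev1T0_7 : WTree := (.node (.node (.node .leaf 57 [3, 4, 2, 3, 6, 1] .leaf) 58 [5, 4, 2, 3, 6, 1] (.node .leaf 59 [3, 5, 2, 3, 6, 1] .leaf)) 60 [3, 5, 4, 3, 6, 1] (.node (.node .leaf 61 [3, 0, 1, 2, 3, 6] .leaf) 62 [5, 0, 1, 2, 3, 6] (.node .leaf 63 [2, 3, 1, 2, 3, 6] .leaf)))

def lev1T0_8 : WTree := (.node (.node (.node .leaf 65 [6, 3, 1, 2, 3, 6] .leaf) 66 [4, 2, 3, 2, 3, 6] (.node .leaf 67 [5, 2, 3, 2, 3, 6] .leaf)) 68 [3, 4, 3, 2, 3, 6] (.node (.node .leaf 69 [6, 5, 3, 2, 3, 6] .leaf) 70 [3, 0, 1, 2, 3, 2, 1] (.node .leaf 71 [5, 0, 1, 2, 3, 2, 1] .leaf)))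

def lev1T0_9 : WTree := (.node (.node (.node .leaf 73 [4, 3, 1, 2, 3, 2, 1] .leaf) 74 [5, 3, 1, 2, 3, 2, 1] (.node .leaf 75 [6, 3, 1, 2, 3, 2, 1] .leaf)) 76 [3, 5, 1, 2, 3, 2, 1] (.node (.node .leaf 77 [3, 4, 3, 2, 3, 2, 1] .leaf) 78 [5, 4, 3, 2, 3, 2, 1] (.node .leaf 79 [6, 4, 3, 2, 3, 2, 1] .leaf)))

def lev1T0_10 : WTree := (.node (.node (.node .leaf 81 [6, 5, 3, 2, 3, 2, 1] .leaf) 82 [5, 6, 3, 2, 3, 2, 1] (.node .leaf 83 [5, 3, 4, 2, 3, 2, 1] .leaf)) 84 [6, 3, 4, 2, 3, 2, 1] (.node (.node .leaf 85 [3, 5, 4, 2, 3, 2, 1] .leaf) 86 [2, 3, 5, 2, 3, 2, 1] (.node .leaf 87 [4, 3, 5, 2, 3, 2, 1] .leaf)))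

def lev1T0_11 : WTree := (.node (.node (.node .leaf 89 [2, 3, 5, 4, 3, 2, 1] .leaf) 90 [3, 0, 1, 2, 3, 6, 1] (.node .leaf 91 [5, 0, 1, 2, 3, 6, 1] .leaf)) 92 [2, 3, 1, 2, 3, 6, 1] (.node (.node .leaf 93 [4, 3, 1, 2, 3, 6, 1] .leaf) 94 [5, 3, 1, 2, 3, 6, 1] (.node .leaf 95 [6, 3, 1, 2, 3, 6, 1] .leaf)))

def lev1T0_12 : WTree := (.node (.node (.node .leaf 97 [3, 4, 3, 2, 3, 6, 1] .leaf) 98 [5, 4, 3, 2, 3, 6, 1] (.node .leaf 99 [6, 4, 3, 2, 3, 6, 1] .leaf)) 100 [6, 5, 3, 2, 3, 6, 1] (.node (.node .leaf 101 [5, 6, 3, 2, 3, 6, 1] .leaf) 102 [5, 3, 4, 2, 3, 6, 1] (.node .leaf 103 [6, 3, 4, 2, 3, 6, 1] .leaf)))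

def lev1T0_13 : WTree := (.node (.node (.node .leaf 105 [4, 3, 5, 2, 3, 6, 1] .leaf) 106 [6, 3, 5, 2, 3, 6, 1] (.node .leaf 107 [2, 3, 5, 4, 3, 6, 1] .leaf)) 108 [2, 3, 0, 1, 2, 3, 6] (.node (.node .leaf 109 [4, 3, 0, 1, 2, 3, 6] .leaf) 110 [6, 3, 0, 1, 2, 3, 6] (.node .leaf 111 [1, 2, 3, 1, 2, 3, 6] .leaf)))

def lev1T0_14 : WTree := (.node (.node (.node .leaf 113 [4, 2, 3, 1, 2, 3, 6] .leaf) 114 [6, 4, 3, 1, 2, 3, 6] (.node .leaf 115 [5, 6, 3, 1, 2, 3, 6] .leaf)) 116 [3, 4, 2, 3, 2, 3, 6] (.node (.node .leaf 117 [3, 5, 2, 3, 2, 3, 6] .leaf) 118 [2, 3, 0, 1, 2, 3, 2, 1] (.node .leaf 119 [4, 3, 0, 1, 2, 3, 2, 1] .leaf)))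

def lev1T0_15 : WTree := (.node (.node (.node .leaf 121 [6, 3, 0, 1, 2, 3, 2, 1] .leaf) 122 [3, 5, 0, 1, 2, 3, 2, 1] (.node .leaf 123 [3, 2, 3, 1, 2, 3, 2, 1] .leaf)) 124 [5, 2, 3, 1, 2, 3, 2, 1] (.node (.node .leaf 125 [6, 2, 3, 1, 2, 3, 2, 1] .leaf) 126 [5, 4, 3, 1, 2, 3, 2, 1] (.node .leaf 127 [6, 4, 3, 1, 2, 3, 2, 1] .leaf)))

def lev1T0_16 : WTree := (.node (.node (.node (.node lev1T0_0 8 [3, 6, 1] lev1T0_1) 16 [4, 3, 6, 1] (.node lev1T0_2 24 [3, 2, 3, 2, 1] lev1T0_3)) 32 [5, 4, 3, 6, 1] (.node (.node lev1T0_4 40 [3, 5, 4, 3, 6] lev1T0_5) 48 [5, 4, 2, 3, 2, 1] (.node lev1T0_6 56 [6, 3, 2, 3, 6, 1] lev1T0_7))) 64 [4, 3, 1, 2, 3, 6] (.node (.node (.node lev1T0_8 72 [2, 3, 1, 2, 3, 2, 1] lev1T0_9) 80 [3,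 5, 3, 2, 3, 2, 1] (.node lev1T0_10 88 [6, 3, 5, 2, 3, 2, 1] lev1T0_11)) 96 [3, 5, 1, 2, 3, 6, 1] (.node (.node lev1T0_12 104 [3, 5, 4, 2, 3, 6, 1] lev1T0_13) 112 [3, 2, 3, 1, 2, 3, 6] (.node lev1T0_14 120 [5, 3, 0, 1, 2, 3, 2, 1] lev1T0_15))))

def lev1T0_17 : WTree := (.node (.node (.node (.node .leaf 129 [6, 5, 3, 1, 2, 3, 2, 1] .leaf) 130 [5, 6, 3, 1, 2, 3, 2, 1] .leaf) 131 [2, 3, 5, 1, 2, 3, 2, 1] (.node .leaf 132 [4, 3, 5, 1, 2, 3, 2, 1] .leaf)) 133 [6, 3, 5, 1, 2, 3, 2, 1] (.node (.node .leaf 134 [5, 3, 4, 3, 2, 3, 2, 1] .leaf) 135 [6, 3, 4, 3, 2, 3, 2, 1] (.node .leaf 136 [3, 5, 4, 3, 2, 3, 2, 1] .leaf)))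

def lev1T0_18 : WTree := (.node (.node (.node .leaf 138 [4, 3, 5, 3, 2, 3, 2, 1] .leaf) 139 [6, 3, 5, 3, 2, 3, 2, 1] (.node .leaf 140 [3, 6, 5, 3, 2, 3, 2, 1] .leaf)) 141 [3, 5, 6, 3, 2, 3, 2, 1] (.node (.node .leaf 142 [5, 6, 3, 4, 2, 3, 2, 1] .leaf) 143 [2, 3, 5, 4, 2, 3, 2, 1] (.node .leaf 144 [1, 2, 3, 5, 2, 3, 2, 1] .leaf)))

def lev1T0_19 : WTree := (.node (.node (.node .leaf 146 [6, 2, 3, 5, 2, 3, 2, 1] .leaf) 147 [5, 6, 3, 5, 2, 3, 2, 1] (.node .leaf 148 [1, 2, 3, 5, 4, 3, 2, 1] .leaf)) 149 [3, 2, 3, 5, 4, 3, 2, 1] (.node (.node .leaf 150 [2, 3, 0, 1, 2, 3, 6, 1] .leaf) 151 [4, 3, 0, 1, 2, 3, 6, 1] (.node .leaf 152 [5, 3, 0, 1, 2, 3, 6, 1] .leaf)))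

def lev1T0_20 : WTree := (.node (.node (.node .leaf 154 [3, 5, 0, 1, 2, 3, 6, 1] .leaf) 155 [3, 2, 3, 1, 2, 3, 6, 1] (.node .leaf 156 [4, 2, 3, 1, 2, 3, 6, 1] .leaf)) 157 [5, 2, 3, 1, 2, 3, 6, 1] (.node (.node .leaf 158 [6, 2, 3, 1, 2, 3, 6, 1] .leaf) 159 [5, 4, 3, 1, 2, 3, 6, 1] (.node .leaf 160 [6, 4, 3, 1, 2, 3, 6, 1] .leaf)))

def lev1T0_21 : WTree := (.node (.node (.node .leaf 162 [5, 6, 3, 1, 2, 3, 6, 1] .leaf) 163 [2, 3, 5, 1, 2, 3, 6, 1] (.node .leaf 164 [4, 3, 5, 1, 2, 3, 6, 1] .leaf)) 165 [6, 3, 5, 1, 2, 3, 6, 1] (.node (.node .leaf 166 [5, 3, 4, 3, 2, 3, 6, 1] .leaf) 167 [6, 3, 4, 3, 2, 3, 6, 1] (.node .leaf 168 [3, 5, 4, 3, 2, 3, 6, 1] .leaf)))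

def lev1T0_22 : WTree := (.node (.node (.node .leaf 170 [3, 6, 5, 3, 2, 3, 6, 1] .leaf) 171 [3, 5, 6, 3, 2, 3, 6, 1] (.node .leaf 172 [5, 6, 3, 4, 2, 3, 6, 1] .leaf)) 173 [3, 2, 3, 5, 4, 3, 6, 1] (.node (.node .leaf 174 [1, 2, 3, 0, 1, 2, 3, 6] .leaf) 175 [3, 2, 3, 0, 1, 2, 3, 6] (.node .leaf 176 [4, 2, 3, 0, 1, 2, 3, 6] .leaf)))

def lev1T0_23 : WTree := (.node (.node (.node .leaf 178 [3, 1, 2, 3, 1, 2, 3, 6] .leaf) 179 [4, 1, 2, 3, 1, 2, 3, 6] (.node .leaf 180 [2, 3, 2, 3, 1, 2, 3, 6] .leaf)) 181 [4, 3, 2, 3, 1, 2, 3, 6] (.node (.node .leaf 182 [5, 3, 2, 3, 1, 2, 3, 6] .leaf) 183 [6, 3, 2, 3, 1, 2, 3, 6] (.node .leaf 184 [3, 4, 2, 3, 1, 2, 3, 6] .leaf)))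

def lev1T0_24 : WTree := (.node (.node (.node .leaf 186 [3, 5, 6, 3, 1, 2, 3, 6] .leaf) 187 [1, 2, 3, 0, 1, 2, 3, 2, 1] (.node .leaf 188 [5, 2, 3, 0, 1, 2, 3, 2, 1] .leaf)) 189 [6, 2, 3, 0, 1, 2, 3, 2, 1] (.node (.node .leaf 190 [5, 4, 3, 0, 1, 2, 3, 2, 1] .leaf) 191 [6, 4, 3, 0, 1, 2, 3, 2, 1] (.node .leaf 192 [3, 5, 3, 0, 1, 2, 3, 2, 1] .leaf)))

def lev1T0_25 : WTree := (.node (.node (.node .leaf 194 [5, 6, 3, 0, 1, 2, 3, 2, 1] .leaf) 195 [2, 3, 5, 0, 1, 2, 3, 2, 1] (.node .leaf 196 [5, 3, 2, 3, 1, 2, 3, 2, 1] .leaf)) 197 [6, 3, 2, 3, 1, 2, 3, 2, 1] (.node (.node .leaf 198 [3, 5, 2, 3, 1, 2, 3, 2, 1] .leaf) 199 [6, 5, 2, 3, 1, 2, 3, 2, 1] (.node .leaf 200 [3, 6, 2, 3, 1, 2, 3, 2, 1] .leaf)))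

def lev1T0_26 : WTree := (.node (.node (.node .leaf 202 [3, 5, 4, 3, 1, 2, 3, 2, 1] .leaf) 203 [3, 6, 4, 3, 1, 2, 3, 2, 1] (.node .leaf 204 [2, 3, 5, 3, 1, 2, 3, 2, 1] .leaf)) 205 [4, 3, 5, 3, 1, 2, 3, 2, 1] (.node (.node .leaf 206 [3, 5, 6, 3, 1, 2, 3, 2, 1] .leaf) 207 [1, 2, 3, 5, 1, 2, 3, 2, 1] (.node .leaf 208 [3, 2, 3, 5, 1, 2, 3, 2, 1] .leaf)))

def lev1T0_27 : WTree := (.node (.node (.node .leaf 210 [6, 2, 3, 5, 1, 2, 3, 2, 1] .leaf) 211 [5, 6, 3, 5, 1, 2, 3, 2, 1] (.node .leaf 212 [3, 5, 3, 4, 3, 2, 3, 2, 1] .leaf)) 213 [3, 6, 3, 4, 3, 2, 3, 2, 1] (.node (.node .leaf 214 [2, 3, 5, 4, 3, 2, 3, 2, 1] .leaf) 215 [4, 3, 5, 4, 3, 2, 3, 2, 1] (.node .leaf 216 [6, 3, 5, 4, 3, 2, 3, 2, 1] .leaf)))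

def lev1T0_28 : WTree := (.node (.node (.node .leaf 218 [2, 3, 5, 6, 3, 2, 3, 2, 1] .leaf) 219 [4, 3, 5, 6, 3, 2, 3, 2, 1] (.node .leaf 220 [6, 3, 5, 6, 3, 2, 3, 2, 1] .leaf)) 221 [1, 2, 3, 5, 4, 2, 3, 2, 1] (.node (.node .leaf 222 [3, 2, 3, 5, 4, 2, 3, 2, 1] .leaf) 223 [0, 1, 2, 3, 5, 2, 3, 2, 1] (.node .leaf 224 [4, 1, 2, 3, 5, 2, 3, 2, 1] .leaf)))

def lev1T0_29 : WTree := (.node (.node (.node .leaf 226 [3, 5, 6, 3, 5, 2, 3, 2, 1] .leaf) 227 [3, 1, 2, 3, 5, 4, 3, 2, 1] (.node .leaf 228 [2, 3, 2, 3, 5, 4, 3, 2, 1] .leaf)) 229 [4, 3, 2, 3, 5, 4, 3, 2, 1] (.node (.node .leaf 230 [6, 3, 2, 3, 5, 4, 3, 2, 1] .leaf) 231 [1, 2, 3, 0, 1, 2, 3, 6, 1] (.node .leaf 232 [3, 2, 3, 0, 1, 2, 3, 6, 1] .leaf)))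

def lev1T0_30 : WTree := (.node (.node (.node .leaf 234 [6, 2, 3, 0, 1, 2, 3, 6, 1] .leaf) 235 [5, 4, 3, 0, 1, 2, 3, 6, 1] (.node .leaf 236 [6, 4, 3, 0, 1, 2, 3, 6, 1] .leaf)) 237 [6, 5, 3, 0, 1, 2, 3, 6, 1] (.node (.node .leaf 238 [5, 6, 3, 0, 1, 2, 3, 6, 1] .leaf) 239 [2, 3, 5, 0, 1, 2, 3, 6, 1] (.node .leaf 240 [2, 3, 2, 3, 1, 2, 3, 6, 1] .leaf)))

def lev1T0_31 : WTree := (.node (.node (.node .leaf 242 [5, 3, 2, 3, 1, 2, 3, 6, 1] .leaf) 243 [6, 3, 2, 3, 1, 2, 3, 6, 1] (.node .leaf 244 [3, 4, 2, 3, 1, 2, 3, 6, 1] .leaf)) 245 [5, 4, 2, 3, 1, 2, 3, 6, 1] (.node (.node .leaf 246 [6, 4, 2, 3, 1, 2, 3, 6, 1] .leaf) 247 [3, 5, 2, 3, 1, 2, 3, 6, 1] (.node .leaf 248 [6, 5, 2, 3, 1, 2, 3, 6, 1] .leaf)))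

def lev1T0_32 : WTree := (.node (.node (.node .leaf 250 [5, 6, 2, 3, 1, 2, 3, 6, 1] .leaf) 251 [3, 5, 4, 3, 1, 2, 3, 6, 1] (.node .leaf 252 [3, 6, 4, 3, 1, 2, 3, 6, 1] .leaf)) 253 [3, 5, 6, 3, 1, 2, 3, 6, 1] (.node (.node .leaf 254 [3, 2, 3, 5, 1, 2, 3, 6, 1] .leaf) 255 [4, 2, 3, 5, 1, 2, 3, 6, 1] (.node .leaf 256 [6, 2, 3, 5, 1, 2, 3, 6, 1] .leaf)))

def lev1T0_33 : WTree := (.node (.node (.node (.node lev1T0_17 137 [3, 6, 4, 3, 2, 3, 2, 1] lev1T0_18) 145 [4, 2, 3, 5, 2, 3, 2, 1] (.node lev1T0_19 153 [6, 3, 0, 1, 2, 3, 6, 1] lev1T0_20)) 161 [6, 5, 3, 1, 2, 3, 6, 1] (.node (.node lev1T0_21 169 [3, 6, 4, 3, 2, 3, 6, 1] lev1T0_22) 177 [6, 2, 3, 0, 1, 2, 3, 6] (.node lev1T0_23 185 [3, 6, 4, 3, 1, 2, 3, 6] lev1T0_24)))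 193 [6, 5, 3, 0, 1, 2, 3, 2, 1] (.node (.node (.node lev1T0_25 201 [5, 6, 2, 3, 1, 2, 3, 2, 1] lev1T0_26) 209 [4, 2, 3, 5, 1, 2, 3, 2, 1] (.node lev1T0_27 217 [2, 3, 6, 4, 3, 2, 3, 2, 1] lev1T0_28)) 225 [3, 4, 2, 3, 5, 2, 3, 2, 1] (.node (.node lev1T0_29 233 [5, 2, 3, 0, 1, 2, 3, 6, 1] lev1T0_30) 241 [4, 3, 2, 3, 1, 2, 3, 6, 1] (.node lev1T0_31 249 [3, 6, 2, 3, 1, 2, 3, 6, 1] lev1T0_32))))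

def lev1T0_34 : WTree := (.node (.node (.node (.node .leaf 258 [2, 3, 5, 6, 3, 2, 3, 6, 1] .leaf) 259 [4, 3, 5, 6, 3, 2, 3, 6, 1] .leaf) 260 [6, 3, 5, 6, 3, 2, 3, 6, 1] (.node .leaf 261 [2, 3, 2, 3, 5, 4, 3, 6, 1] .leaf)) 262 [4, 3, 2, 3, 5, 4, 3, 6, 1] (.node (.node .leaf 263 [6, 3, 2, 3, 5, 4, 3, 6, 1] .leaf) 264 [3, 1, 2, 3, 0, 1, 2, 3, 6] (.node .leaf 265 [2, 3, 2, 3, 0, 1, 2, 3, 6] .leaf)))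

def lev1T0_35 : WTree := (.node (.node (.node .leaf 267 [5, 3, 2, 3, 0, 1, 2, 3, 6] .leaf) 268 [6, 3, 2, 3, 0, 1, 2, 3, 6] (.node .leaf 269 [3, 4, 2, 3, 0, 1, 2, 3, 6] .leaf)) 270 [3, 6, 2, 3, 0, 1, 2, 3, 6] (.node (.node .leaf 271 [2, 3, 1, 2, 3, 1, 2, 3, 6] .leaf) 272 [4, 3, 1, 2, 3, 1, 2, 3, 6] (.node .leaf 273 [5, 3, 1, 2, 3, 1, 2, 3, 6] .leaf)))

def lev1T0_36 : WTree := (.node (.node (.node .leaf 275 [3, 4, 1, 2, 3, 1, 2, 3, 6] .leaf) 276 [1, 2, 3, 2, 3, 1, 2, 3, 6] (.node .leaf 277 [3, 2, 3, 2, 3, 1, 2, 3, 6] .leaf)) 278 [4, 2, 3, 2, 3, 1, 2, 3, 6] (.node (.node .leaf 279 [5, 2, 3, 2, 3, 1, 2, 3, 6] .leaf) 280 [6, 2, 3, 2, 3, 1, 2, 3, 6] (.node .leaf 281 [3, 4, 3, 2, 3, 1, 2, 3, 6] .leaf)))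

def lev1T0_37 : WTree := (.node (.node (.node .leaf 283 [6, 4, 3, 2, 3, 1, 2, 3, 6] .leaf) 284 [6, 5, 3, 2, 3, 1, 2, 3, 6] (.node .leaf 285 [5, 6, 3, 2, 3, 1, 2, 3, 6] .leaf)) 286 [2, 3, 4, 2, 3, 1, 2, 3, 6] (.node (.node .leaf 287 [5, 3, 4, 2, 3, 1, 2, 3, 6] .leaf) 288 [6, 3, 4, 2, 3, 1, 2, 3, 6] (.node .leaf 289 [2, 3, 6, 4, 3, 1, 2, 3, 6] .leaf)))

def lev1T0_38 : WTree := (.node (.node (.node .leaf 291 [5, 1, 2, 3, 0, 1, 2, 3, 2, 1] .leaf) 292 [6, 1, 2, 3, 0, 1, 2, 3, 2, 1] (.node .leaf 293 [3, 5, 2, 3, 0, 1, 2, 3, 2, 1] .leaf)) 294 [6, 5, 2, 3, 0, 1, 2, 3, 2, 1] (.node (.node .leaf 295 [3, 6, 2, 3, 0, 1, 2, 3, 2, 1] .leaf) 296 [5, 6, 2, 3, 0, 1, 2, 3, 2, 1] (.node .leaf 297 [3, 5, 4, 3, 0, 1, 2, 3, 2,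 1] .leaf)))

def lev1T0_39 : WTree := (.node (.node (.node .leaf 299 [2, 3, 5, 3, 0, 1, 2, 3, 2, 1] .leaf) 300 [3, 5, 6, 3, 0, 1, 2, 3, 2, 1] (.node .leaf 301 [1, 2, 3, 5, 0, 1, 2, 3, 2, 1] .leaf)) 302 [3, 2, 3, 5, 0, 1, 2, 3, 2, 1] (.node (.node .leaf 303 [3, 5, 3, 2, 3, 1, 2, 3, 2, 1] .leaf) 304 [3, 6, 3, 2, 3, 1, 2, 3, 2, 1] (.node .leaf 305 [2, 3, 5, 2, 3, 1, 2, 3, 2, 1] .leaf)))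

def lev1T0_40 : WTree := (.node (.node (.node .leaf 307 [6, 3, 5, 2, 3, 1, 2, 3, 2, 1] .leaf) 308 [3, 6, 5, 2, 3, 1, 2, 3, 2, 1] (.node .leaf 309 [2, 3, 6, 2, 3, 1, 2, 3, 2, 1] .leaf)) 310 [4, 3, 6, 2, 3, 1, 2, 3, 2, 1] (.node (.node .leaf 311 [5, 3, 6, 2, 3, 1, 2, 3, 2, 1] .leaf) 312 [3, 5, 6, 2, 3, 1, 2, 3, 2, 1] (.node .leaf 313 [2, 3, 5, 4, 3, 1, 2, 3, 2, 1] .leaf)))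

def lev1T0_41 : WTree := (.node (.node (.node .leaf 315 [6, 3, 5, 4, 3, 1, 2, 3, 2, 1] .leaf) 316 [2, 3, 6, 4, 3, 1, 2, 3, 2, 1] (.node .leaf 317 [3, 2, 3, 5, 3, 1, 2, 3, 2, 1] .leaf)) 318 [4, 2, 3, 5, 3, 1, 2, 3, 2, 1] (.node (.node .leaf 319 [2, 3, 5, 6, 3, 1, 2, 3, 2, 1] .leaf) 320 [6, 3, 5, 6, 3, 1, 2, 3, 2, 1] (.node .leaf 321 [0, 1, 2, 3, 5, 1, 2, 3, 2, 1] .leaf)))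

def lev1T0_42 : WTree := (.node (.node (.node .leaf 323 [4, 1, 2, 3, 5, 1, 2, 3, 2, 1] .leaf) 324 [2, 3, 2, 3, 5, 1, 2, 3, 2, 1] (.node .leaf 325 [4, 3, 2, 3, 5, 1, 2, 3, 2, 1] .leaf)) 326 [5, 3, 2, 3, 5, 1, 2, 3, 2, 1] (.node (.node .leaf 327 [6, 3, 2, 3, 5, 1, 2, 3, 2, 1] .leaf) 328 [3, 4, 2, 3, 5, 1, 2, 3, 2, 1] (.node .leaf 329 [3, 6, 2, 3, 5, 1, 2, 3, 2, 1] .leaf)))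

def lev1T0_43 : WTree := (.node (.node (.node .leaf 331 [3, 5, 6, 3, 5, 1, 2, 3, 2, 1] .leaf) 332 [2, 3, 5, 3, 4, 3, 2, 3, 2, 1] (.node .leaf 333 [6, 3, 5, 3, 4, 3, 2, 3, 2, 1] .leaf)) 334 [1, 2, 3, 5, 4, 3, 2, 3, 2, 1] (.node (.node .leaf 335 [4, 2, 3, 5, 4, 3, 2, 3, 2, 1] .leaf) 336 [6, 4, 3, 5, 4, 3, 2, 3, 2, 1] (.node .leaf 337 [5, 6, 3, 5, 4, 3, 2, 3, 2, 1] .leaf)))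

def lev1T0_44 : WTree := (.node (.node (.node .leaf 339 [1, 2, 3, 5, 6, 3, 2, 3, 2, 1] .leaf) 340 [3, 2, 3, 5, 6, 3, 2, 3, 2, 1] (.node .leaf 341 [3, 1, 2, 3, 5, 4, 2, 3, 2, 1] .leaf)) 342 [3, 4, 1, 2, 3, 5, 2, 3, 2, 1] (.node (.node .leaf 343 [2, 3, 5, 6, 3, 5, 2, 3, 2, 1] .leaf) 344 [2, 3, 1, 2, 3, 5, 4, 3, 2, 1] (.node .leaf 345 [4, 3, 1, 2, 3, 5, 4, 3, 2, 1] .leaf)))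

def lev1T0_45 : WTree := (.node (.node (.node .leaf 347 [1, 2, 3, 2, 3, 5, 4, 3, 2, 1] .leaf) 348 [3, 1, 2, 3, 0, 1, 2, 3, 6, 1] (.node .leaf 349 [5, 1, 2, 3, 0, 1, 2, 3, 6, 1] .leaf)) 350 [6, 1, 2, 3, 0, 1, 2, 3, 6, 1] (.node (.node .leaf 351 [4, 3, 2, 3, 0, 1, 2, 3, 6, 1] .leaf) 352 [5, 3, 2, 3, 0, 1, 2, 3, 6, 1] (.node .leaf 353 [6, 3, 2, 3, 0, 1, 2, 3, 6, 1] .leaf)))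

def lev1T0_46 : WTree := (.node (.node (.node .leaf 355 [6, 5, 2, 3, 0, 1, 2, 3, 6, 1] .leaf) 356 [3, 6, 2, 3, 0, 1, 2, 3, 6, 1] (.node .leaf 357 [5, 6, 2, 3, 0, 1, 2, 3, 6, 1] .leaf)) 358 [3, 5, 4, 3, 0, 1, 2, 3, 6, 1] (.node (.node .leaf 359 [3, 5, 6, 3, 0, 1, 2, 3, 6, 1] .leaf) 360 [3, 2, 3, 5, 0, 1, 2, 3, 6, 1] (.node .leaf 361 [1, 2, 3, 2, 3, 1, 2, 3, 6, 1] .leaf)))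

def lev1T0_47 : WTree := (.node (.node (.node .leaf 363 [5, 2, 3, 2, 3, 1, 2, 3, 6, 1] .leaf) 364 [6, 2, 3, 2, 3, 1, 2, 3, 6, 1] (.node .leaf 365 [3, 4, 3, 2, 3, 1, 2, 3, 6, 1] .leaf)) 366 [5, 4, 3, 2, 3, 1, 2, 3, 6, 1] (.node (.node .leaf 367 [6, 4, 3, 2, 3, 1, 2, 3, 6, 1] .leaf) 368 [3, 5, 3, 2, 3, 1, 2, 3, 6, 1] (.node .leaf 369 [6, 5, 3, 2, 3, 1, 2, 3, 6, 1] .leaf)))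

def lev1T0_48 : WTree := (.node (.node (.node .leaf 371 [5, 6, 3, 2, 3, 1, 2, 3, 6, 1] .leaf) 372 [2, 3, 4, 2, 3, 1, 2, 3, 6, 1] (.node .leaf 373 [5, 3, 4, 2, 3, 1, 2, 3, 6, 1] .leaf)) 374 [6, 3, 4, 2, 3, 1, 2, 3, 6, 1] (.node (.node .leaf 375 [3, 5, 4, 2, 3, 1, 2, 3, 6, 1] .leaf) 376 [3, 6, 4, 2, 3, 1, 2, 3, 6, 1] (.node .leaf 377 [2, 3, 5, 2, 3, 1, 2, 3, 6, 1] .leaf)))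

def lev1T0_49 : WTree := (.node (.node (.node .leaf 379 [2, 3, 6, 2, 3, 1, 2, 3, 6, 1] .leaf) 380 [4, 3, 6, 2, 3, 1, 2, 3, 6, 1] (.node .leaf 381 [2, 3, 5, 4, 3, 1, 2, 3, 6, 1] .leaf)) 382 [2, 3, 6, 4, 3, 1, 2, 3, 6, 1] (.node (.node .leaf 383 [6, 3, 5, 6, 3, 1, 2, 3, 6, 1] .leaf) 384 [4, 3, 2, 3, 5, 1, 2, 3, 6, 1] (.node .leaf 385 [5, 3, 2, 3, 5, 1, 2, 3, 6, 1] .leaf)))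

def lev1T0_50 : WTree := (.node (.node (.node (.node lev1T0_34 266 [4, 3, 2, 3, 0, 1, 2, 3, 6] lev1T0_35) 274 [6, 3, 1, 2, 3, 1, 2, 3, 6] (.node lev1T0_36 282 [5, 4, 3, 2, 3, 1, 2, 3, 6] lev1T0_37)) 290 [2, 3, 5, 6, 3, 1, 2, 3, 6] (.node (.node lev1T0_38 298 [3, 6, 4, 3, 0, 1, 2, 3, 2, 1] lev1T0_39) 306 [4, 3, 5, 2, 3, 1, 2, 3, 2, 1] (.node lev1T0_40 314 [4, 3, 5, 4, 3, 1, 2, 3, 2, 1] lev1T0_41))) 322 [3, 1, 2, 3, 5, 1, 2, 3, 2, 1] (.node (.node (.node lev1T0_42 330 [5, 6, 2, 3, 5, 1, 2, 3, 2, 1] lev1T0_43) 338 [1, 2, 3, 6, 4, 3, 2, 3, 2, 1] (.node lev1T0_44 346 [6, 3, 1, 2, 3, 5, 4, 3, 2, 1] lev1T0_45)) 354 [3, 5, 2, 3, 0, 1, 2, 3, 6, 1] (.node (.node lev1T0_46 362 [4, 2, 3, 2, 3, 1, 2, 3, 6, 1] lev1T0_47)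 370 [3, 6, 3, 2, 3, 1, 2, 3, 6, 1] (.node lev1T0_48 378 [4, 3, 5, 2, 3, 1, 2, 3, 6, 1] lev1T0_49))))

def lev1T0_51 : WTree := (.node (.node (.node .leaf 387 [3, 4, 2, 3, 5, 1, 2, 3, 6, 1] .leaf) 388 [3, 6, 2, 3, 5, 1, 2, 3, 6, 1] (.node .leaf 389 [3, 2, 3, 5, 6, 3, 2, 3, 6, 1] .leaf)) 390 [1, 2, 3, 2, 3, 5, 4, 3, 6, 1] (.node (.node .leaf 391 [2, 3, 1, 2, 3, 0, 1, 2, 3, 6] .leaf) 392 [4, 3, 1, 2, 3, 0, 1, 2, 3, 6] (.node .leaf 393 [5, 3, 1, 2, 3, 0, 1, 2, 3, 6] .leaf)))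

def lev1T0_52 : WTree := (.node (.node (.node .leaf 395 [1, 2, 3, 2, 3, 0, 1, 2, 3, 6] .leaf) 396 [4, 2, 3, 2, 3, 0, 1, 2, 3, 6] (.node .leaf 397 [5, 2, 3, 2, 3, 0, 1, 2, 3, 6] .leaf)) 398 [6, 2, 3, 2, 3, 0, 1, 2, 3, 6] (.node (.node .leaf 399 [3, 4, 3, 2, 3, 0, 1, 2, 3, 6] .leaf) 400 [5, 4, 3, 2, 3, 0, 1, 2, 3, 6] (.node .leaf 401 [6, 4, 3, 2, 3, 0, 1, 2, 3, 6] .leaf)))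

def lev1T0_53 : WTree := (.node (.node (.node .leaf 403 [3, 6, 3, 2, 3, 0, 1, 2, 3, 6] .leaf) 404 [5, 6, 3, 2, 3, 0, 1, 2, 3, 6] (.node .leaf 405 [2, 3, 4, 2, 3, 0, 1, 2, 3, 6] .leaf)) 406 [5, 3, 4, 2, 3, 0, 1, 2, 3, 6] (.node (.node .leaf 407 [6, 3, 4, 2, 3, 0, 1, 2, 3, 6] .leaf) 408 [2, 3, 6, 2, 3, 0, 1, 2, 3, 6] (.node .leaf 409 [4, 3, 6, 2, 3, 0, 1, 2, 3, 6] .leaf)))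

def lev1T0_54 : WTree := (.node (.node (.node .leaf 411 [1, 2, 3, 1, 2, 3, 1, 2, 3, 6] .leaf) 412 [3, 2, 3, 1, 2, 3, 1, 2, 3, 6] (.node .leaf 413 [4, 2, 3, 1, 2, 3, 1, 2, 3, 6] .leaf)) 414 [5, 2, 3, 1, 2, 3, 1, 2, 3, 6] (.node (.node .leaf 415 [6, 2, 3, 1, 2, 3, 1, 2, 3, 6] .leaf) 416 [3, 4, 3, 1, 2, 3, 1, 2, 3, 6] (.node .leaf 417 [5, 4, 3, 1, 2, 3, 1, 2, 3, 6] .leaf)))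

def lev1T0_55 : WTree := (.node (.node (.node .leaf 419 [6, 5, 3, 1, 2, 3, 1, 2, 3, 6] .leaf) 420 [5, 6, 3, 1, 2, 3, 1, 2, 3, 6] (.node .leaf 421 [2, 3, 4, 1, 2, 3, 1, 2, 3, 6] .leaf)) 422 [5, 3, 4, 1, 2, 3, 1, 2, 3, 6] (.node (.node .leaf 423 [6, 3, 4, 1, 2, 3, 1, 2, 3, 6] .leaf) 424 [0, 1, 2, 3, 2, 3, 1, 2, 3, 6] (.node .leaf 425 [3, 1, 2, 3, 2, 3, 1, 2, 3, 6] .leaf)))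

def lev1T0_56 : WTree := (.node (.node (.node .leaf 427 [5, 1, 2, 3, 2, 3, 1, 2, 3, 6] .leaf) 428 [6, 1, 2, 3, 2, 3, 1, 2, 3, 6] (.node .leaf 429 [4, 3, 2, 3, 2, 3, 1, 2, 3, 6] .leaf)) 430 [5, 3, 2, 3, 2, 3, 1, 2, 3, 6] (.node (.node .leaf 431 [6, 3, 2, 3, 2, 3, 1, 2, 3, 6] .leaf) 432 [3, 4, 2, 3, 2, 3, 1, 2, 3, 6] (.node .leaf 433 [5, 4, 2, 3, 2, 3, 1, 2, 3, 6] .leaf)))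

def lev1T0_57 : WTree := (.node (.node (.node .leaf 435 [3, 5, 2, 3, 2, 3, 1, 2, 3, 6] .leaf) 436 [6, 5, 2, 3, 2, 3, 1, 2, 3, 6] (.node .leaf 437 [3, 6, 2, 3, 2, 3, 1, 2, 3, 6] .leaf)) 438 [5, 6, 2, 3, 2, 3, 1, 2, 3, 6] (.node (.node .leaf 439 [2, 3, 4, 3, 2, 3, 1, 2, 3, 6] .leaf) 440 [5, 3, 4, 3, 2, 3, 1, 2, 3, 6] (.node .leaf 441 [6, 3, 4, 3, 2, 3, 1, 2, 3, 6] .leaf)))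

def lev1T0_58 : WTree := (.node (.node (.node .leaf 443 [3, 6, 4, 3, 2, 3, 1, 2, 3, 6] .leaf) 444 [3, 6, 5, 3, 2, 3, 1, 2, 3, 6] (.node .leaf 445 [3, 5, 6, 3, 2, 3, 1, 2, 3, 6] .leaf)) 446 [1, 2, 3, 4, 2, 3, 1, 2, 3, 6] (.node (.node .leaf 447 [3, 2, 3, 4, 2, 3, 1, 2, 3, 6] .leaf) 448 [5, 2, 3, 4, 2, 3, 1, 2, 3, 6] (.node .leaf 449 [6, 2, 3, 4, 2, 3, 1, 2, 3, 6] .leaf)))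

def lev1T0_59 : WTree := (.node (.node (.node .leaf 451 [5, 6, 3, 4, 2, 3, 1, 2, 3, 6] .leaf) 452 [3, 2, 3, 6, 4, 3, 1, 2, 3, 6] (.node .leaf 453 [3, 2, 3, 5, 6, 3, 1, 2, 3, 6] .leaf)) 454 [3, 5, 1, 2, 3, 0, 1, 2, 3, 2, 1] (.node (.node .leaf 455 [3, 6, 1, 2, 3, 0, 1, 2, 3, 2, 1] .leaf) 456 [2, 3, 5, 2, 3, 0, 1, 2, 3, 2, 1] (.node .leaf 457 [4, 3, 5, 2, 3, 0, 1, 2, 3, 2, 1] .leaf)))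

def lev1T0_60 : WTree := (.node (.node (.node .leaf 459 [3, 6, 5, 2, 3, 0, 1, 2, 3, 2, 1] .leaf) 460 [2, 3, 6, 2, 3, 0, 1, 2, 3, 2, 1] (.node .leaf 461 [4, 3, 6, 2, 3, 0, 1, 2, 3, 2, 1] .leaf)) 462 [5, 3, 6, 2, 3, 0, 1, 2, 3, 2, 1] (.node (.node .leaf 463 [3, 5, 6, 2, 3, 0, 1, 2, 3, 2, 1] .leaf) 464 [2, 3, 5, 4, 3, 0, 1, 2, 3, 2, 1] (.node .leaf 465 [6, 3, 5, 4, 3, 0, 1, 2, 3, 2, 1] .leaf)))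

def lev1T0_61 : WTree := (.node (.node (.node .leaf 467 [3, 2, 3, 5, 3, 0, 1, 2, 3, 2, 1] .leaf) 468 [2, 3, 5, 6, 3, 0, 1, 2, 3, 2, 1] (.node .leaf 469 [3, 1, 2, 3, 5, 0, 1, 2, 3, 2, 1] .leaf)) 470 [2, 3, 2, 3, 5, 0, 1, 2, 3, 2, 1] (.node (.node .leaf 471 [4, 3, 2, 3, 5, 0, 1, 2, 3, 2, 1] .leaf) 472 [5, 3, 2, 3, 5, 0, 1, 2, 3, 2, 1] (.node .leaf 473 [6, 3, 2, 3, 5, 0, 1, 2, 3, 2, 1] .leaf)))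

def lev1T0_62 : WTree := (.node (.node (.node .leaf 475 [4, 3, 5, 3, 2, 3, 1, 2, 3, 2, 1] .leaf) 476 [6, 3, 5, 3, 2, 3, 1, 2, 3, 2, 1] (.node .leaf 477 [2, 3, 6, 3, 2, 3, 1, 2, 3, 2, 1] .leaf)) 478 [4, 3, 6, 3, 2, 3, 1, 2, 3, 2, 1] (.node (.node .leaf 479 [5, 3, 6, 3, 2, 3, 1, 2, 3, 2, 1] .leaf) 480 [1, 2, 3, 5, 2, 3, 1, 2, 3, 2, 1] (.node .leaf 481 [3, 2, 3, 5, 2, 3, 1, 2, 3, 2, 1] .leaf)))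

def lev1T0_63 : WTree := (.node (.node (.node .leaf 483 [6, 2, 3, 5, 2, 3, 1, 2, 3, 2, 1] .leaf) 484 [6, 4, 3, 5, 2, 3, 1, 2, 3, 2, 1] (.node .leaf 485 [3, 6, 3, 5, 2, 3, 1, 2, 3, 2, 1] .leaf)) 486 [5, 6, 3, 5, 2, 3, 1, 2, 3, 2, 1] (.node (.node .leaf 487 [2, 3, 6, 5, 2, 3, 1, 2, 3, 2, 1] .leaf) 488 [4, 3, 6, 5, 2, 3, 1, 2, 3, 2, 1] (.node .leaf 489 [5, 3, 6, 5, 2, 3, 1, 2, 3, 2, 1] .leaf)))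

def lev1T0_64 : WTree := (.node (.node (.node .leaf 491 [3, 2, 3, 6, 2, 3, 1, 2, 3, 2, 1] .leaf) 492 [4, 2, 3, 6, 2, 3, 1, 2, 3, 2, 1] (.node .leaf 493 [5, 2, 3, 6, 2, 3, 1, 2, 3, 2, 1] .leaf)) 494 [5, 4, 3, 6, 2, 3, 1, 2, 3, 2, 1] (.node (.node .leaf 495 [3, 5, 3, 6, 2, 3, 1, 2, 3, 2, 1] .leaf) 496 [6, 5, 3, 6, 2, 3, 1, 2, 3, 2, 1] (.node .leaf 497 [2, 3, 5, 6, 2, 3, 1, 2, 3, 2, 1] .leaf)))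

def lev1T0_65 : WTree := (.node (.node (.node .leaf 499 [6, 3, 5, 6, 2, 3, 1, 2, 3, 2, 1] .leaf) 500 [1, 2, 3, 5, 4, 3, 1, 2, 3, 2, 1] (.node .leaf 501 [3, 2, 3, 5, 4, 3, 1, 2, 3, 2, 1] .leaf)) 502 [4, 2, 3, 5, 4, 3, 1, 2, 3, 2, 1] (.node (.node .leaf 503 [6, 2, 3, 5, 4, 3, 1, 2, 3, 2, 1] .leaf) 504 [6, 4, 3, 5, 4, 3, 1, 2, 3, 2, 1] (.node .leaf 505 [5, 6, 3, 5, 4, 3, 1, 2, 3, 2, 1] .leaf)))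

def lev1T0_66 : WTree := (.node (.node (.node .leaf 507 [3, 2, 3, 6, 4, 3, 1, 2, 3, 2, 1] .leaf) 508 [2, 3, 2, 3, 5, 3, 1, 2, 3, 2, 1] (.node .leaf 509 [4, 3, 2, 3, 5, 3, 1, 2, 3, 2, 1] .leaf)) 510 [5, 3, 2, 3, 5, 3, 1, 2, 3, 2, 1] (.node (.node .leaf 511 [6, 3, 2, 3, 5, 3, 1, 2, 3, 2, 1] .leaf) 512 [3, 4, 2, 3, 5, 3, 1, 2, 3, 2, 1] (.node .leaf 513 [1, 2, 3, 5, 6, 3, 1, 2, 3, 2, 1] .leaf)))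

def lev1T0_67 : WTree := (.node (.node (.node (.node lev1T0_51 394 [6, 3, 1, 2, 3, 0, 1, 2, 3, 6] lev1T0_52) 402 [6, 5, 3, 2, 3, 0, 1, 2, 3, 6] (.node lev1T0_53 410 [5, 3, 6, 2, 3, 0, 1, 2, 3, 6] lev1T0_54)) 418 [6, 4, 3, 1, 2, 3, 1, 2, 3, 6] (.node (.node lev1T0_55 426 [4, 1, 2, 3, 2, 3, 1, 2, 3, 6] lev1T0_56) 434 [6, 4, 2, 3, 2, 3, 1, 2, 3, 6] (.node lev1T0_57 442 [3, 5, 4, 3, 2, 3, 1, 2, 3, 6] lev1T0_58))) 450 [6, 5, 3, 4, 2, 3, 1, 2, 3, 6] (.node (.node (.node lev1T0_59 458 [6, 3, 5, 2, 3, 0, 1, 2, 3, 2, 1] lev1T0_60) 466 [2, 3, 6, 4, 3, 0, 1, 2, 3, 2, 1] (.node lev1T0_61 474 [2, 3, 5, 3, 2, 3, 1, 2, 3, 2, 1] lev1T0_62)) 482 [4, 2, 3, 5, 2, 3, 1, 2, 3, 2, 1] (.node (.node lev1T0_63 490 [1, 2, 3, 6, 2,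 3, 1, 2, 3, 2, 1] lev1T0_64) 498 [4, 3, 5, 6, 2, 3, 1, 2, 3, 2, 1] (.node lev1T0_65 506 [1, 2, 3, 6, 4, 3, 1, 2, 3, 2, 1] lev1T0_66))))

def lev1T0_68 : WTree := (.node (.node (.node (.node .leaf 515 [6, 2, 3, 5, 6, 3, 1, 2, 3, 2, 1] .leaf) 516 [3, 0, 1, 2, 3, 5, 1, 2, 3, 2, 1] .leaf) 517 [2, 3, 1, 2, 3, 5, 1, 2, 3, 2, 1] (.node .leaf 518 [4, 3, 1, 2, 3, 5, 1, 2, 3, 2, 1] .leaf)) 519 [5, 3, 1, 2, 3, 5, 1, 2, 3, 2, 1] (.node (.node .leaf 520 [6, 3, 1, 2, 3, 5, 1, 2, 3, 2, 1] .leaf) 521 [3, 4, 1, 2, 3, 5, 1, 2, 3, 2, 1] (.node .leaf 522 [1, 2, 3, 2, 3, 5, 1, 2, 3, 2, 1] .leaf)))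

def lev1T0_69 : WTree := (.node (.node (.node .leaf 524 [5, 2, 3, 2, 3, 5, 1, 2, 3, 2, 1] .leaf) 525 [6, 2, 3, 2, 3, 5, 1, 2, 3, 2, 1] (.node .leaf 526 [3, 4, 3, 2, 3, 5, 1, 2, 3, 2, 1] .leaf)) 527 [5, 4, 3, 2, 3, 5, 1, 2, 3, 2, 1] (.node (.node .leaf 528 [6, 4, 3, 2, 3, 5, 1, 2, 3, 2, 1] .leaf) 529 [6, 5, 3, 2, 3, 5, 1, 2, 3, 2, 1] (.node .leaf 530 [3, 6, 3, 2, 3, 5, 1, 2, 3, 2, 1] .leaf)))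

def lev1T0_70 : WTree := (.node (.node (.node .leaf 532 [2, 3, 4, 2, 3, 5, 1, 2, 3, 2, 1] .leaf) 533 [5, 3, 4, 2, 3, 5, 1, 2, 3, 2, 1] (.node .leaf 534 [6, 3, 4, 2, 3, 5, 1, 2, 3, 2, 1] .leaf)) 535 [2, 3, 6, 2, 3, 5, 1, 2, 3, 2, 1] (.node (.node .leaf 536 [4, 3, 6, 2, 3, 5, 1, 2, 3, 2, 1] .leaf) 537 [5, 3, 6, 2, 3, 5, 1, 2, 3, 2, 1] (.node .leaf 538 [3, 5, 6, 2, 3, 5, 1, 2, 3, 2, 1] .leaf)))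

def lev1T0_71 : WTree := (.node (.node (.node .leaf 540 [1, 2, 3, 5, 3, 4, 3, 2, 3, 2, 1] .leaf) 541 [0, 1, 2, 3, 5, 4, 3, 2, 3, 2, 1] (.node .leaf 542 [4, 1, 2, 3, 5, 4, 3, 2, 3, 2, 1] .leaf)) 543 [3, 1, 2, 3, 5, 6, 3, 2, 3, 2, 1] (.node (.node .leaf 544 [2, 3, 2, 3, 5, 6, 3, 2, 3, 2, 1] .leaf) 545 [5, 3, 2, 3, 5, 6, 3, 2, 3, 2, 1] (.node .leaf 546 [2, 3, 1, 2, 3, 5, 4, 2, 3, 2, 1] .leaf)))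

def lev1T0_72 : WTree := (.node (.node (.node .leaf 548 [1, 2, 3, 1, 2, 3, 5, 4, 3, 2, 1] .leaf) 549 [3, 2, 3, 1, 2, 3, 5, 4, 3, 2, 1] (.node .leaf 550 [6, 2, 3, 1, 2, 3, 5, 4, 3, 2, 1] .leaf)) 551 [2, 3, 1, 2, 3, 0, 1, 2, 3, 6, 1] (.node (.node .leaf 552 [4, 3, 1, 2, 3, 0, 1, 2, 3, 6, 1] .leaf) 553 [5, 3, 1, 2, 3, 0, 1, 2, 3, 6, 1] (.node .leaf 554 [6, 3, 1, 2, 3, 0, 1, 2, 3, 6, 1] .leaf)))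

def lev1T0_73 : WTree := (.node (.node (.node .leaf 556 [3, 6, 1, 2, 3, 0, 1, 2, 3, 6, 1] .leaf) 557 [5, 4, 3, 2, 3, 0, 1, 2, 3, 6, 1] (.node .leaf 558 [6, 4, 3, 2, 3, 0, 1, 2, 3, 6, 1] .leaf)) 559 [3, 5, 3, 2, 3, 0, 1, 2, 3, 6, 1] (.node (.node .leaf 560 [6, 5, 3, 2, 3, 0, 1, 2, 3, 6, 1] .leaf) 561 [3, 6, 3, 2, 3, 0, 1, 2, 3, 6, 1] (.node .leaf 562 [5, 6, 3, 2, 3, 0, 1, 2, 3, 6, 1] .leaf)))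

def lev1T0_74 : WTree := (.node (.node (.node .leaf 564 [4, 3, 5, 2, 3, 0, 1, 2, 3, 6, 1] .leaf) 565 [2, 3, 6, 2, 3, 0, 1, 2, 3, 6, 1] (.node .leaf 566 [4, 3, 6, 2, 3, 0, 1, 2, 3, 6, 1] .leaf)) 567 [2, 3, 5, 4, 3, 0, 1, 2, 3, 6, 1] (.node (.node .leaf 568 [4, 3, 2, 3, 5, 0, 1, 2, 3, 6, 1] .leaf) 569 [5, 3, 2, 3, 5, 0, 1, 2, 3, 6, 1] (.node .leaf 570 [6, 3, 2, 3, 5, 0, 1, 2, 3, 6, 1] .leaf)))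

def lev1T0_75 : WTree := (.node (.node (.node .leaf 572 [4, 1, 2, 3, 2, 3, 1, 2, 3, 6, 1] .leaf) 573 [5, 1, 2, 3, 2, 3, 1, 2, 3, 6, 1] (.node .leaf 574 [6, 1, 2, 3, 2, 3, 1, 2, 3, 6, 1] .leaf)) 575 [3, 4, 2, 3, 2, 3, 1, 2, 3, 6, 1] (.node (.node .leaf 576 [5, 4, 2, 3, 2, 3, 1, 2, 3, 6, 1] .leaf) 577 [6, 4, 2, 3, 2, 3, 1, 2, 3, 6, 1] (.node .leaf 578 [3, 5, 2, 3, 2, 3, 1, 2, 3, 6, 1] .leaf)))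

def lev1T0_76 : WTree := (.node (.node (.node .leaf 580 [3, 6, 2, 3, 2, 3, 1, 2, 3, 6, 1] .leaf) 581 [5, 6, 2, 3, 2, 3, 1, 2, 3, 6, 1] (.node .leaf 582 [2, 3, 4, 3, 2, 3, 1, 2, 3, 6, 1] .leaf)) 583 [5, 3, 4, 3, 2, 3, 1, 2, 3, 6, 1] (.node (.node .leaf 584 [6, 3, 4, 3, 2, 3, 1, 2, 3, 6, 1] .leaf) 585 [3, 5, 4, 3, 2, 3, 1, 2, 3, 6, 1] (.node .leaf 586 [3, 6, 4, 3, 2, 3, 1, 2, 3, 6, 1] .leaf)))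

def lev1T0_77 : WTree := (.node (.node (.node .leaf 588 [4, 3, 5, 3, 2, 3, 1, 2, 3, 6, 1] .leaf) 589 [6, 3, 5, 3, 2, 3, 1, 2, 3, 6, 1] (.node .leaf 590 [3, 6, 5, 3, 2, 3, 1, 2, 3, 6, 1] .leaf)) 591 [2, 3, 6, 3, 2, 3, 1, 2, 3, 6, 1] (.node (.node .leaf 592 [4, 3, 6, 3, 2, 3, 1, 2, 3, 6, 1] .leaf) 593 [5, 3, 6, 3, 2, 3, 1, 2, 3, 6, 1] (.node .leaf 594 [3, 5, 6, 3, 2, 3, 1, 2, 3, 6, 1] .leaf)))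

def lev1T0_78 : WTree := (.node (.node (.node .leaf 596 [3, 2, 3, 4, 2, 3, 1, 2, 3, 6, 1] .leaf) 597 [5, 2, 3, 4, 2, 3, 1, 2, 3, 6, 1] (.node .leaf 598 [6, 2, 3, 4, 2, 3, 1, 2, 3, 6, 1] .leaf)) 599 [3, 5, 3, 4, 2, 3, 1, 2, 3, 6, 1] (.node (.node .leaf 600 [6, 5, 3, 4, 2, 3, 1, 2, 3, 6, 1] .leaf) 601 [3, 6, 3, 4, 2, 3, 1, 2, 3, 6, 1] (.node .leaf 602 [5, 6, 3, 4, 2, 3, 1, 2, 3, 6, 1] .leaf)))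

def lev1T0_79 : WTree := (.node (.node (.node .leaf 604 [4, 3, 5, 4, 2, 3, 1, 2, 3, 6, 1] .leaf) 605 [2, 3, 6, 4, 2, 3, 1, 2, 3, 6, 1] (.node .leaf 606 [4, 3, 6, 4, 2, 3, 1, 2, 3, 6, 1] .leaf)) 607 [1, 2, 3, 5, 2, 3, 1, 2, 3, 6, 1] (.node (.node .leaf 608 [3, 2, 3, 5, 2, 3, 1, 2, 3, 6, 1] .leaf) 609 [4, 2, 3, 5, 2, 3, 1, 2, 3, 6, 1] (.node .leaf 610 [1, 2, 3, 6, 2, 3, 1, 2, 3, 6, 1] .leaf)))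

def lev1T0_80 : WTree := (.node (.node (.node .leaf 612 [4, 2, 3, 6, 2, 3, 1, 2, 3, 6, 1] .leaf) 613 [3, 2, 3, 6, 4, 3, 1, 2, 3, 6, 1] (.node .leaf 614 [3, 4, 3, 2, 3, 5, 1, 2, 3, 6, 1] .leaf)) 615 [5, 4, 3, 2, 3, 5, 1, 2, 3, 6, 1] (.node (.node .leaf 616 [6, 4, 3, 2, 3, 5, 1, 2, 3, 6, 1] .leaf) 617 [6, 5, 3, 2, 3, 5, 1, 2, 3, 6, 1] (.node .leaf 618 [3, 6, 3, 2, 3, 5, 1, 2, 3, 6, 1] .leaf)))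

def lev1T0_81 : WTree := (.node (.node (.node .leaf 620 [2, 3, 4, 2, 3, 5, 1, 2, 3, 6, 1] .leaf) 621 [5, 3, 4, 2, 3, 5, 1, 2, 3, 6, 1] (.node .leaf 622 [6, 3, 4, 2, 3, 5, 1, 2, 3, 6, 1] .leaf)) 623 [5, 3, 6, 2, 3, 5, 1, 2, 3, 6, 1] (.node (.node .leaf 624 [3, 2, 3, 1, 2, 3, 0, 1, 2, 3, 6] .leaf) 625 [4, 2, 3, 1, 2, 3, 0, 1, 2, 3, 6] (.node .leaf 626 [5, 2, 3, 1, 2, 3, 0, 1, 2, 3, 6] .leaf)))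

def lev1T0_82 : WTree := (.node (.node (.node .leaf 628 [6, 4, 3, 1, 2, 3, 0, 1, 2, 3, 6] .leaf) 629 [6, 5, 3, 1, 2, 3, 0, 1, 2, 3, 6] (.node .leaf 630 [0, 1, 2, 3, 2, 3, 0, 1, 2, 3, 6] .leaf)) 631 [4, 1, 2, 3, 2, 3, 0, 1, 2, 3, 6] (.node (.node .leaf 632 [5, 1, 2, 3, 2, 3, 0, 1, 2, 3, 6] .leaf) 633 [3, 4, 2, 3, 2, 3, 0, 1, 2, 3, 6] (.node .leaf 634 [5, 4, 2, 3, 2, 3, 0, 1, 2, 3, 6] .leaf)))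

def lev1T0_83 : WTree := (.node (.node (.node .leaf 636 [3, 5, 2, 3, 2, 3, 0, 1, 2, 3, 6] .leaf) 637 [6, 5, 2, 3, 2, 3, 0, 1, 2, 3, 6] (.node .leaf 638 [3, 6, 2, 3, 2, 3, 0, 1, 2, 3, 6] .leaf)) 639 [2, 3, 4, 3, 2, 3, 0, 1, 2, 3, 6] (.node (.node .leaf 640 [5, 3, 4, 3, 2, 3, 0, 1, 2, 3, 6] .leaf) 641 [6, 3, 4, 3, 2, 3, 0, 1, 2, 3, 6] (.node .leaf 642 [3, 5, 4, 3, 2, 3, 0, 1, 2, 3, 6] .leaf)))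

def lev1T0_84 : WTree := (.node (.node (.node (.node lev1T0_68 523 [4, 2, 3, 2, 3, 5, 1, 2, 3, 2, 1] lev1T0_69) 531 [5, 6, 3, 2, 3, 5, 1, 2, 3, 2, 1] (.node lev1T0_70 539 [2, 3, 5, 6, 3, 5, 1, 2, 3, 2, 1] lev1T0_71)) 547 [2, 3, 4, 1, 2, 3, 5, 2, 3, 2, 1] (.node (.node lev1T0_72 555 [3, 5, 1, 2, 3, 0, 1, 2, 3, 6, 1] lev1T0_73) 563 [2, 3, 5, 2, 3, 0, 1, 2, 3, 6, 1] (.node lev1T0_74 571 [0, 1, 2, 3, 2, 3, 1, 2, 3, 6, 1] lev1T0_75))) 579 [6, 5, 2, 3, 2, 3, 1, 2, 3, 6, 1] (.node (.node (.node lev1T0_76 587 [2, 3, 5, 3, 2, 3, 1, 2, 3, 6, 1] lev1T0_77) 595 [1, 2, 3, 4, 2, 3, 1, 2, 3, 6, 1] (.node lev1T0_78 603 [2, 3, 5, 4, 2, 3, 1, 2, 3, 6, 1] lev1T0_79)) 611 [3, 2, 3, 6, 2, 3, 1, 2, 3, 6, 1] (.node (.node lev1T0_80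 619 [5, 6, 3, 2, 3, 5, 1, 2, 3, 6, 1] lev1T0_81) 627 [5, 4, 3, 1, 2, 3, 0, 1, 2, 3, 6] (.node lev1T0_82 635 [6, 4, 2, 3, 2, 3, 0, 1, 2, 3, 6] lev1T0_83))))

def lev1T0_85 : WTree := (.node (.node (.node (.node .leaf 644 [3, 6, 5, 3, 2, 3, 0, 1, 2, 3, 6] .leaf) 645 [2, 3, 6, 3, 2, 3, 0, 1, 2, 3, 6] .leaf) 646 [4, 3, 6, 3, 2, 3, 0, 1, 2, 3, 6] (.node .leaf 647 [5, 3, 6, 3, 2, 3, 0, 1, 2, 3, 6] .leaf)) 648 [3, 5, 6, 3, 2, 3, 0, 1, 2, 3, 6] (.node (.node .leaf 649 [1, 2, 3, 4, 2, 3, 0, 1, 2, 3, 6] .leaf) 650 [3, 2, 3, 4, 2, 3, 0, 1, 2, 3, 6] (.node .leaf 651 [5, 2, 3, 4, 2, 3, 0, 1, 2, 3, 6] .leaf)))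

def lev1T0_86 : WTree := (.node (.node (.node .leaf 653 [6, 5, 3, 4, 2, 3, 0, 1, 2, 3, 6] .leaf) 654 [5, 6, 3, 4, 2, 3, 0, 1, 2, 3, 6] (.node .leaf 655 [1, 2, 3, 6, 2, 3, 0, 1, 2, 3, 6] .leaf)) 656 [3, 2, 3, 6, 2, 3, 0, 1, 2, 3, 6] (.node (.node .leaf 657 [4, 2, 3, 6, 2, 3, 0, 1, 2, 3, 6] .leaf) 658 [5, 2, 3, 6, 2, 3, 0, 1, 2, 3, 6] (.node .leaf 659 [5, 4, 3, 6, 2, 3, 0, 1, 2, 3, 6] .leaf)))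

def lev1T0_87 : WTree := (.node (.node (.node .leaf 661 [0, 1, 2, 3, 1, 2, 3, 1, 2, 3, 6] .leaf) 662 [3, 1, 2, 3, 1, 2, 3, 1, 2, 3, 6] (.node .leaf 663 [4, 1, 2, 3, 1, 2, 3, 1, 2, 3, 6] .leaf)) 664 [6, 1, 2, 3, 1, 2, 3, 1, 2, 3, 6] (.node (.node .leaf 665 [4, 3, 2, 3, 1, 2, 3, 1, 2, 3, 6] .leaf) 666 [6, 3, 2, 3, 1, 2, 3, 1, 2, 3, 6] (.node .leaf 667 [3, 4, 2, 3, 1, 2, 3, 1, 2, 3, 6] .leaf)))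

def lev1T0_88 : WTree := (.node (.node (.node .leaf 669 [6, 4, 2, 3, 1, 2, 3, 1, 2, 3, 6] .leaf) 670 [3, 6, 2, 3, 1, 2, 3, 1, 2, 3, 6] (.node .leaf 671 [5, 6, 2, 3, 1, 2, 3, 1, 2, 3, 6] .leaf)) 672 [2, 3, 4, 3, 1, 2, 3, 1, 2, 3, 6] (.node (.node .leaf 673 [5, 3, 4, 3, 1, 2, 3, 1, 2, 3, 6] .leaf) 674 [6, 3, 4, 3, 1, 2, 3, 1, 2, 3, 6] (.node .leaf 675 [3, 5, 4, 3, 1, 2, 3, 1, 2, 3, 6] .leaf)))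

def lev1T0_89 : WTree := (.node (.node (.node .leaf 677 [3, 6, 5, 3, 1, 2, 3, 1, 2, 3, 6] .leaf) 678 [3, 5, 6, 3, 1, 2, 3, 1, 2, 3, 6] (.node .leaf 679 [1, 2, 3, 4, 1, 2, 3, 1, 2, 3, 6] .leaf)) 680 [3, 2, 3, 4, 1, 2, 3, 1, 2, 3, 6] (.node (.node .leaf 681 [5, 2, 3, 4, 1, 2, 3, 1, 2, 3, 6] .leaf) 682 [6, 2, 3, 4, 1, 2, 3, 1, 2, 3, 6] (.node .leaf 683 [6, 5, 3, 4, 1, 2, 3, 1, 2, 3, 6] .leaf)))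

def lev1T0_90 : WTree := (.node (.node (.node .leaf 685 [3, 0, 1, 2, 3, 2, 3, 1, 2, 3, 6] .leaf) 686 [5, 0, 1, 2, 3, 2, 3, 1, 2, 3, 6] (.node .leaf 687 [6, 0, 1, 2, 3, 2, 3, 1, 2, 3, 6] .leaf)) 688 [2, 3, 1, 2, 3, 2, 3, 1, 2, 3, 6] (.node (.node .leaf 689 [4, 3, 1, 2, 3, 2, 3, 1, 2, 3, 6] .leaf) 690 [5, 3, 1, 2, 3, 2, 3, 1, 2, 3, 6] (.node .leaf 691 [6, 3, 1, 2, 3, 2, 3, 1, 2, 3, 6] .leaf)))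

def lev1T0_91 : WTree := (.node (.node (.node .leaf 693 [5, 4, 1, 2, 3, 2, 3, 1, 2, 3, 6] .leaf) 694 [6, 4, 1, 2, 3, 2, 3, 1, 2, 3, 6] (.node .leaf 695 [3, 5, 1, 2, 3, 2, 3, 1, 2, 3, 6] .leaf)) 696 [3, 6, 1, 2, 3, 2, 3, 1, 2, 3, 6] (.node (.node .leaf 697 [5, 6, 1, 2, 3, 2, 3, 1, 2, 3, 6] .leaf) 698 [3, 4, 3, 2, 3, 2, 3, 1, 2, 3, 6] (.node .leaf 699 [5, 4, 3, 2, 3, 2, 3, 1, 2, 3, 6] .leaf)))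

def lev1T0_92 : WTree := (.node (.node (.node .leaf 701 [3, 5, 3, 2, 3, 2, 3, 1, 2, 3, 6] .leaf) 702 [6, 5, 3, 2, 3, 2, 3, 1, 2, 3, 6] (.node .leaf 703 [3, 6, 3, 2, 3, 2, 3, 1, 2, 3, 6] .leaf)) 704 [5, 6, 3, 2, 3, 2, 3, 1, 2, 3, 6] (.node (.node .leaf 705 [5, 3, 4, 2, 3, 2, 3, 1, 2, 3, 6] .leaf) 706 [3, 5, 4, 2, 3, 2, 3, 1, 2, 3, 6] (.node .leaf 707 [2, 3, 5, 2, 3, 2, 3, 1, 2, 3, 6] .leaf)))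

def lev1T0_93 : WTree := (.node (.node (.node .leaf 709 [6, 3, 5, 2, 3, 2, 3, 1, 2, 3, 6] .leaf) 710 [3, 6, 5, 2, 3, 2, 3, 1, 2, 3, 6] (.node .leaf 711 [2, 3, 6, 2, 3, 2, 3, 1, 2, 3, 6] .leaf)) 712 [5, 3, 6, 2, 3, 2, 3, 1, 2, 3, 6] (.node (.node .leaf 713 [3, 5, 6, 2, 3, 2, 3, 1, 2, 3, 6] .leaf) 714 [3, 2, 3, 4, 3, 2, 3, 1, 2, 3, 6] (.node .leaf 715 [5, 2, 3, 4, 3, 2, 3, 1, 2, 3, 6] .leaf)))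

def lev1T0_94 : WTree := (.node (.node (.node .leaf 717 [3, 5, 3, 4, 3, 2, 3, 1, 2, 3, 6] .leaf) 718 [3, 6, 3, 4, 3, 2, 3, 1, 2, 3, 6] (.node .leaf 719 [2, 3, 5, 4, 3, 2, 3, 1, 2, 3, 6] .leaf)) 720 [6, 3, 5, 4, 3, 2, 3, 1, 2, 3, 6] (.node (.node .leaf 721 [2, 3, 6, 4, 3, 2, 3, 1, 2, 3, 6] .leaf) 722 [5, 3, 6, 4, 3, 2, 3, 1, 2, 3, 6] (.node .leaf 723 [4, 3, 6, 5, 3, 2, 3, 1, 2, 3, 6] .leaf)))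

def lev1T0_95 : WTree := (.node (.node (.node .leaf 725 [2, 3, 5, 6, 3, 2, 3, 1, 2, 3, 6] .leaf) 726 [4, 3, 5, 6, 3, 2, 3, 1, 2, 3, 6] (.node .leaf 727 [6, 3, 5, 6, 3, 2, 3, 1, 2, 3, 6] .leaf)) 728 [5, 1, 2, 3, 4, 2, 3, 1, 2, 3, 6] (.node (.node .leaf 729 [6, 1, 2, 3, 4, 2, 3, 1, 2, 3, 6] .leaf) 730 [4, 3, 2, 3, 4, 2, 3, 1, 2, 3, 6] (.node .leaf 731 [3, 5, 2, 3, 4, 2, 3, 1, 2, 3, 6] .leaf)))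

def lev1T0_96 : WTree := (.node (.node (.node .leaf 733 [3, 6, 5, 3, 4, 2, 3, 1, 2, 3, 6] .leaf) 734 [3, 5, 6, 3, 4, 2, 3, 1, 2, 3, 6] (.node .leaf 735 [2, 3, 2, 3, 6, 4, 3, 1, 2, 3, 6] .leaf)) 736 [4, 3, 2, 3, 6, 4, 3, 1, 2, 3, 6] (.node (.node .leaf 737 [5, 3, 2, 3, 6, 4, 3, 1, 2, 3, 6] .leaf) 738 [6, 3, 2, 3, 6, 4, 3, 1, 2, 3, 6] (.node .leaf 739 [2, 3, 2, 3, 5, 6, 3, 1, 2, 3, 6] .leaf)))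

def lev1T0_97 : WTree := (.node (.node (.node .leaf 741 [2, 3, 5, 1, 2, 3, 0, 1, 2, 3, 2, 1] .leaf) 742 [4, 3, 5, 1, 2, 3, 0, 1, 2, 3, 2, 1] (.node .leaf 743 [6, 3, 5, 1, 2, 3, 0, 1, 2, 3, 2, 1] .leaf)) 744 [2, 3, 6, 1, 2, 3, 0, 1, 2, 3, 2, 1] (.node (.node .leaf 745 [4, 3, 6, 1, 2, 3, 0, 1, 2, 3, 2, 1] .leaf) 746 [5, 3, 6, 1, 2, 3, 0, 1, 2, 3, 2, 1] (.node .leaf 747 [1, 2, 3, 5, 2, 3, 0, 1, 2, 3, 2, 1] .leaf)))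

def lev1T0_98 : WTree := (.node (.node (.node .leaf 749 [4, 2, 3, 5, 2, 3, 0, 1, 2, 3, 2, 1] .leaf) 750 [6, 2, 3, 5, 2, 3, 0, 1, 2, 3, 2, 1] (.node .leaf 751 [6, 4, 3, 5, 2, 3, 0, 1, 2, 3, 2, 1] .leaf)) 752 [3, 6, 3, 5, 2, 3, 0, 1, 2, 3, 2, 1] (.node (.node .leaf 753 [5, 6, 3, 5, 2, 3, 0, 1, 2, 3, 2, 1] .leaf) 754 [2, 3, 6, 5, 2, 3, 0, 1, 2, 3, 2, 1] (.node .leaf 755 [4, 3, 6, 5, 2, 3, 0, 1, 2, 3, 2, 1] .leaf)))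

def lev1T0_99 : WTree := (.node (.node (.node .leaf 757 [3, 2, 3, 6, 2, 3, 0, 1, 2, 3, 2, 1] .leaf) 758 [4, 2, 3, 6, 2, 3, 0, 1, 2, 3, 2, 1] (.node .leaf 759 [5, 4, 3, 6, 2, 3, 0, 1, 2, 3, 2, 1] .leaf)) 760 [3, 5, 3, 6, 2, 3, 0, 1, 2, 3, 2, 1] (.node (.node .leaf 761 [6, 5, 3, 6, 2, 3, 0, 1, 2, 3, 2, 1] .leaf) 762 [2, 3, 5, 6, 2, 3, 0, 1, 2, 3, 2, 1] (.node .leaf 763 [4, 3, 5, 6, 2, 3, 0, 1, 2, 3, 2, 1] .leaf)))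

def lev1T0_100 : WTree := (.node (.node (.node .leaf 765 [1, 2, 3, 5, 4, 3, 0, 1, 2, 3, 2, 1] .leaf) 766 [3, 2, 3, 5, 4, 3, 0, 1, 2, 3, 2, 1] (.node .leaf 767 [6, 2, 3, 5, 4, 3, 0, 1, 2, 3, 2, 1] .leaf)) 768 [3, 2, 3, 6, 4, 3, 0, 1, 2, 3, 2, 1] (.node (.node .leaf 769 [2, 3, 2, 3, 5, 3, 0, 1, 2, 3, 2, 1] .leaf) 770 [4, 3, 2, 3, 5, 3, 0, 1, 2, 3, 2, 1] (.node .leaf 771 [5, 3, 2, 3, 5, 3, 0, 1, 2, 3, 2, 1] .leaf)))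

def lev1T0_101 : WTree := (.node (.node (.node (.node lev1T0_85 652 [6, 2, 3, 4, 2, 3, 0, 1, 2, 3, 6] lev1T0_86) 660 [6, 5, 3, 6, 2, 3, 0, 1, 2, 3, 6] (.node lev1T0_87 668 [5, 4, 2, 3, 1, 2, 3, 1, 2, 3, 6] lev1T0_88)) 676 [3, 6, 4, 3, 1, 2, 3, 1, 2, 3, 6] (.node (.node lev1T0_89 684 [5, 6, 3, 4, 1, 2, 3, 1, 2, 3, 6] lev1T0_90) 692 [3, 4, 1, 2, 3, 2, 3, 1, 2, 3, 6] (.node lev1T0_91 700 [6, 4, 3, 2, 3, 2, 3, 1, 2, 3, 6] lev1T0_92))) 708 [4, 3, 5, 2, 3, 2, 3, 1, 2, 3, 6] (.node (.node (.node lev1T0_93 716 [6, 2, 3, 4, 3, 2, 3, 1, 2, 3, 6] lev1T0_94) 724 [5, 3, 6, 5, 3, 2, 3, 1, 2, 3, 6] (.node lev1T0_95 732 [5, 6, 2, 3, 4, 2, 3, 1, 2, 3, 6] lev1T0_96)) 740 [6, 3, 2, 3, 5, 6, 3, 1, 2, 3, 6] (.node (.node lev1T0_97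 748 [3, 2, 3, 5, 2, 3, 0, 1, 2, 3, 2, 1] lev1T0_98) 756 [5, 3, 6, 5, 2, 3, 0, 1, 2, 3, 2, 1] (.node lev1T0_99 764 [6, 3, 5, 6, 2, 3, 0, 1, 2, 3, 2, 1] lev1T0_100))))

def lev1T0_102 : WTree := (.node (.node (.node (.node .leaf 773 [3, 2, 3, 5, 6, 3, 0, 1, 2, 3, 2, 1] .leaf) 774 [4, 3, 1, 2, 3, 5, 0, 1, 2, 3, 2, 1] .leaf) 775 [5, 3, 1, 2, 3, 5, 0, 1, 2, 3, 2, 1] (.node .leaf 776 [1, 2, 3, 2, 3, 5, 0, 1, 2, 3, 2, 1] .leaf)) 777 [4, 2, 3, 2, 3, 5, 0, 1, 2, 3, 2, 1] (.node (.node .leaf 778 [5, 2, 3, 2, 3, 5, 0, 1, 2, 3, 2, 1] .leaf) 779 [6, 2, 3, 2, 3, 5, 0, 1, 2, 3, 2, 1] (.node .leaf 780 [5, 4, 3, 2, 3, 5, 0, 1, 2, 3, 2, 1] .leaf)))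

def lev1T0_103 : WTree := (.node (.node (.node .leaf 782 [6, 5, 3, 2, 3, 5, 0, 1, 2, 3, 2, 1] .leaf) 783 [1, 2, 3, 5, 3, 2, 3, 1, 2, 3, 2, 1] (.node .leaf 784 [3, 2, 3, 5, 3, 2, 3, 1, 2, 3, 2, 1] .leaf)) 785 [4, 2, 3, 5, 3, 2, 3, 1, 2, 3, 2, 1] (.node (.node .leaf 786 [6, 2, 3, 5, 3, 2, 3, 1, 2, 3, 2, 1] .leaf) 787 [1, 2, 3, 6, 3, 2, 3, 1, 2, 3, 2, 1] (.node .leaf 788 [3, 2, 3, 6, 3, 2, 3, 1, 2, 3, 2, 1] .leaf)))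

def lev1T0_104 : WTree := (.node (.node (.node .leaf 790 [5, 2, 3, 6, 3, 2, 3, 1, 2, 3, 2, 1] .leaf) 791 [0, 1, 2, 3, 5, 2, 3, 1, 2, 3, 2, 1] (.node .leaf 792 [3, 1, 2, 3, 5, 2, 3, 1, 2, 3, 2, 1] .leaf)) 793 [4, 1, 2, 3, 5, 2, 3, 1, 2, 3, 2, 1] (.node (.node .leaf 794 [6, 1, 2, 3, 5, 2, 3, 1, 2, 3, 2, 1] .leaf) 795 [2, 3, 2, 3, 5, 2, 3, 1, 2, 3, 2, 1] (.node .leaf 796 [4, 3, 2, 3, 5, 2, 3, 1, 2, 3, 2, 1] .leaf)))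

def lev1T0_105 : WTree := (.node (.node (.node .leaf 798 [6, 3, 2, 3, 5, 2, 3, 1, 2, 3, 2, 1] .leaf) 799 [3, 4, 2, 3, 5, 2, 3, 1, 2, 3, 2, 1] (.node .leaf 800 [6, 4, 2, 3, 5, 2, 3, 1, 2, 3, 2, 1] .leaf)) 801 [3, 6, 2, 3, 5, 2, 3, 1, 2, 3, 2, 1] (.node (.node .leaf 802 [3, 6, 4, 3, 5, 2, 3, 1, 2, 3, 2, 1] .leaf) 803 [2, 3, 6, 3, 5, 2, 3, 1, 2, 3, 2, 1] (.node .leaf 804 [4, 3, 6, 3, 5, 2, 3, 1, 2, 3, 2, 1] .leaf)))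

def lev1T0_106 : WTree := (.node (.node (.node .leaf 806 [3, 5, 6, 3, 5, 2, 3, 1, 2, 3, 2, 1] .leaf) 807 [1, 2, 3, 6, 5, 2, 3, 1, 2, 3, 2, 1] (.node .leaf 808 [3, 2, 3, 6, 5, 2, 3, 1, 2, 3, 2, 1] .leaf)) 809 [4, 2, 3, 6, 5, 2, 3, 1, 2, 3, 2, 1] (.node (.node .leaf 810 [5, 2, 3, 6, 5, 2, 3, 1, 2, 3, 2, 1] .leaf) 811 [5, 4, 3, 6, 5, 2, 3, 1, 2, 3, 2, 1] (.node .leaf 812 [6, 5, 3, 6, 5, 2, 3, 1, 2, 3, 2, 1] .leaf)))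

def lev1T0_107 : WTree := (.node (.node (.node .leaf 814 [3, 1, 2, 3, 6, 2, 3, 1, 2, 3, 2, 1] .leaf) 815 [4, 1, 2, 3, 6, 2, 3, 1, 2, 3, 2, 1] (.node .leaf 816 [4, 3, 2, 3, 6, 2, 3, 1, 2, 3, 2, 1] .leaf)) 817 [5, 3, 2, 3, 6, 2, 3, 1, 2, 3, 2, 1] (.node (.node .leaf 818 [6, 3, 2, 3, 6, 2, 3, 1, 2, 3, 2, 1] .leaf) 819 [3, 4, 2, 3, 6, 2, 3, 1, 2, 3, 2, 1] (.node .leaf 820 [5, 4, 2, 3, 6, 2, 3, 1, 2, 3, 2, 1] .leaf)))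

def lev1T0_108 : WTree := (.node (.node (.node .leaf 822 [3, 5, 4, 3, 6, 2, 3, 1, 2, 3, 2, 1] .leaf) 823 [2, 3, 5, 3, 6, 2, 3, 1, 2, 3, 2, 1] (.node .leaf 824 [4, 3, 5, 3, 6, 2, 3, 1, 2, 3, 2, 1] .leaf)) 825 [6, 3, 5, 3, 6, 2, 3, 1, 2, 3, 2, 1] (.node (.node .leaf 826 [3, 6, 5, 3, 6, 2, 3, 1, 2, 3, 2, 1] .leaf) 827 [3, 2, 3, 5, 6, 2, 3, 1, 2, 3, 2, 1] (.node .leaf 828 [4, 2, 3, 5, 6, 2, 3, 1, 2, 3, 2, 1] .leaf)))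

def lev1T0_109 : WTree := (.node (.node (.node .leaf 830 [0, 1, 2, 3, 5, 4, 3, 1, 2, 3, 2, 1] .leaf) 831 [3, 1, 2, 3, 5, 4, 3, 1, 2, 3, 2, 1] (.node .leaf 832 [4, 1, 2, 3, 5, 4, 3, 1, 2, 3, 2, 1] .leaf)) 833 [2, 3, 2, 3, 5, 4, 3, 1, 2, 3, 2, 1] (.node (.node .leaf 834 [4, 3, 2, 3, 5, 4, 3, 1, 2, 3, 2, 1] .leaf) 835 [5, 3, 2, 3, 5, 4, 3, 1, 2, 3, 2, 1] (.node .leaf 836 [6, 3, 2, 3, 5, 4, 3, 1, 2, 3, 2, 1] .leaf)))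

def lev1T0_110 : WTree := (.node (.node (.node .leaf 838 [6, 4, 2, 3, 5, 4, 3, 1, 2, 3, 2, 1] .leaf) 839 [3, 6, 2, 3, 5, 4, 3, 1, 2, 3, 2, 1] (.node .leaf 840 [5, 6, 2, 3, 5, 4, 3, 1, 2, 3, 2, 1] .leaf)) 841 [3, 1, 2, 3, 6, 4, 3, 1, 2, 3, 2, 1] (.node (.node .leaf 842 [2, 3, 2, 3, 6, 4, 3, 1, 2, 3, 2, 1] .leaf) 843 [4, 3, 2, 3, 6, 4, 3, 1, 2, 3, 2, 1] (.node .leaf 844 [5, 3, 2, 3, 6, 4, 3, 1, 2, 3, 2, 1] .leaf)))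

def lev1T0_111 : WTree := (.node (.node (.node .leaf 846 [3, 2, 3, 2, 3, 5, 3, 1, 2, 3, 2, 1] .leaf) 847 [3, 4, 3, 2, 3, 5, 3, 1, 2, 3, 2, 1] (.node .leaf 848 [5, 4, 3, 2, 3, 5, 3, 1, 2, 3, 2, 1] .leaf)) 849 [2, 3, 4, 2, 3, 5, 3, 1, 2, 3, 2, 1] (.node (.node .leaf 850 [5, 3, 4, 2, 3, 5, 3, 1, 2, 3, 2, 1] .leaf) 851 [6, 3, 4, 2, 3, 5, 3, 1, 2, 3, 2, 1] (.node .leaf 852 [3, 1, 2, 3, 5, 6, 3, 1, 2, 3, 2, 1] .leaf)))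

def lev1T0_112 : WTree := (.node (.node (.node .leaf 854 [4, 3, 2, 3, 5, 6, 3, 1, 2, 3, 2, 1] .leaf) 855 [5, 3, 2, 3, 5, 6, 3, 1, 2, 3, 2, 1] (.node .leaf 856 [4, 3, 0, 1, 2, 3, 5, 1, 2, 3, 2, 1] .leaf)) 857 [6, 3, 0, 1, 2, 3, 5, 1, 2, 3, 2, 1] (.node (.node .leaf 858 [3, 2, 3, 1, 2, 3, 5, 1, 2, 3, 2, 1] .leaf) 859 [5, 4, 3, 1, 2, 3, 5, 1, 2, 3, 2, 1] (.node .leaf 860 [3, 4, 2, 3, 2, 3, 5, 1, 2, 3, 2, 1] .leaf)))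

def lev1T0_113 : WTree := (.node (.node (.node .leaf 862 [3, 5, 2, 3, 2, 3, 5, 1, 2, 3, 2, 1] .leaf) 863 [3, 6, 2, 3, 2, 3, 5, 1, 2, 3, 2, 1] (.node .leaf 864 [6, 3, 4, 3, 2, 3, 5, 1, 2, 3, 2, 1] .leaf)) 865 [3, 5, 4, 3, 2, 3, 5, 1, 2, 3, 2, 1] (.node (.node .leaf 866 [3, 6, 4, 3, 2, 3, 5, 1, 2, 3, 2, 1] .leaf) 867 [3, 6, 5, 3, 2, 3, 5, 1, 2, 3, 2, 1] (.node .leaf 868 [4, 3, 6, 3, 2, 3, 5, 1, 2, 3, 2, 1] .leaf)))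

def lev1T0_114 : WTree := (.node (.node (.node .leaf 870 [3, 2, 3, 4, 2, 3, 5, 1, 2, 3, 2, 1] .leaf) 871 [3, 2, 3, 6, 2, 3, 5, 1, 2, 3, 2, 1] (.node .leaf 872 [4, 2, 3, 6, 2, 3, 5, 1, 2, 3, 2, 1] .leaf)) 873 [5, 4, 3, 6, 2, 3, 5, 1, 2, 3, 2, 1] (.node (.node .leaf 874 [3, 5, 3, 6, 2, 3, 5, 1, 2, 3, 2, 1] .leaf) 875 [4, 3, 5, 6, 2, 3, 5, 1, 2, 3, 2, 1] (.node .leaf 876 [3, 2, 3, 5, 6, 3, 5, 1, 2, 3, 2, 1] .leaf)))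

def lev1T0_115 : WTree := (.node (.node (.node .leaf 878 [3, 2, 3, 1, 2, 3, 5, 4, 2, 3, 2, 1] .leaf) 879 [3, 2, 3, 4, 1, 2, 3, 5, 2, 3, 2, 1] (.node .leaf 880 [3, 6, 2, 3, 1, 2, 3, 5, 4, 3, 2, 1] .leaf)) 881 [5, 2, 3, 1, 2, 3, 0, 1, 2, 3, 6, 1] (.node (.node .leaf 882 [6, 2, 3, 1, 2, 3, 0, 1, 2, 3, 6, 1] .leaf) 883 [5, 4, 3, 1, 2, 3, 0, 1, 2, 3, 6, 1] (.node .leaf 884 [6, 4, 3, 1, 2, 3, 0, 1, 2, 3, 6, 1] .leaf)))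

def lev1T0_116 : WTree := (.node (.node (.node .leaf 886 [6, 5, 3, 1, 2, 3, 0, 1, 2, 3, 6, 1] .leaf) 887 [3, 6, 3, 1, 2, 3, 0, 1, 2, 3, 6, 1] (.node .leaf 888 [5, 6, 3, 1, 2, 3, 0, 1, 2, 3, 6, 1] .leaf)) 889 [2, 3, 5, 1, 2, 3, 0, 1, 2, 3, 6, 1] (.node (.node .leaf 890 [4, 3, 5, 1, 2, 3, 0, 1, 2, 3, 6, 1] .leaf) 891 [2, 3, 6, 1, 2, 3, 0, 1, 2, 3, 6, 1] (.node .leaf 892 [4, 3, 6, 1, 2, 3, 0, 1, 2, 3, 6, 1] .leaf)))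

def lev1T0_117 : WTree := (.node (.node (.node .leaf 894 [3, 6, 4, 3, 2, 3, 0, 1, 2, 3, 6, 1] .leaf) 895 [2, 3, 5, 3, 2, 3, 0, 1, 2, 3, 6, 1] (.node .leaf 896 [4, 3, 5, 3, 2, 3, 0, 1, 2, 3, 6, 1] .leaf)) 897 [6, 3, 5, 3, 2, 3, 0, 1, 2, 3, 6, 1] (.node (.node .leaf 898 [3, 6, 5, 3, 2, 3, 0, 1, 2, 3, 6, 1] .leaf) 899 [2, 3, 6, 3, 2, 3, 0, 1, 2, 3, 6, 1] (.node .leaf 900 [4, 3, 6, 3, 2, 3, 0, 1, 2, 3, 6, 1] .leaf)))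

def lev1T0_118 : WTree := (.node (.node (.node (.node lev1T0_102 781 [6, 4, 3, 2, 3, 5, 0, 1, 2, 3, 2, 1] lev1T0_103) 789 [4, 2, 3, 6, 3, 2, 3, 1, 2, 3, 2, 1] (.node lev1T0_104 797 [5, 3, 2, 3, 5, 2, 3, 1, 2, 3, 2, 1] lev1T0_105)) 805 [5, 3, 6, 3, 5, 2, 3, 1, 2, 3, 2, 1] (.node (.node lev1T0_106 813 [0, 1, 2, 3, 6, 2, 3, 1, 2, 3, 2, 1] lev1T0_107) 821 [6, 5, 2, 3, 6, 2, 3, 1, 2, 3, 2, 1] (.node lev1T0_108 829 [6, 4, 3, 5, 6, 2, 3, 1, 2, 3, 2, 1] lev1T0_109))) 837 [3, 4, 2, 3, 5, 4, 3, 1, 2, 3, 2, 1] (.node (.node (.node lev1T0_110 845 [6, 3, 2, 3, 6, 4, 3, 1, 2, 3, 2, 1] lev1T0_111) 853 [2, 3, 2, 3, 5, 6, 3, 1, 2, 3, 2, 1] (.node lev1T0_112 861 [5, 4, 2, 3, 2, 3, 5, 1, 2, 3, 2, 1] lev1T0_113)) 869 [3, 5, 6,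 3, 2, 3, 5, 1, 2, 3, 2, 1] (.node (.node lev1T0_114 877 [5, 3, 1, 2, 3, 5, 6, 3, 2, 3, 2, 1] lev1T0_115) 885 [3, 5, 3, 1, 2, 3, 0, 1, 2, 3, 6, 1] (.node lev1T0_116 893 [3, 5, 4, 3, 2, 3, 0, 1, 2, 3, 6, 1] lev1T0_117))))

def lev1T0_119 : WTree := (.node (.node (.node .leaf 902 [3, 5, 6, 3, 2, 3, 0, 1, 2, 3, 6, 1] .leaf) 903 [1, 2, 3, 5, 2, 3, 0, 1, 2, 3, 6, 1] (.node .leaf 904 [3, 2, 3, 5, 2, 3, 0, 1, 2, 3, 6, 1] .leaf)) 905 [4, 2, 3, 5, 2, 3, 0, 1, 2, 3, 6, 1] (.node (.node .leaf 906 [1, 2, 3, 6, 2, 3, 0, 1, 2, 3, 6, 1] .leaf) 907 [3, 2, 3, 6, 2, 3, 0, 1, 2, 3, 6, 1] (.node .leaf 908 [4, 2, 3, 6, 2, 3, 0, 1, 2, 3, 6, 1] .leaf)))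

def lev1T0_120 : WTree := (.node (.node (.node .leaf 910 [6, 4, 3, 2, 3, 5, 0, 1, 2, 3, 6, 1] .leaf) 911 [6, 5, 3, 2, 3, 5, 0, 1, 2, 3, 6, 1] (.node .leaf 912 [5, 0, 1, 2, 3, 2, 3, 1, 2, 3, 6, 1] .leaf)) 913 [6, 0, 1, 2, 3, 2, 3, 1, 2, 3, 6, 1] (.node (.node .leaf 914 [3, 4, 1, 2, 3, 2, 3, 1, 2, 3, 6, 1] .leaf) 915 [5, 4, 1, 2, 3, 2, 3, 1, 2, 3, 6, 1] (.node .leaf 916 [6, 4, 1, 2, 3, 2, 3, 1, 2, 3, 6, 1] .leaf)))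

def lev1T0_121 : WTree := (.node (.node (.node .leaf 918 [5, 6, 1, 2, 3, 2, 3, 1, 2, 3, 6, 1] .leaf) 919 [5, 3, 4, 2, 3, 2, 3, 1, 2, 3, 6, 1] (.node .leaf 920 [3, 5, 4, 2, 3, 2, 3, 1, 2, 3, 6, 1] .leaf)) 921 [2, 3, 5, 2, 3, 2, 3, 1, 2, 3, 6, 1] (.node (.node .leaf 922 [4, 3, 5, 2, 3, 2, 3, 1, 2, 3, 6, 1] .leaf) 923 [3, 5, 6, 2, 3, 2, 3, 1, 2, 3, 6, 1] (.node .leaf 924 [5, 2, 3, 4, 3, 2, 3, 1, 2, 3, 6, 1] .leaf)))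

def lev1T0_122 : WTree := (.node (.node (.node .leaf 926 [3, 5, 3, 4, 3, 2, 3, 1, 2, 3, 6, 1] .leaf) 927 [3, 6, 3, 4, 3, 2, 3, 1, 2, 3, 6, 1] (.node .leaf 928 [2, 3, 5, 4, 3, 2, 3, 1, 2, 3, 6, 1] .leaf)) 929 [4, 3, 5, 4, 3, 2, 3, 1, 2, 3, 6, 1] (.node (.node .leaf 930 [6, 3, 5, 4, 3, 2, 3, 1, 2, 3, 6, 1] .leaf) 931 [2, 3, 6, 4, 3, 2, 3, 1, 2, 3, 6, 1] (.node .leaf 932 [4, 3, 6, 4, 3, 2, 3, 1, 2, 3, 6, 1] .leaf)))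

def lev1T0_123 : WTree := (.node (.node (.node .leaf 934 [1, 2, 3, 5, 3, 2, 3, 1, 2, 3, 6, 1] .leaf) 935 [3, 2, 3, 5, 3, 2, 3, 1, 2, 3, 6, 1] (.node .leaf 936 [4, 2, 3, 5, 3, 2, 3, 1, 2, 3, 6, 1] .leaf)) 937 [6, 2, 3, 5, 3, 2, 3, 1, 2, 3, 6, 1] (.node (.node .leaf 938 [3, 6, 3, 5, 3, 2, 3, 1, 2, 3, 6, 1] .leaf) 939 [2, 3, 6, 5, 3, 2, 3, 1, 2, 3, 6, 1] (.node .leaf 940 [4, 3, 6, 5, 3, 2, 3, 1, 2, 3, 6, 1] .leaf)))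

def lev1T0_124 : WTree := (.node (.node (.node .leaf 942 [3, 2, 3, 6, 3, 2, 3, 1, 2, 3, 6, 1] .leaf) 943 [4, 2, 3, 6, 3, 2, 3, 1, 2, 3, 6, 1] (.node .leaf 944 [5, 2, 3, 6, 3, 2, 3, 1, 2, 3, 6, 1] .leaf)) 945 [3, 5, 3, 6, 3, 2, 3, 1, 2, 3, 6, 1] (.node (.node .leaf 946 [2, 3, 5, 6, 3, 2, 3, 1, 2, 3, 6, 1] .leaf) 947 [4, 3, 5, 6, 3, 2, 3, 1, 2, 3, 6, 1] (.node .leaf 948 [5, 1, 2, 3, 4, 2, 3, 1, 2, 3, 6, 1] .leaf)))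

def lev1T0_125 : WTree := (.node (.node (.node .leaf 950 [3, 5, 2, 3, 4, 2, 3, 1, 2, 3, 6, 1] .leaf) 951 [6, 5, 2, 3, 4, 2, 3, 1, 2, 3, 6, 1] (.node .leaf 952 [2, 3, 5, 3, 4, 2, 3, 1, 2, 3, 6, 1] .leaf)) 953 [3, 6, 5, 3, 4, 2, 3, 1, 2, 3, 6, 1] (.node (.node .leaf 954 [2, 3, 6, 3, 4, 2, 3, 1, 2, 3, 6, 1] .leaf) 955 [3, 5, 6, 3, 4, 2, 3, 1, 2, 3, 6, 1] (.node .leaf 956 [1, 2, 3, 5, 4, 2, 3, 1, 2, 3, 6, 1] .leaf)))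

def lev1T0_126 : WTree := (.node (.node (.node .leaf 958 [4, 2, 3, 5, 4, 2, 3, 1, 2, 3, 6, 1] .leaf) 959 [1, 2, 3, 6, 4, 2, 3, 1, 2, 3, 6, 1] (.node .leaf 960 [3, 2, 3, 6, 4, 2, 3, 1, 2, 3, 6, 1] .leaf)) 961 [4, 2, 3, 6, 4, 2, 3, 1, 2, 3, 6, 1] (.node (.node .leaf 962 [0, 1, 2, 3, 5, 2, 3, 1, 2, 3, 6, 1] .leaf) 963 [3, 1, 2, 3, 5, 2, 3, 1, 2, 3, 6, 1] (.node .leaf 964 [4, 1, 2, 3, 5, 2, 3, 1, 2, 3, 6, 1] .leaf)))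

def lev1T0_127 : WTree := (.node (.node (.node .leaf 966 [4, 3, 2, 3, 5, 2, 3, 1, 2, 3, 6, 1] .leaf) 967 [5, 3, 2, 3, 5, 2, 3, 1, 2, 3, 6, 1] (.node .leaf 968 [6, 3, 2, 3, 5, 2, 3, 1, 2, 3, 6, 1] .leaf)) 969 [3, 4, 2, 3, 5, 2, 3, 1, 2, 3, 6, 1] (.node (.node .leaf 970 [0, 1, 2, 3, 6, 2, 3, 1, 2, 3, 6, 1] .leaf) 971 [3, 1, 2, 3, 6, 2, 3, 1, 2, 3, 6, 1] (.node .leaf 972 [4, 1, 2, 3, 6, 2, 3, 1, 2, 3, 6, 1] .leaf)))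

def lev1T0_128 : WTree := (.node (.node (.node .leaf 974 [3, 4, 2, 3, 6, 2, 3, 1, 2, 3, 6, 1] .leaf) 975 [2, 3, 2, 3, 6, 4, 3, 1, 2, 3, 6, 1] (.node .leaf 976 [4, 3, 2, 3, 6, 4, 3, 1, 2, 3, 6, 1] .leaf)) 977 [5, 3, 2, 3, 6, 4, 3, 1, 2, 3, 6, 1] (.node (.node .leaf 978 [6, 3, 2, 3, 6, 4, 3, 1, 2, 3, 6, 1] .leaf) 979 [5, 3, 4, 3, 2, 3, 5, 1, 2, 3, 6, 1] (.node .leaf 980 [6, 3, 4, 3, 2, 3, 5, 1, 2, 3, 6, 1] .leaf)))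

def lev1T0_129 : WTree := (.node (.node (.node .leaf 982 [3, 6, 4, 3, 2, 3, 5, 1, 2, 3, 6, 1] .leaf) 983 [3, 6, 5, 3, 2, 3, 5, 1, 2, 3, 6, 1] (.node .leaf 984 [4, 3, 6, 3, 2, 3, 5, 1, 2, 3, 6, 1] .leaf)) 985 [5, 3, 6, 3, 2, 3, 5, 1, 2, 3, 6, 1] (.node (.node .leaf 986 [3, 5, 6, 3, 2, 3, 5, 1, 2, 3, 6, 1] .leaf) 987 [5, 2, 3, 4, 2, 3, 5, 1, 2, 3, 6, 1] (.node .leaf 988 [6, 5, 3, 4, 2, 3, 5, 1, 2, 3, 6, 1] .leaf)))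

def lev1T0_130 : WTree := (.node (.node (.node .leaf 990 [6, 5, 3, 6, 2, 3, 5, 1, 2, 3, 6, 1] .leaf) 991 [2, 3, 2, 3, 1, 2, 3, 0, 1, 2, 3, 6] (.node .leaf 992 [4, 3, 2, 3, 1, 2, 3, 0, 1, 2, 3, 6] .leaf)) 993 [5, 3, 2, 3, 1, 2, 3, 0, 1, 2, 3, 6] (.node (.node .leaf 994 [3, 4, 2, 3, 1, 2, 3, 0, 1, 2, 3, 6] .leaf) 995 [3, 5, 2, 3, 1, 2, 3, 0, 1, 2, 3, 6] (.node .leaf 996 [3, 5, 4, 3, 1, 2, 3, 0, 1, 2, 3, 6] .leaf)))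

def lev1T0_131 : WTree := (.node (.node (.node .leaf 998 [3, 6, 5, 3, 1, 2, 3, 0, 1, 2, 3, 6] .leaf) 999 [5, 0, 1, 2, 3, 2, 3, 0, 1, 2, 3, 6] (.node .leaf 1000 [3, 4, 1, 2, 3, 2, 3, 0, 1, 2, 3, 6] .leaf)) 1001 [3, 5, 1, 2, 3, 2, 3, 0, 1, 2, 3, 6] (.node (.node .leaf 1002 [5, 3, 4, 2, 3, 2, 3, 0, 1, 2, 3, 6] .leaf) 1003 [3, 5, 4, 2, 3, 2, 3, 0, 1, 2, 3, 6] (.node .leaf 1004 [4, 3, 5, 2, 3, 2, 3, 0, 1, 2, 3, 6] .leaf)))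

def lev1T0_132 : WTree := (.node (.node (.node .leaf 1006 [2, 3, 6, 2, 3, 2, 3, 0, 1, 2, 3, 6] .leaf) 1007 [5, 3, 6, 2, 3, 2, 3, 0, 1, 2, 3, 6] (.node .leaf 1008 [5, 2, 3, 4, 3, 2, 3, 0, 1, 2, 3, 6] .leaf)) 1009 [6, 2, 3, 4, 3, 2, 3, 0, 1, 2, 3, 6] (.node (.node .leaf 1010 [3, 5, 3, 4, 3, 2, 3, 0, 1, 2, 3, 6] .leaf) 1011 [3, 6, 3, 4, 3, 2, 3, 0, 1, 2, 3, 6] (.node .leaf 1012 [2, 3, 5, 4, 3, 2, 3, 0, 1, 2, 3, 6] .leaf)))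

def lev1T0_133 : WTree := (.node (.node (.node .leaf 1014 [4, 3, 6, 4, 3, 2, 3, 0, 1, 2, 3, 6] .leaf) 1015 [5, 3, 6, 4, 3, 2, 3, 0, 1, 2, 3, 6] (.node .leaf 1016 [4, 3, 6, 5, 3, 2, 3, 0, 1, 2, 3, 6] .leaf)) 1017 [5, 3, 6, 5, 3, 2, 3, 0, 1, 2, 3, 6] (.node (.node .leaf 1018 [3, 2, 3, 6, 3, 2, 3, 0, 1, 2, 3, 6] .leaf) 1019 [3, 5, 3, 6, 3, 2, 3, 0, 1, 2, 3, 6] (.node .leaf 1020 [2, 3, 5, 6, 3, 2, 3, 0, 1, 2, 3, 6] .leaf)))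

def lev1T0_134 : WTree := (.node (.node (.node .leaf 1022 [6, 3, 5, 6, 3, 2, 3, 0, 1, 2, 3, 6] .leaf) 1023 [6, 1, 2, 3, 4, 2, 3, 0, 1, 2, 3, 6] (.node .leaf 1024 [3, 5, 2, 3, 4, 2, 3, 0, 1, 2, 3, 6] .leaf)) 1025 [5, 6, 2, 3, 4, 2, 3, 0, 1, 2, 3, 6] (.node (.node .leaf 1026 [3, 6, 5, 3, 4, 2, 3, 0, 1, 2, 3, 6] .leaf) 1027 [3, 5, 6, 3, 4, 2, 3, 0, 1, 2, 3, 6] (.node .leaf 1028 [3, 1, 2, 3, 6, 2, 3, 0, 1, 2, 3, 6] .leaf)))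

def lev1T0_135 : WTree := (.node (.node (.node (.node lev1T0_119 909 [5, 4, 3, 2, 3, 5, 0, 1, 2, 3, 6, 1] lev1T0_120) 917 [3, 6, 1, 2, 3, 2, 3, 1, 2, 3, 6, 1] (.node lev1T0_121 925 [6, 2, 3, 4, 3, 2, 3, 1, 2, 3, 6, 1] lev1T0_122)) 933 [5, 3, 6, 4, 3, 2, 3, 1, 2, 3, 6, 1] (.node (.node lev1T0_123 941 [1, 2, 3, 6, 3, 2, 3, 1, 2, 3, 6, 1] lev1T0_124) 949 [6, 1, 2, 3, 4, 2, 3, 1, 2, 3, 6, 1] (.node lev1T0_125 957 [3, 2, 3, 5, 4, 2, 3, 1, 2, 3, 6, 1] lev1T0_126))) 965 [2, 3, 2, 3, 5, 2, 3, 1, 2, 3, 6, 1] (.node (.node (.node lev1T0_127 973 [5, 3, 2, 3, 6, 2, 3, 1, 2, 3, 6, 1] lev1T0_128) 981 [3, 5, 4, 3, 2, 3, 5, 1, 2, 3, 6, 1] (.node lev1T0_129 989 [5, 6, 3, 4, 2, 3, 5, 1, 2, 3, 6, 1] lev1T0_130)) 997 [3, 6, 4,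 3, 1, 2, 3, 0, 1, 2, 3, 6] (.node (.node lev1T0_131 1005 [3, 6, 5, 2, 3, 2, 3, 0, 1, 2, 3, 6] lev1T0_132) 1013 [6, 3, 5, 4, 3, 2, 3, 0, 1, 2, 3, 6] (.node lev1T0_133 1021 [4, 3, 5, 6, 3, 2, 3, 0, 1, 2, 3, 6] lev1T0_134))))

def lev1T0_136 : WTree := (.node (.node (.node (.node .leaf 1030 [3, 4, 2, 3, 6, 2, 3, 0, 1, 2, 3, 6] .leaf) 1031 [5, 4, 2, 3, 6, 2, 3, 0, 1, 2, 3, 6] .leaf) 1032 [3, 5, 4, 3, 6, 2, 3, 0, 1, 2, 3, 6] (.node .leaf 1033 [3, 6, 5, 3, 6, 2, 3, 0, 1, 2, 3, 6] .leaf)) 1034 [3, 0, 1, 2, 3, 1, 2, 3, 1, 2, 3, 6] (.node (.node .leaf 1035 [2, 3, 1, 2, 3, 1, 2, 3, 1, 2, 3, 6] .leaf) 1036 [4, 3, 1, 2, 3, 1, 2, 3, 1, 2, 3, 6] (.node .leaf 1037 [6, 3, 1, 2, 3, 1, 2, 3, 1, 2, 3, 6] .leaf)))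

def lev1T0_137 : WTree := (.node (.node (.node .leaf 1039 [3, 6, 1, 2, 3, 1, 2, 3, 1, 2, 3, 6] .leaf) 1040 [3, 4, 3, 2, 3, 1, 2, 3, 1, 2, 3, 6] (.node .leaf 1041 [3, 6, 3, 2, 3, 1, 2, 3, 1, 2, 3, 6] .leaf)) 1042 [2, 3, 4, 2, 3, 1, 2, 3, 1, 2, 3, 6] (.node (.node .leaf 1043 [5, 3, 4, 2, 3, 1, 2, 3, 1, 2, 3, 6] .leaf) 1044 [6, 3, 4, 2, 3, 1, 2, 3, 1, 2, 3, 6] (.node .leaf 1045 [3, 5, 4, 2, 3, 1, 2, 3, 1, 2, 3, 6] .leaf)))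

def lev1T0_138 : WTree := (.node (.node (.node .leaf 1047 [4, 3, 6, 2, 3, 1, 2, 3, 1, 2, 3, 6] .leaf) 1048 [5, 3, 6, 2, 3, 1, 2, 3, 1, 2, 3, 6] (.node .leaf 1049 [3, 2, 3, 4, 3, 1, 2, 3, 1, 2, 3, 6] .leaf)) 1050 [6, 2, 3, 4, 3, 1, 2, 3, 1, 2, 3, 6] (.node (.node .leaf 1051 [3, 5, 3, 4, 3, 1, 2, 3, 1, 2, 3, 6] .leaf) 1052 [3, 6, 3, 4, 3, 1, 2, 3, 1, 2, 3, 6] (.node .leaf 1053 [2, 3, 5, 4, 3, 1, 2, 3, 1, 2, 3, 6] .leaf)))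

def lev1T0_139 : WTree := (.node (.node (.node .leaf 1055 [2, 3, 6, 4, 3, 1, 2, 3, 1, 2, 3, 6] .leaf) 1056 [5, 3, 6, 4, 3, 1, 2, 3, 1, 2, 3, 6] (.node .leaf 1057 [4, 3, 6, 5, 3, 1, 2, 3, 1, 2, 3, 6] .leaf)) 1058 [5, 3, 6, 5, 3, 1, 2, 3, 1, 2, 3, 6] (.node (.node .leaf 1059 [2, 3, 5, 6, 3, 1, 2, 3, 1, 2, 3, 6] .leaf) 1060 [4, 3, 5, 6, 3, 1, 2, 3, 1, 2, 3, 6] (.node .leaf 1061 [6, 3, 5, 6, 3, 1, 2, 3, 1, 2, 3, 6] .leaf)))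

def lev1T0_140 : WTree := (.node (.node (.node .leaf 1063 [4, 3, 2, 3, 4, 1, 2, 3, 1, 2, 3, 6] .leaf) 1064 [5, 3, 2, 3, 4, 1, 2, 3, 1, 2, 3, 6] (.node .leaf 1065 [3, 5, 2, 3, 4, 1, 2, 3, 1, 2, 3, 6] .leaf)) 1066 [3, 6, 5, 3, 4, 1, 2, 3, 1, 2, 3, 6] (.node (.node .leaf 1067 [5, 3, 0, 1, 2, 3, 2, 3, 1, 2, 3, 6] .leaf) 1068 [6, 3, 0, 1, 2, 3, 2, 3, 1, 2, 3, 6] (.node .leaf 1069 [3, 5, 0, 1, 2, 3, 2, 3, 1, 2, 3, 6] .leaf)))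

def lev1T0_141 : WTree := (.node (.node (.node .leaf 1071 [5, 2, 3, 1, 2, 3, 2, 3, 1, 2, 3, 6] .leaf) 1072 [6, 2, 3, 1, 2, 3, 2, 3, 1, 2, 3, 6] (.node .leaf 1073 [3, 4, 3, 1, 2, 3, 2, 3, 1, 2, 3, 6] .leaf)) 1074 [5, 4, 3, 1, 2, 3, 2, 3, 1, 2, 3, 6] (.node (.node .leaf 1075 [6, 4, 3, 1, 2, 3, 2, 3, 1, 2, 3, 6] .leaf) 1076 [3, 5, 3, 1, 2, 3, 2, 3, 1, 2, 3, 6] (.node .leaf 1077 [6, 5, 3, 1, 2, 3, 2, 3, 1, 2, 3, 6] .leaf)))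

def lev1T0_142 : WTree := (.node (.node (.node .leaf 1079 [5, 6, 3, 1, 2, 3, 2, 3, 1, 2, 3, 6] .leaf) 1080 [3, 5, 4, 1, 2, 3, 2, 3, 1, 2, 3, 6] (.node .leaf 1081 [2, 3, 5, 1, 2, 3, 2, 3, 1, 2, 3, 6] .leaf)) 1082 [4, 3, 5, 1, 2, 3, 2, 3, 1, 2, 3, 6] (.node (.node .leaf 1083 [6, 3, 5, 1, 2, 3, 2, 3, 1, 2, 3, 6] .leaf) 1084 [2, 3, 6, 1, 2, 3, 2, 3, 1, 2, 3, 6] (.node .leaf 1085 [5, 3, 4, 3, 2, 3, 2, 3, 1, 2, 3, 6] .leaf)))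

def lev1T0_143 : WTree := (.node (.node (.node .leaf 1087 [2, 3, 5, 3, 2, 3, 2, 3, 1, 2, 3, 6] .leaf) 1088 [4, 3, 5, 3, 2, 3, 2, 3, 1, 2, 3, 6] (.node .leaf 1089 [6, 3, 5, 3, 2, 3, 2, 3, 1, 2, 3, 6] .leaf)) 1090 [3, 5, 3, 4, 2, 3, 2, 3, 1, 2, 3, 6] (.node (.node .leaf 1091 [2, 3, 5, 4, 2, 3, 2, 3, 1, 2, 3, 6] .leaf) 1092 [4, 3, 5, 4, 2, 3, 2, 3, 1, 2, 3, 6] (.node .leaf 1093 [1, 2, 3, 5, 2, 3, 2, 3, 1, 2, 3, 6] .leaf)))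

def lev1T0_144 : WTree := (.node (.node (.node .leaf 1095 [6, 4, 3, 5, 2, 3, 2, 3, 1, 2, 3, 6] .leaf) 1096 [5, 6, 3, 5, 2, 3, 2, 3, 1, 2, 3, 6] (.node .leaf 1097 [4, 3, 6, 5, 2, 3, 2, 3, 1, 2, 3, 6] .leaf)) 1098 [1, 2, 3, 6, 2, 3, 2, 3, 1, 2, 3, 6] (.node (.node .leaf 1099 [3, 2, 3, 6, 2, 3, 2, 3, 1, 2, 3, 6] .leaf) 1100 [5, 3, 2, 3, 4, 3, 2, 3, 1, 2, 3, 6] (.node .leaf 1101 [6, 3, 2, 3, 4, 3, 2, 3, 1, 2, 3, 6] .leaf)))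

def lev1T0_145 : WTree := (.node (.node (.node .leaf 1103 [2, 3, 6, 3, 4, 3, 2, 3, 1, 2, 3, 6] .leaf) 1104 [5, 3, 6, 3, 4, 3, 2, 3, 1, 2, 3, 6] (.node .leaf 1105 [1, 2, 3, 5, 4, 3, 2, 3, 1, 2, 3, 6] .leaf)) 1106 [1, 2, 3, 6, 4, 3, 2, 3, 1, 2, 3, 6] (.node (.node .leaf 1107 [6, 5, 3, 6, 4, 3, 2, 3, 1, 2, 3, 6] .leaf) 1108 [5, 4, 3, 6, 5, 3, 2, 3, 1, 2, 3, 6] (.node .leaf 1109 [6, 5, 3, 6, 5, 3, 2, 3, 1, 2, 3, 6] .leaf)))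

def lev1T0_146 : WTree := (.node (.node (.node .leaf 1111 [3, 2, 3, 5, 6, 3, 2, 3, 1, 2, 3, 6] .leaf) 1112 [4, 2, 3, 5, 6, 3, 2, 3, 1, 2, 3, 6] (.node .leaf 1113 [6, 2, 3, 5, 6, 3, 2, 3, 1, 2, 3, 6] .leaf)) 1114 [6, 4, 3, 5, 6, 3, 2, 3, 1, 2, 3, 6] (.node (.node .leaf 1115 [5, 6, 3, 5, 6, 3, 2, 3, 1, 2, 3, 6] .leaf) 1116 [4, 3, 5, 2, 3, 4, 2, 3, 1, 2, 3, 6] (.node .leaf 1117 [2, 3, 6, 5, 3, 4, 2, 3, 1, 2, 3, 6] .leaf)))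

def lev1T0_147 : WTree := (.node (.node (.node .leaf 1119 [5, 3, 6, 5, 3, 4, 2, 3, 1, 2, 3, 6] .leaf) 1120 [4, 3, 5, 6, 3, 4, 2, 3, 1, 2, 3, 6] (.node .leaf 1121 [6, 3, 5, 6, 3, 4, 2, 3, 1, 2, 3, 6] .leaf)) 1122 [1, 2, 3, 2, 3, 6, 4, 3, 1, 2, 3, 6] (.node (.node .leaf 1123 [4, 2, 3, 2, 3, 6, 4, 3, 1, 2, 3, 6] .leaf) 1124 [5, 2, 3, 2, 3, 6, 4, 3, 1, 2, 3, 6] (.node .leaf 1125 [6, 4, 3, 2, 3, 6, 4, 3, 1, 2, 3, 6] .leaf)))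

def lev1T0_148 : WTree := (.node (.node (.node .leaf 1127 [1, 2, 3, 2, 3, 5, 6, 3, 1, 2, 3, 6] .leaf) 1128 [1, 2, 3, 5, 1, 2, 3, 0, 1, 2, 3, 2, 1] (.node .leaf 1129 [3, 2, 3, 5, 1, 2, 3, 0, 1, 2, 3, 2, 1] .leaf)) 1130 [4, 2, 3, 5, 1, 2, 3, 0, 1, 2, 3, 2, 1] (.node (.node .leaf 1131 [6, 2, 3, 5, 1, 2, 3, 0, 1, 2, 3, 2, 1] .leaf) 1132 [3, 2, 3, 6, 1, 2, 3, 0, 1, 2, 3, 2, 1] (.node .leaf 1133 [4, 2, 3, 6, 1, 2, 3, 0, 1, 2, 3, 2, 1] .leaf)))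

def lev1T0_149 : WTree := (.node (.node (.node .leaf 1135 [3, 1, 2, 3, 5, 2, 3, 0, 1, 2, 3, 2, 1] .leaf) 1136 [4, 1, 2, 3, 5, 2, 3, 0, 1, 2, 3, 2, 1] (.node .leaf 1137 [6, 1, 2, 3, 5, 2, 3, 0, 1, 2, 3, 2, 1] .leaf)) 1138 [4, 3, 2, 3, 5, 2, 3, 0, 1, 2, 3, 2, 1] (.node (.node .leaf 1139 [5, 3, 2, 3, 5, 2, 3, 0, 1, 2, 3, 2, 1] .leaf) 1140 [6, 3, 2, 3, 5, 2, 3, 0, 1, 2, 3, 2, 1] (.node .leaf 1141 [3, 4, 2, 3, 5, 2, 3, 0, 1, 2, 3, 2, 1] .leaf)))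

def lev1T0_150 : WTree := (.node (.node (.node .leaf 1143 [3, 6, 2, 3, 5, 2, 3, 0, 1, 2, 3, 2, 1] .leaf) 1144 [3, 6, 4, 3, 5, 2, 3, 0, 1, 2, 3, 2, 1] (.node .leaf 1145 [2, 3, 6, 3, 5, 2, 3, 0, 1, 2, 3, 2, 1] .leaf)) 1146 [4, 3, 6, 3, 5, 2, 3, 0, 1, 2, 3, 2, 1] (.node (.node .leaf 1147 [5, 3, 6, 3, 5, 2, 3, 0, 1, 2, 3, 2, 1] .leaf) 1148 [3, 5, 6, 3, 5, 2, 3, 0, 1, 2, 3, 2, 1] (.node .leaf 1149 [3, 2, 3, 6, 5, 2, 3, 0, 1, 2, 3, 2, 1] .leaf)))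

def lev1T0_151 : WTree := (.node (.node (.node .leaf 1151 [5, 4, 3, 6, 5, 2, 3, 0, 1, 2, 3, 2, 1] .leaf) 1152 [3, 4, 2, 3, 6, 2, 3, 0, 1, 2, 3, 2, 1] (.node .leaf 1153 [3, 5, 4, 3, 6, 2, 3, 0, 1, 2, 3, 2, 1] .leaf)) 1154 [2, 3, 5, 3, 6, 2, 3, 0, 1, 2, 3, 2, 1] (.node (.node .leaf 1155 [4, 3, 5, 3, 6, 2, 3, 0, 1, 2, 3, 2, 1] .leaf) 1156 [6, 3, 5, 3, 6, 2, 3, 0, 1, 2, 3, 2, 1] (.node .leaf 1157 [3, 6, 5, 3, 6, 2, 3, 0, 1, 2, 3, 2, 1] .leaf)))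

def lev1T0_152 : WTree := (.node (.node (.node (.node lev1T0_136 1038 [3, 4, 1, 2, 3, 1, 2, 3, 1, 2, 3, 6] lev1T0_137) 1046 [2, 3, 6, 2, 3, 1, 2, 3, 1, 2, 3, 6] (.node lev1T0_138 1054 [6, 3, 5, 4, 3, 1, 2, 3, 1, 2, 3, 6] lev1T0_139)) 1062 [3, 1, 2, 3, 4, 1, 2, 3, 1, 2, 3, 6] (.node (.node lev1T0_140 1070 [3, 6, 0, 1, 2, 3, 2, 3, 1, 2, 3, 6] lev1T0_141) 1078 [3, 6, 3, 1, 2, 3, 2, 3, 1, 2, 3, 6] (.node lev1T0_142 1086 [3, 5, 4, 3, 2, 3, 2, 3, 1, 2, 3, 6] lev1T0_143))) 1094 [4, 2, 3, 5, 2, 3, 2, 3, 1, 2, 3, 6] (.node (.node (.node lev1T0_144 1102 [3, 5, 2, 3, 4, 3, 2, 3, 1, 2, 3, 6] lev1T0_145) 1110 [1, 2, 3, 5, 6, 3, 2, 3, 1, 2, 3, 6] (.node lev1T0_146 1118 [4, 3, 6, 5, 3, 4, 2, 3, 1, 2, 3, 6] lev1T0_147)) 1126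 [6, 5, 3, 2, 3, 6, 4, 3, 1, 2, 3, 6] (.node (.node lev1T0_148 1134 [0, 1, 2, 3, 5, 2, 3, 0, 1, 2, 3, 2, 1] lev1T0_149) 1142 [6, 4, 2, 3, 5, 2, 3, 0, 1, 2, 3, 2, 1] (.node lev1T0_150 1150 [4, 2, 3, 6, 5, 2, 3, 0, 1, 2, 3, 2, 1] lev1T0_151))))

def lev1T0_153 : WTree := (.node (.node (.node (.node .leaf 1159 [4, 2, 3, 5, 6, 2, 3, 0, 1, 2, 3, 2, 1] .leaf) 1160 [6, 4, 3, 5, 6, 2, 3, 0, 1, 2, 3, 2, 1] .leaf) 1161 [3, 1, 2, 3, 5, 4, 3, 0, 1, 2, 3, 2, 1] (.node .leaf 1162 [2, 3, 2, 3, 5, 4, 3, 0, 1, 2, 3, 2, 1] .leaf)) 1163 [4, 3, 2, 3, 5, 4, 3, 0, 1, 2, 3, 2, 1] (.node (.node .leaf 1164 [5, 3, 2, 3, 5, 4, 3, 0, 1, 2, 3, 2, 1] .leaf) 1165 [6, 3, 2, 3, 5, 4, 3, 0, 1, 2, 3, 2, 1] (.node .leaf 1166 [3, 6, 2, 3, 5, 4,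 3, 0, 1, 2, 3, 2, 1] .leaf)))

def lev1T0_154 : WTree := (.node (.node (.node .leaf 1168 [4, 3, 2, 3, 6, 4, 3, 0, 1, 2, 3, 2, 1] .leaf) 1169 [5, 3, 2, 3, 6, 4, 3, 0, 1, 2, 3, 2, 1] (.node .leaf 1170 [6, 3, 2, 3, 6, 4, 3, 0, 1, 2, 3, 2, 1] .leaf)) 1171 [5, 4, 3, 2, 3, 5, 3, 0, 1, 2, 3, 2, 1] (.node (.node .leaf 1172 [2, 3, 2, 3, 5, 6, 3, 0, 1, 2, 3, 2, 1] .leaf) 1173 [4, 3, 2, 3, 5, 6, 3, 0, 1, 2, 3, 2, 1] (.node .leaf 1174 [5, 3, 2, 3, 5, 6, 3, 0, 1, 2, 3, 2, 1] .leaf)))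

def lev1T0_155 : WTree := (.node (.node (.node .leaf 1176 [3, 5, 2, 3, 2, 3, 5, 0, 1, 2, 3, 2, 1] .leaf) 1177 [3, 6, 2, 3, 2, 3, 5, 0, 1, 2, 3, 2, 1] (.node .leaf 1178 [3, 5, 4, 3, 2, 3, 5, 0, 1, 2, 3, 2, 1] .leaf)) 1179 [3, 6, 4, 3, 2, 3, 5, 0, 1, 2, 3, 2, 1] (.node (.node .leaf 1180 [3, 6, 5, 3, 2, 3, 5, 0, 1, 2, 3, 2, 1] .leaf) 1181 [3, 1, 2, 3, 5, 3, 2, 3, 1, 2, 3, 2, 1] (.node .leaf 1182 [6, 1, 2, 3, 5, 3, 2, 3, 1, 2, 3, 2, 1] .leaf)))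

def lev1T0_156 : WTree := (.node (.node (.node .leaf 1184 [4, 3, 2, 3, 5, 3, 2, 3, 1, 2, 3, 2, 1] .leaf) 1185 [5, 3, 2, 3, 5, 3, 2, 3, 1, 2, 3, 2, 1] (.node .leaf 1186 [6, 3, 2, 3, 5, 3, 2, 3, 1, 2, 3, 2, 1] .leaf)) 1187 [3, 6, 2, 3, 5, 3, 2, 3, 1, 2, 3, 2, 1] (.node (.node .leaf 1188 [3, 1, 2, 3, 6, 3, 2, 3, 1, 2, 3, 2, 1] .leaf) 1189 [2, 3, 2, 3, 6, 3, 2, 3, 1, 2, 3, 2, 1] (.node .leaf 1190 [4, 3, 2, 3, 6, 3, 2, 3, 1, 2, 3, 2, 1] .leaf)))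

def lev1T0_157 : WTree := (.node (.node (.node .leaf 1192 [6, 3, 2, 3, 6, 3, 2, 3, 1, 2, 3, 2, 1] .leaf) 1193 [3, 0, 1, 2, 3, 5, 2, 3, 1, 2, 3, 2, 1] (.node .leaf 1194 [6, 0, 1, 2, 3, 5, 2, 3, 1, 2, 3, 2, 1] .leaf)) 1195 [2, 3, 1, 2, 3, 5, 2, 3, 1, 2, 3, 2, 1] (.node (.node .leaf 1196 [4, 3, 1, 2, 3, 5, 2, 3, 1, 2, 3, 2, 1] .leaf) 1197 [5, 3, 1, 2, 3, 5, 2, 3, 1, 2, 3, 2, 1] (.node .leaf 1198 [3, 4, 1, 2, 3, 5, 2, 3, 1, 2, 3, 2, 1] .leaf)))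

def lev1T0_158 : WTree := (.node (.node (.node .leaf 1200 [1, 2, 3, 2, 3, 5, 2, 3, 1, 2, 3, 2, 1] .leaf) 1201 [4, 2, 3, 2, 3, 5, 2, 3, 1, 2, 3, 2, 1] (.node .leaf 1202 [6, 2, 3, 2, 3, 5, 2, 3, 1, 2, 3, 2, 1] .leaf)) 1203 [3, 4, 3, 2, 3, 5, 2, 3, 1, 2, 3, 2, 1] (.node (.node .leaf 1204 [5, 4, 3, 2, 3, 5, 2, 3, 1, 2, 3, 2, 1] .leaf) 1205 [6, 4, 3, 2, 3, 5, 2, 3, 1, 2, 3, 2, 1] (.node .leaf 1206 [6, 5, 3, 2, 3, 5, 2, 3, 1, 2, 3, 2, 1] .leaf)))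

def lev1T0_159 : WTree := (.node (.node (.node .leaf 1208 [2, 3, 4, 2, 3, 5, 2, 3, 1, 2, 3, 2, 1] .leaf) 1209 [5, 3, 4, 2, 3, 5, 2, 3, 1, 2, 3, 2, 1] (.node .leaf 1210 [6, 3, 4, 2, 3, 5, 2, 3, 1, 2, 3, 2, 1] .leaf)) 1211 [3, 6, 4, 2, 3, 5, 2, 3, 1, 2, 3, 2, 1] (.node (.node .leaf 1212 [4, 3, 6, 4, 3, 5, 2, 3, 1, 2, 3, 2, 1] .leaf) 1213 [3, 2, 3, 6, 3, 5, 2, 3, 1, 2, 3, 2, 1] (.node .leaf 1214 [3, 5, 3, 6, 3, 5, 2, 3, 1, 2, 3, 2, 1] .leaf)))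

def lev1T0_160 : WTree := (.node (.node (.node .leaf 1216 [4, 3, 5, 6, 3, 5, 2, 3, 1, 2, 3, 2, 1] .leaf) 1217 [4, 3, 2, 3, 6, 5, 2, 3, 1, 2, 3, 2, 1] (.node .leaf 1218 [5, 4, 2, 3, 6, 5, 2, 3, 1, 2, 3, 2, 1] .leaf)) 1219 [3, 5, 4, 3, 6, 5, 2, 3, 1, 2, 3, 2, 1] (.node (.node .leaf 1220 [3, 6, 5, 3, 6, 5, 2, 3, 1, 2, 3, 2, 1] .leaf) 1221 [4, 3, 1, 2, 3, 6, 2, 3, 1, 2, 3, 2, 1] (.node .leaf 1222 [6, 3, 1, 2, 3, 6, 2, 3, 1, 2, 3, 2, 1] .leaf)))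

def lev1T0_161 : WTree := (.node (.node (.node .leaf 1224 [3, 4, 3, 2, 3, 6, 2, 3, 1, 2, 3, 2, 1] .leaf) 1225 [5, 4, 3, 2, 3, 6, 2, 3, 1, 2, 3, 2, 1] (.node .leaf 1226 [5, 6, 3, 2, 3, 6, 2, 3, 1, 2, 3, 2, 1] .leaf)) 1227 [2, 3, 4, 2, 3, 6, 2, 3, 1, 2, 3, 2, 1] (.node (.node .leaf 1228 [5, 3, 4, 2, 3, 6, 2, 3, 1, 2, 3, 2, 1] .leaf) 1229 [6, 3, 4, 2, 3, 6, 2, 3, 1, 2, 3, 2, 1] (.node .leaf 1230 [2, 3, 5, 4, 3, 6, 2, 3, 1, 2, 3, 2, 1] .leaf)))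

def lev1T0_162 : WTree := (.node (.node (.node .leaf 1232 [3, 2, 3, 5, 3, 6, 2, 3, 1, 2, 3, 2, 1] .leaf) 1233 [3, 6, 3, 5, 3, 6, 2, 3, 1, 2, 3, 2, 1] (.node .leaf 1234 [2, 3, 6, 5, 3, 6, 2, 3, 1, 2, 3, 2, 1] .leaf)) 1235 [2, 3, 2, 3, 5, 6, 2, 3, 1, 2, 3, 2, 1] (.node (.node .leaf 1236 [4, 3, 2, 3, 5, 6, 2, 3, 1, 2, 3, 2, 1] .leaf) 1237 [5, 3, 2, 3, 5, 6, 2, 3, 1, 2, 3, 2, 1] (.node .leaf 1238 [3, 4, 2, 3, 5, 6, 2, 3, 1, 2, 3, 2, 1] .leaf)))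

def lev1T0_163 : WTree := (.node (.node (.node .leaf 1240 [4, 3, 1, 2, 3, 5, 4, 3, 1, 2, 3, 2, 1] .leaf) 1241 [5, 3, 1, 2, 3, 5, 4, 3, 1, 2, 3, 2, 1] (.node .leaf 1242 [3, 4, 1, 2, 3, 5, 4, 3, 1, 2, 3, 2, 1] .leaf)) 1243 [1, 2, 3, 2, 3, 5, 4, 3, 1, 2, 3, 2, 1] (.node (.node .leaf 1244 [3, 2, 3, 2, 3, 5, 4, 3, 1, 2, 3, 2, 1] .leaf) 1245 [4, 2, 3, 2, 3, 5, 4, 3, 1, 2, 3, 2, 1] (.node .leaf 1246 [5, 2, 3, 2, 3, 5, 4, 3, 1, 2, 3, 2, 1] .leaf)))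

def lev1T0_164 : WTree := (.node (.node (.node .leaf 1248 [3, 4, 3, 2, 3, 5, 4, 3, 1, 2, 3, 2, 1] .leaf) 1249 [5, 4, 3, 2, 3, 5, 4, 3, 1, 2, 3, 2, 1] (.node .leaf 1250 [6, 4, 3, 2, 3, 5, 4, 3, 1, 2, 3, 2, 1] .leaf)) 1251 [6, 5, 3, 2, 3, 5, 4, 3, 1, 2, 3, 2, 1] (.node (.node .leaf 1252 [2, 3, 4, 2, 3, 5, 4, 3, 1, 2, 3, 2, 1] .leaf) 1253 [5, 3, 4, 2, 3, 5, 4, 3, 1, 2, 3, 2, 1] (.node .leaf 1254 [6, 3, 4, 2, 3, 5, 4, 3, 1, 2, 3, 2, 1] .leaf)))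

def lev1T0_165 : WTree := (.node (.node (.node .leaf 1256 [2, 3, 1, 2, 3, 6, 4, 3, 1, 2, 3, 2, 1] .leaf) 1257 [4, 3, 1, 2, 3, 6, 4, 3, 1, 2, 3, 2, 1] (.node .leaf 1258 [5, 3, 1, 2, 3, 6, 4, 3, 1, 2, 3, 2, 1] .leaf)) 1259 [6, 3, 1, 2, 3, 6, 4, 3, 1, 2, 3, 2, 1] (.node (.node .leaf 1260 [1, 2, 3, 2, 3, 6, 4, 3, 1, 2, 3, 2, 1] .leaf) 1261 [3, 2, 3, 2, 3, 6, 4, 3, 1, 2, 3, 2, 1] (.node .leaf 1262 [4, 2, 3, 2, 3, 6, 4, 3, 1, 2, 3, 2, 1] .leaf)))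

def lev1T0_166 : WTree := (.node (.node (.node .leaf 1264 [6, 2, 3, 2, 3, 6, 4, 3, 1, 2, 3, 2, 1] .leaf) 1265 [5, 4, 3, 2, 3, 6, 4, 3, 1, 2, 3, 2, 1] (.node .leaf 1266 [6, 4, 3, 2, 3, 6, 4, 3, 1, 2, 3, 2, 1] .leaf)) 1267 [6, 5, 3, 2, 3, 6, 4, 3, 1, 2, 3, 2, 1] (.node (.node .leaf 1268 [5, 6, 3, 2, 3, 6, 4, 3, 1, 2, 3, 2, 1] .leaf) 1269 [4, 3, 2, 3, 2, 3, 5, 3, 1, 2, 3, 2, 1] (.node .leaf 1270 [6, 3, 2, 3, 2, 3, 5, 3, 1, 2, 3, 2, 1] .leaf)))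

def lev1T0_167 : WTree := (.node (.node (.node .leaf 1272 [3, 5, 4, 3, 2, 3, 5, 3, 1, 2, 3, 2, 1] .leaf) 1273 [3, 2, 3, 4, 2, 3, 5, 3, 1, 2, 3, 2, 1] (.node .leaf 1274 [2, 3, 1, 2, 3, 5, 6, 3, 1, 2, 3, 2, 1] .leaf)) 1275 [4, 3, 1, 2, 3, 5, 6, 3, 1, 2, 3, 2, 1] (.node (.node .leaf 1276 [1, 2, 3, 2, 3, 5, 6, 3, 1, 2, 3, 2, 1] .leaf) 1277 [3, 2, 3, 2, 3, 5, 6, 3, 1, 2, 3, 2, 1] (.node .leaf 1278 [4, 2, 3, 2, 3, 5, 6, 3, 1, 2, 3, 2, 1] .leaf)))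

def lev1T0_168 : WTree := (.node (.node (.node .leaf 1280 [6, 5, 3, 2, 3, 5, 6, 3, 1, 2, 3, 2, 1] .leaf) 1281 [4, 3, 2, 3, 1, 2, 3, 5, 1, 2, 3, 2, 1] (.node .leaf 1282 [6, 3, 2, 3, 1, 2, 3, 5, 1, 2, 3, 2, 1] .leaf)) 1283 [2, 3, 5, 2, 3, 2, 3, 5, 1, 2, 3, 2, 1] (.node (.node .leaf 1284 [2, 3, 6, 2, 3, 2, 3, 5, 1, 2, 3, 2, 1] .leaf) 1285 [5, 3, 6, 2, 3, 2, 3, 5, 1, 2, 3, 2, 1] (.node .leaf 1286 [3, 6, 3, 4, 3, 2, 3, 5, 1, 2, 3, 2, 1] .leaf)))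

def lev1T0_169 : WTree := (.node (.node (.node (.node lev1T0_153 1167 [2, 3, 2, 3, 6, 4, 3, 0, 1, 2, 3, 2, 1] lev1T0_154) 1175 [3, 4, 2, 3, 2, 3, 5, 0, 1, 2, 3, 2, 1] (.node lev1T0_155 1183 [2, 3, 2, 3, 5, 3, 2, 3, 1, 2, 3, 2, 1] lev1T0_156)) 1191 [5, 3, 2, 3, 6, 3, 2, 3, 1, 2, 3, 2, 1] (.node (.node lev1T0_157 1199 [6, 4, 1, 2, 3, 5, 2, 3, 1, 2, 3, 2, 1] lev1T0_158) 1207 [5, 6, 3, 2, 3, 5, 2, 3, 1, 2, 3, 2, 1] (.node lev1T0_159 1215 [2, 3, 5, 6, 3, 5, 2, 3, 1, 2, 3, 2, 1] lev1T0_160))) 1223 [3, 4, 1, 2, 3, 6, 2, 3, 1, 2, 3, 2, 1] (.node (.node (.node lev1T0_161 1231 [4, 3, 5, 4, 3, 6, 2, 3, 1, 2, 3, 2, 1] lev1T0_162) 1239 [2, 3, 1, 2, 3, 5, 4, 3, 1, 2, 3, 2, 1] (.node lev1T0_163 1247 [6, 2, 3, 2, 3, 5, 4,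 3, 1, 2, 3, 2, 1] lev1T0_164)) 1255 [3, 6, 4, 2, 3, 5, 4, 3, 1, 2, 3, 2, 1] (.node (.node lev1T0_165 1263 [5, 2, 3, 2, 3, 6, 4, 3, 1, 2, 3, 2, 1] lev1T0_166) 1271 [6, 3, 4, 3, 2, 3, 5, 3, 1, 2, 3, 2, 1] (.node lev1T0_167 1279 [5, 4, 3, 2, 3, 5, 6, 3, 1, 2, 3, 2, 1] lev1T0_168))))

def lev1T0_170 : WTree := (.node (.node (.node (.node .leaf 1288 [6, 3, 5, 4, 3, 2, 3, 5, 1, 2, 3, 2, 1] .leaf) 1289 [2, 3, 6, 4, 3, 2, 3, 5, 1, 2, 3, 2, 1] .leaf) 1290 [4, 3, 6, 4, 3, 2, 3, 5, 1, 2, 3, 2, 1] (.node .leaf 1291 [5, 3, 6, 4, 3, 2, 3, 5, 1, 2, 3, 2, 1] .leaf)) 1292 [2, 3, 6, 5, 3, 2, 3, 5, 1, 2, 3, 2, 1] (.node (.node .leaf 1293 [4, 3, 6, 5, 3, 2, 3, 5, 1, 2, 3, 2, 1] .leaf) 1294 [5, 3, 6, 5, 3, 2, 3, 5, 1, 2, 3, 2,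 1] (.node .leaf 1295 [2, 3, 5, 6, 3, 2, 3, 5, 1, 2, 3, 2, 1] .leaf)))

def lev1T0_171 : WTree := (.node (.node (.node .leaf 1297 [6, 3, 5, 6, 3, 2, 3, 5, 1, 2, 3, 2, 1] .leaf) 1298 [6, 3, 2, 3, 6, 2, 3, 5, 1, 2, 3, 2, 1] (.node .leaf 1299 [3, 5, 4, 3, 6, 2, 3, 5, 1, 2, 3, 2, 1] .leaf)) 1300 [2, 3, 2, 3, 5, 6, 3, 5, 1, 2, 3, 2, 1] (.node (.node .leaf 1301 [4, 3, 2, 3, 5, 6, 3, 5, 1, 2, 3, 2, 1] .leaf) 1302 [5, 3, 2, 3, 5, 6, 3, 5, 1, 2, 3, 2, 1] (.node .leaf 1303 [2, 3, 6, 2, 3, 1, 2, 3, 5, 4, 3, 2, 1] .leaf)))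

def lev1T0_172 : WTree := (.node (.node (.node .leaf 1305 [5, 3, 6, 2, 3, 1, 2, 3, 5, 4, 3, 2, 1] .leaf) 1306 [3, 5, 2, 3, 1, 2, 3, 0, 1, 2, 3, 6, 1] (.node .leaf 1307 [3, 5, 4, 3, 1, 2, 3, 0, 1, 2, 3, 6, 1] .leaf)) 1308 [3, 6, 4, 3, 1, 2, 3, 0, 1, 2, 3, 6, 1] (.node (.node .leaf 1309 [2, 3, 5, 3, 1, 2, 3, 0, 1, 2, 3, 6, 1] .leaf) 1310 [3, 6, 5, 3, 1, 2, 3, 0, 1, 2, 3, 6, 1] (.node .leaf 1311 [3, 5, 6, 3, 1, 2, 3, 0, 1, 2, 3, 6, 1] .leaf)))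

def lev1T0_173 : WTree := (.node (.node (.node .leaf 1313 [4, 2, 3, 5, 1, 2, 3, 0, 1, 2, 3, 6, 1] .leaf) 1314 [1, 2, 3, 6, 1, 2, 3, 0, 1, 2, 3, 6, 1] (.node .leaf 1315 [3, 2, 3, 6, 1, 2, 3, 0, 1, 2, 3, 6, 1] .leaf)) 1316 [4, 2, 3, 6, 1, 2, 3, 0, 1, 2, 3, 6, 1] (.node (.node .leaf 1317 [2, 3, 5, 4, 3, 2, 3, 0, 1, 2, 3, 6, 1] .leaf) 1318 [4, 3, 5, 4, 3, 2, 3, 0, 1, 2, 3, 6, 1] (.node .leaf 1319 [6, 3, 5, 4, 3, 2, 3, 0, 1, 2, 3, 6, 1] .leaf)))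

def lev1T0_174 : WTree := (.node (.node (.node .leaf 1321 [4, 3, 6, 4, 3, 2, 3, 0, 1, 2, 3, 6, 1] .leaf) 1322 [5, 3, 6, 4, 3, 2, 3, 0, 1, 2, 3, 6, 1] (.node .leaf 1323 [1, 2, 3, 5, 3, 2, 3, 0, 1, 2, 3, 6, 1] .leaf)) 1324 [3, 2, 3, 5, 3, 2, 3, 0, 1, 2, 3, 6, 1] (.node (.node .leaf 1325 [4, 2, 3, 5, 3, 2, 3, 0, 1, 2, 3, 6, 1] .leaf) 1326 [6, 2, 3, 5, 3, 2, 3, 0, 1, 2, 3, 6, 1] (.node .leaf 1327 [3, 6, 3, 5, 3, 2, 3, 0, 1, 2, 3, 6, 1] .leaf)))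

def lev1T0_175 : WTree := (.node (.node (.node .leaf 1329 [1, 2, 3, 6, 3, 2, 3, 0, 1, 2, 3, 6, 1] .leaf) 1330 [3, 2, 3, 6, 3, 2, 3, 0, 1, 2, 3, 6, 1] (.node .leaf 1331 [4, 2, 3, 6, 3, 2, 3, 0, 1, 2, 3, 6, 1] .leaf)) 1332 [5, 2, 3, 6, 3, 2, 3, 0, 1, 2, 3, 6, 1] (.node (.node .leaf 1333 [3, 5, 3, 6, 3, 2, 3, 0, 1, 2, 3, 6, 1] .leaf) 1334 [2, 3, 5, 6, 3, 2, 3, 0, 1, 2, 3, 6, 1] (.node .leaf 1335 [4, 3, 5, 6, 3, 2, 3, 0, 1, 2, 3, 6, 1] .leaf)))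

def lev1T0_176 : WTree := (.node (.node (.node .leaf 1337 [3, 1, 2, 3, 5, 2, 3, 0, 1, 2, 3, 6, 1] .leaf) 1338 [4, 1, 2, 3, 5, 2, 3, 0, 1, 2, 3, 6, 1] (.node .leaf 1339 [4, 3, 2, 3, 5, 2, 3, 0, 1, 2, 3, 6, 1] .leaf)) 1340 [5, 3, 2, 3, 5, 2, 3, 0, 1, 2, 3, 6, 1] (.node (.node .leaf 1341 [6, 3, 2, 3, 5, 2, 3, 0, 1, 2, 3, 6, 1] .leaf) 1342 [3, 4, 2, 3, 5, 2, 3, 0, 1, 2, 3, 6, 1] (.node .leaf 1343 [0, 1, 2, 3, 6, 2, 3, 0, 1, 2, 3, 6, 1] .leaf)))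

def lev1T0_177 : WTree := (.node (.node (.node .leaf 1345 [4, 1, 2, 3, 6, 2, 3, 0, 1, 2, 3, 6, 1] .leaf) 1346 [3, 4, 2, 3, 6, 2, 3, 0, 1, 2, 3, 6, 1] (.node .leaf 1347 [3, 5, 4, 3, 2, 3, 5, 0, 1, 2, 3, 6, 1] .leaf)) 1348 [3, 6, 4, 3, 2, 3, 5, 0, 1, 2, 3, 6, 1] (.node (.node .leaf 1349 [3, 6, 0, 1, 2, 3, 2, 3, 1, 2, 3, 6, 1] .leaf) 1350 [5, 6, 0, 1, 2, 3, 2, 3, 1, 2, 3, 6, 1] (.node .leaf 1351 [3, 5, 4, 1, 2, 3, 2, 3, 1, 2, 3, 6, 1] .leaf)))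

def lev1T0_178 : WTree := (.node (.node (.node .leaf 1353 [3, 5, 6, 1, 2, 3, 2, 3, 1, 2, 3, 6, 1] .leaf) 1354 [3, 5, 3, 4, 2, 3, 2, 3, 1, 2, 3, 6, 1] (.node .leaf 1355 [2, 3, 5, 4, 2, 3, 2, 3, 1, 2, 3, 6, 1] .leaf)) 1356 [4, 3, 5, 4, 2, 3, 2, 3, 1, 2, 3, 6, 1] (.node (.node .leaf 1357 [3, 2, 3, 5, 2, 3, 2, 3, 1, 2, 3, 6, 1] .leaf) 1358 [4, 2, 3, 5, 2, 3, 2, 3, 1, 2, 3, 6, 1] (.node .leaf 1359 [3, 5, 2, 3, 4, 3, 2, 3, 1, 2, 3, 6, 1] .leaf)))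

def lev1T0_179 : WTree := (.node (.node (.node .leaf 1361 [2, 3, 6, 3, 4, 3, 2, 3, 1, 2, 3, 6, 1] .leaf) 1362 [1, 2, 3, 5, 4, 3, 2, 3, 1, 2, 3, 6, 1] (.node .leaf 1363 [3, 2, 3, 5, 4, 3, 2, 3, 1, 2, 3, 6, 1] .leaf)) 1364 [4, 2, 3, 5, 4, 3, 2, 3, 1, 2, 3, 6, 1] (.node (.node .leaf 1365 [0, 1, 2, 3, 5, 3, 2, 3, 1, 2, 3, 6, 1] .leaf) 1366 [3, 1, 2, 3, 5, 3, 2, 3, 1, 2, 3, 6, 1] (.node .leaf 1367 [4, 1, 2, 3, 5, 3, 2, 3, 1, 2, 3, 6, 1] .leaf)))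

def lev1T0_180 : WTree := (.node (.node (.node .leaf 1369 [4, 3, 2, 3, 5, 3, 2, 3, 1, 2, 3, 6, 1] .leaf) 1370 [5, 3, 2, 3, 5, 3, 2, 3, 1, 2, 3, 6, 1] (.node .leaf 1371 [6, 3, 2, 3, 5, 3, 2, 3, 1, 2, 3, 6, 1] .leaf)) 1372 [2, 3, 6, 3, 5, 3, 2, 3, 1, 2, 3, 6, 1] (.node (.node .leaf 1373 [1, 2, 3, 6, 5, 3, 2, 3, 1, 2, 3, 6, 1] .leaf) 1374 [4, 2, 3, 6, 5, 3, 2, 3, 1, 2, 3, 6, 1] (.node .leaf 1375 [3, 1, 2, 3, 6, 3, 2, 3, 1, 2, 3, 6, 1] .leaf)))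

def lev1T0_181 : WTree := (.node (.node (.node .leaf 1377 [5, 3, 2, 3, 6, 3, 2, 3, 1, 2, 3, 6, 1] .leaf) 1378 [2, 3, 5, 3, 6, 3, 2, 3, 1, 2, 3, 6, 1] (.node .leaf 1379 [2, 3, 5, 2, 3, 4, 2, 3, 1, 2, 3, 6, 1] .leaf)) 1380 [4, 3, 5, 2, 3, 4, 2, 3, 1, 2, 3, 6, 1] (.node (.node .leaf 1381 [1, 2, 3, 5, 3, 4, 2, 3, 1, 2, 3, 6, 1] .leaf) 1382 [2, 3, 6, 5, 3, 4, 2, 3, 1, 2, 3, 6, 1] (.node .leaf 1383 [3, 1, 2, 3, 5, 4, 2, 3, 1, 2, 3, 6, 1] .leaf)))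

def lev1T0_182 : WTree := (.node (.node (.node .leaf 1385 [6, 3, 2, 3, 5, 4, 2, 3, 1, 2, 3, 6, 1] .leaf) 1386 [3, 4, 2, 3, 5, 4, 2, 3, 1, 2, 3, 6, 1] (.node .leaf 1387 [3, 1, 2, 3, 6, 4, 2, 3, 1, 2, 3, 6, 1] .leaf)) 1388 [2, 3, 2, 3, 6, 4, 2, 3, 1, 2, 3, 6, 1] (.node (.node .leaf 1389 [4, 3, 2, 3, 6, 4, 2, 3, 1, 2, 3, 6, 1] .leaf) 1390 [5, 3, 2, 3, 6, 4, 2, 3, 1, 2, 3, 6, 1] (.node .leaf 1391 [3, 4, 2, 3, 6, 4, 2, 3, 1, 2, 3, 6, 1] .leaf)))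

def lev1T0_183 : WTree := (.node (.node (.node .leaf 1393 [2, 3, 1, 2, 3, 5, 2, 3, 1, 2, 3, 6, 1] .leaf) 1394 [4, 3, 1, 2, 3, 5, 2, 3, 1, 2, 3, 6, 1] (.node .leaf 1395 [6, 3, 1, 2, 3, 5, 2, 3, 1, 2, 3, 6, 1] .leaf)) 1396 [3, 4, 1, 2, 3, 5, 2, 3, 1, 2, 3, 6, 1] (.node (.node .leaf 1397 [4, 2, 3, 2, 3, 5, 2, 3, 1, 2, 3, 6, 1] .leaf) 1398 [6, 2, 3, 2, 3, 5, 2, 3, 1, 2, 3, 6, 1] (.node .leaf 1399 [3, 4, 3, 2, 3, 5, 2, 3, 1, 2, 3, 6, 1] .leaf)))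

def lev1T0_184 : WTree := (.node (.node (.node .leaf 1401 [6, 5, 3, 2, 3, 5, 2, 3, 1, 2, 3, 6, 1] .leaf) 1402 [5, 6, 3, 2, 3, 5, 2, 3, 1, 2, 3, 6, 1] (.node .leaf 1403 [3, 0, 1, 2, 3, 6, 2, 3, 1, 2, 3, 6, 1] .leaf)) 1404 [2, 3, 1, 2, 3, 6, 2, 3, 1, 2, 3, 6, 1] (.node (.node .leaf 1405 [5, 3, 1, 2, 3, 6, 2, 3, 1, 2, 3, 6, 1] .leaf) 1406 [3, 4, 1, 2, 3, 6, 2, 3, 1, 2, 3, 6, 1] (.node .leaf 1407 [2, 3, 4, 2, 3, 6, 2, 3, 1, 2, 3, 6, 1] .leaf)))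

def lev1T0_185 : WTree := (.node (.node (.node .leaf 1409 [1, 2, 3, 2, 3, 6, 4, 3, 1, 2, 3, 6, 1] .leaf) 1410 [3, 2, 3, 2, 3, 6, 4, 3, 1, 2, 3, 6, 1] (.node .leaf 1411 [4, 2, 3, 2, 3, 6, 4, 3, 1, 2, 3, 6, 1] .leaf)) 1412 [6, 2, 3, 2, 3, 6, 4, 3, 1, 2, 3, 6, 1] (.node (.node .leaf 1413 [5, 4, 3, 2, 3, 6, 4, 3, 1, 2, 3, 6, 1] .leaf) 1414 [6, 4, 3, 2, 3, 6, 4, 3, 1, 2, 3, 6, 1] (.node .leaf 1415 [5, 6, 3, 2, 3, 6, 4, 3, 1, 2, 3, 6, 1] .leaf)))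

def lev1T0_186 : WTree := (.node (.node (.node (.node lev1T0_170 1296 [4, 3, 5, 6, 3, 2, 3, 5, 1, 2, 3, 2, 1] lev1T0_171) 1304 [4, 3, 6, 2, 3, 1, 2, 3, 5, 4, 3, 2, 1] (.node lev1T0_172 1312 [1, 2, 3, 5, 1, 2, 3, 0, 1, 2, 3, 6, 1] lev1T0_173)) 1320 [2, 3, 6, 4, 3, 2, 3, 0, 1, 2, 3, 6, 1] (.node (.node lev1T0_174 1328 [4, 3, 6, 5, 3, 2, 3, 0, 1, 2, 3, 6, 1] lev1T0_175) 1336 [0, 1, 2, 3, 5, 2, 3, 0, 1, 2, 3, 6, 1] (.node lev1T0_176 1344 [3, 1, 2, 3, 6, 2, 3, 0, 1, 2, 3, 6, 1] lev1T0_177))) 1352 [2, 3, 6, 1, 2, 3, 2, 3, 1, 2, 3, 6, 1] (.node (.node (.node lev1T0_178 1360 [2, 3, 5, 3, 4, 3, 2, 3, 1, 2, 3, 6, 1] lev1T0_179) 1368 [2, 3, 2, 3, 5, 3, 2, 3, 1, 2, 3, 6, 1] (.node lev1T0_180 1376 [2, 3, 2, 3, 6, 3, 2,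 3, 1, 2, 3, 6, 1] lev1T0_181)) 1384 [4, 3, 2, 3, 5, 4, 2, 3, 1, 2, 3, 6, 1] (.node (.node lev1T0_182 1392 [3, 0, 1, 2, 3, 5, 2, 3, 1, 2, 3, 6, 1] lev1T0_183) 1400 [6, 4, 3, 2, 3, 5, 2, 3, 1, 2, 3, 6, 1] (.node lev1T0_184 1408 [5, 3, 4, 2, 3, 6, 2, 3, 1, 2, 3, 6, 1] lev1T0_185))))

def lev1T0_187 : WTree := (.node (.node (.node .leaf 1417 [2, 3, 5, 4, 3, 2, 3, 5, 1, 2, 3, 6, 1] .leaf) 1418 [2, 3, 6, 4, 3, 2, 3, 5, 1, 2, 3, 6, 1] (.node .leaf 1419 [4, 3, 6, 4, 3, 2, 3, 5, 1, 2, 3, 6, 1] .leaf)) 1420 [4, 3, 6, 5, 3, 2, 3, 5, 1, 2, 3, 6, 1] (.node (.node .leaf 1421 [3, 5, 2, 3, 4, 2, 3, 5, 1, 2, 3, 6, 1] .leaf) 1422 [3, 6, 5, 3, 6, 2, 3, 5, 1, 2, 3, 6, 1] (.node .leaf 1423 [3, 4, 3, 2, 3, 1, 2, 3, 0, 1, 2, 3, 6]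 .leaf)))

def lev1T0_188 : WTree := (.node (.node (.node .leaf 1425 [6, 3, 4, 2, 3, 1, 2, 3, 0, 1, 2, 3, 6] .leaf) 1426 [2, 3, 5, 4, 3, 1, 2, 3, 0, 1, 2, 3, 6] (.node .leaf 1427 [6, 3, 5, 4, 3, 1, 2, 3, 0, 1, 2, 3, 6] .leaf)) 1428 [3, 5, 0, 1, 2, 3, 2, 3, 0, 1, 2, 3, 6] (.node (.node .leaf 1429 [2, 3, 5, 1, 2, 3, 2, 3, 0, 1, 2, 3, 6] .leaf) 1430 [3, 5, 3, 4, 2, 3, 2, 3, 0, 1, 2, 3, 6] (.node .leaf 1431 [4, 3, 5, 4, 2, 3, 2, 3, 0, 1, 2, 3, 6] .leaf)))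

def lev1T0_189 : WTree := (.node (.node (.node .leaf 1433 [1, 2, 3, 6, 2, 3, 2, 3, 0, 1, 2, 3, 6] .leaf) 1434 [5, 3, 6, 3, 4, 3, 2, 3, 0, 1, 2, 3, 6] (.node .leaf 1435 [5, 4, 3, 6, 4, 3, 2, 3, 0, 1, 2, 3, 6] .leaf)) 1436 [2, 3, 2, 3, 6, 3, 2, 3, 0, 1, 2, 3, 6] (.node (.node .leaf 1437 [5, 3, 2, 3, 6, 3, 2, 3, 0, 1, 2, 3, 6] .leaf) 1438 [2, 3, 5, 3, 6, 3, 2, 3, 0, 1, 2, 3, 6] (.node .leaf 1439 [4, 3, 5, 3, 6, 3, 2, 3, 0, 1, 2, 3, 6] .leaf)))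

def lev1T0_190 : WTree := (.node (.node (.node .leaf 1441 [1, 2, 3, 5, 6, 3, 2, 3, 0, 1, 2, 3, 6] .leaf) 1442 [3, 2, 3, 5, 6, 3, 2, 3, 0, 1, 2, 3, 6] (.node .leaf 1443 [4, 2, 3, 5, 6, 3, 2, 3, 0, 1, 2, 3, 6] .leaf)) 1444 [6, 2, 3, 5, 6, 3, 2, 3, 0, 1, 2, 3, 6] (.node (.node .leaf 1445 [6, 4, 3, 5, 6, 3, 2, 3, 0, 1, 2, 3, 6] .leaf) 1446 [5, 6, 3, 5, 6, 3, 2, 3, 0, 1, 2, 3, 6] (.node .leaf 1447 [4, 3, 5, 2, 3, 4, 2, 3, 0, 1, 2, 3, 6] .leaf)))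

def lev1T0_191 : WTree := (.node (.node (.node .leaf 1449 [4, 3, 5, 6, 3, 4, 2, 3, 0, 1, 2, 3, 6] .leaf) 1450 [2, 3, 1, 2, 3, 6, 2, 3, 0, 1, 2, 3, 6] (.node .leaf 1451 [4, 3, 1, 2, 3, 6, 2, 3, 0, 1, 2, 3, 6] .leaf)) 1452 [3, 4, 3, 2, 3, 6, 2, 3, 0, 1, 2, 3, 6] (.node (.node .leaf 1453 [2, 3, 4, 2, 3, 6, 2, 3, 0, 1, 2, 3, 6] .leaf) 1454 [5, 3, 4, 2, 3, 6, 2, 3, 0, 1, 2, 3, 6] (.node .leaf 1455 [3, 5, 4, 2, 3, 6, 2, 3, 0, 1, 2, 3, 6] .leaf)))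

def lev1T0_192 : WTree := (.node (.node (.node .leaf 1457 [4, 3, 6, 5, 3, 6, 2, 3, 0, 1, 2, 3, 6] .leaf) 1458 [5, 3, 6, 5, 3, 6, 2, 3, 0, 1, 2, 3, 6] (.node .leaf 1459 [2, 3, 0, 1, 2, 3, 1, 2, 3, 1, 2, 3, 6] .leaf)) 1460 [4, 3, 0, 1, 2, 3, 1, 2, 3, 1, 2, 3, 6] (.node (.node .leaf 1461 [6, 3, 0, 1, 2, 3, 1, 2, 3, 1, 2, 3, 6] .leaf) 1462 [3, 2, 3, 1, 2, 3, 1, 2, 3, 1, 2, 3, 6] (.node .leaf 1463 [4, 2, 3, 1, 2, 3, 1, 2, 3, 1, 2, 3, 6] .leaf)))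

def lev1T0_193 : WTree := (.node (.node (.node .leaf 1465 [3, 4, 3, 1, 2, 3, 1, 2, 3, 1, 2, 3, 6] .leaf) 1466 [3, 6, 3, 1, 2, 3, 1, 2, 3, 1, 2, 3, 6] (.node .leaf 1467 [2, 3, 4, 1, 2, 3, 1, 2, 3, 1, 2, 3, 6] .leaf)) 1468 [5, 3, 4, 1, 2, 3, 1, 2, 3, 1, 2, 3, 6] (.node (.node .leaf 1469 [6, 3, 4, 1, 2, 3, 1, 2, 3, 1, 2, 3, 6] .leaf) 1470 [2, 3, 6, 1, 2, 3, 1, 2, 3, 1, 2, 3, 6] (.node .leaf 1471 [4, 3, 6, 1, 2, 3, 1, 2, 3, 1, 2, 3, 6] .leaf)))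

def lev1T0_194 : WTree := (.node (.node (.node .leaf 1473 [5, 3, 4, 3, 2, 3, 1, 2, 3, 1, 2, 3, 6] .leaf) 1474 [2, 3, 6, 3, 2, 3, 1, 2, 3, 1, 2, 3, 6] (.node .leaf 1475 [6, 2, 3, 4, 2, 3, 1, 2, 3, 1, 2, 3, 6] .leaf)) 1476 [3, 5, 3, 4, 2, 3, 1, 2, 3, 1, 2, 3, 6] (.node (.node .leaf 1477 [5, 6, 3, 4, 2, 3, 1, 2, 3, 1, 2, 3, 6] .leaf) 1478 [1, 2, 3, 6, 2, 3, 1, 2, 3, 1, 2, 3, 6] (.node .leaf 1479 [4, 2, 3, 6, 2, 3, 1, 2, 3, 1, 2, 3, 6] .leaf)))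

def lev1T0_195 : WTree := (.node (.node (.node .leaf 1481 [2, 3, 2, 3, 4, 3, 1, 2, 3, 1, 2, 3, 6] .leaf) 1482 [6, 3, 2, 3, 4, 3, 1, 2, 3, 1, 2, 3, 6] (.node .leaf 1483 [2, 3, 5, 3, 4, 3, 1, 2, 3, 1, 2, 3, 6] .leaf)) 1484 [1, 2, 3, 5, 4, 3, 1, 2, 3, 1, 2, 3, 6] (.node (.node .leaf 1485 [6, 2, 3, 5, 4, 3, 1, 2, 3, 1, 2, 3, 6] .leaf) 1486 [1, 2, 3, 6, 4, 3, 1, 2, 3, 1, 2, 3, 6] (.node .leaf 1487 [3, 2, 3, 6, 4, 3, 1, 2, 3, 1, 2, 3, 6] .leaf)))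

def lev1T0_196 : WTree := (.node (.node (.node .leaf 1489 [6, 2, 3, 5, 6, 3, 1, 2, 3, 1, 2, 3, 6] .leaf) 1490 [2, 3, 1, 2, 3, 4, 1, 2, 3, 1, 2, 3, 6] (.node .leaf 1491 [4, 3, 1, 2, 3, 4, 1, 2, 3, 1, 2, 3, 6] .leaf)) 1492 [5, 3, 1, 2, 3, 4, 1, 2, 3, 1, 2, 3, 6] (.node (.node .leaf 1493 [5, 4, 3, 2, 3, 4, 1, 2, 3, 1, 2, 3, 6] .leaf) 1494 [3, 5, 3, 2, 3, 4, 1, 2, 3, 1, 2, 3, 6] (.node .leaf 1495 [6, 5, 3, 2, 3, 4, 1, 2, 3, 1, 2, 3, 6] .leaf)))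

def lev1T0_197 : WTree := (.node (.node (.node .leaf 1497 [2, 3, 5, 0, 1, 2, 3, 2, 3, 1, 2, 3, 6] .leaf) 1498 [4, 3, 5, 0, 1, 2, 3, 2, 3, 1, 2, 3, 6] (.node .leaf 1499 [6, 3, 5, 0, 1, 2, 3, 2, 3, 1, 2, 3, 6] .leaf)) 1500 [2, 3, 6, 0, 1, 2, 3, 2, 3, 1, 2, 3, 6] (.node (.node .leaf 1501 [3, 5, 4, 3, 1, 2, 3, 2, 3, 1, 2, 3, 6] .leaf) 1502 [2, 3, 5, 3, 1, 2, 3, 2, 3, 1, 2, 3, 6] (.node .leaf 1503 [4, 3, 5, 3, 1, 2, 3, 2, 3, 1, 2, 3, 6] .leaf)))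

def lev1T0_198 : WTree := (.node (.node (.node .leaf 1505 [1, 2, 3, 5, 1, 2, 3, 2, 3, 1, 2, 3, 6] .leaf) 1506 [3, 2, 3, 5, 1, 2, 3, 2, 3, 1, 2, 3, 6] (.node .leaf 1507 [4, 2, 3, 5, 1, 2, 3, 2, 3, 1, 2, 3, 6] .leaf)) 1508 [6, 2, 3, 5, 1, 2, 3, 2, 3, 1, 2, 3, 6] (.node (.node .leaf 1509 [1, 2, 3, 6, 1, 2, 3, 2, 3, 1, 2, 3, 6] .leaf) 1510 [3, 2, 3, 6, 1, 2, 3, 2, 3, 1, 2, 3, 6] (.node .leaf 1511 [3, 5, 3, 4, 3, 2, 3, 2, 3, 1, 2, 3, 6] .leaf)))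

def lev1T0_199 : WTree := (.node (.node (.node .leaf 1513 [4, 3, 5, 4, 3, 2, 3, 2, 3, 1, 2, 3, 6] .leaf) 1514 [1, 2, 3, 5, 3, 2, 3, 2, 3, 1, 2, 3, 6] (.node .leaf 1515 [3, 2, 3, 5, 3, 2, 3, 2, 3, 1, 2, 3, 6] .leaf)) 1516 [4, 1, 2, 3, 5, 2, 3, 2, 3, 1, 2, 3, 6] (.node (.node .leaf 1517 [3, 5, 6, 3, 5, 2, 3, 2, 3, 1, 2, 3, 6] .leaf) 1518 [2, 3, 2, 3, 6, 2, 3, 2, 3, 1, 2, 3, 6] (.node .leaf 1519 [4, 3, 2, 3, 6, 2, 3, 2, 3, 1, 2, 3, 6] .leaf)))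

def lev1T0_200 : WTree := (.node (.node (.node .leaf 1521 [3, 5, 3, 2, 3, 4, 3, 2, 3, 1, 2, 3, 6] .leaf) 1522 [4, 3, 5, 2, 3, 4, 3, 2, 3, 1, 2, 3, 6] (.node .leaf 1523 [6, 3, 5, 2, 3, 4, 3, 2, 3, 1, 2, 3, 6] .leaf)) 1524 [1, 2, 3, 6, 3, 4, 3, 2, 3, 1, 2, 3, 6] (.node (.node .leaf 1525 [3, 2, 3, 6, 3, 4, 3, 2, 3, 1, 2, 3, 6] .leaf) 1526 [0, 1, 2, 3, 5, 6, 3, 2, 3, 1, 2, 3, 6] (.node .leaf 1527 [4, 1, 2, 3, 5, 6, 3, 2, 3, 1, 2, 3, 6] .leaf)))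

def lev1T0_201 : WTree := (.node (.node (.node .leaf 1529 [6, 4, 2, 3, 5, 6, 3, 2, 3, 1, 2, 3, 6] .leaf) 1530 [3, 6, 2, 3, 5, 6, 3, 2, 3, 1, 2, 3, 6] (.node .leaf 1531 [5, 6, 2, 3, 5, 6, 3, 2, 3, 1, 2, 3, 6] .leaf)) 1532 [5, 2, 3, 6, 5, 3, 4, 2, 3, 1, 2, 3, 6] (.node (.node .leaf 1533 [5, 4, 3, 6, 5, 3, 4, 2, 3, 1, 2, 3, 6] .leaf) 1534 [6, 4, 3, 5, 6, 3, 4, 2, 3, 1, 2, 3, 6] (.node .leaf 1535 [5, 6, 3, 5, 6, 3, 4, 2, 3, 1, 2, 3, 6] .leaf)))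

def lev1T0_202 : WTree := (.node (.node (.node .leaf 1537 [3, 6, 4, 3, 2, 3, 6, 4, 3, 1, 2, 3, 6] .leaf) 1538 [3, 6, 5, 3, 2, 3, 6, 4, 3, 1, 2, 3, 6] (.node .leaf 1539 [3, 1, 2, 3, 5, 1, 2, 3, 0, 1, 2, 3, 2, 1] .leaf)) 1540 [6, 1, 2, 3, 5, 1, 2, 3, 0, 1, 2, 3, 2, 1] (.node (.node .leaf 1541 [4, 3, 2, 3, 5, 1, 2, 3, 0, 1, 2, 3, 2, 1] .leaf) 1542 [5, 3, 2, 3, 5, 1, 2, 3, 0, 1, 2, 3, 2, 1] (.node .leaf 1543 [6, 3, 2, 3, 5, 1, 2, 3, 0, 1, 2, 3, 2, 1] .leaf)))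

def lev1T0_203 : WTree := (.node (.node (.node (.node lev1T0_187 1424 [3, 5, 3, 2, 3, 1, 2, 3, 0, 1, 2, 3, 6] lev1T0_188) 1432 [4, 3, 6, 5, 2, 3, 2, 3, 0, 1, 2, 3, 6] (.node lev1T0_189 1440 [6, 3, 5, 3, 6, 3, 2, 3, 0, 1, 2, 3, 6] lev1T0_190)) 1448 [5, 3, 6, 5, 3, 4, 2, 3, 0, 1, 2, 3, 6] (.node (.node lev1T0_191 1456 [2, 3, 5, 4, 3, 6, 2, 3, 0, 1, 2, 3, 6] lev1T0_192) 1464 [6, 2, 3, 1, 2, 3, 1, 2, 3, 1, 2, 3, 6] (.node lev1T0_193 1472 [2, 3, 4, 3, 2, 3, 1, 2, 3, 1, 2, 3, 6] lev1T0_194))) 1480 [5, 2, 3, 6, 2, 3, 1, 2, 3, 1, 2, 3, 6] (.node (.node (.node lev1T0_195 1488 [1, 2, 3, 5, 6, 3, 1, 2, 3, 1, 2, 3, 6] lev1T0_196) 1496 [5, 3, 6, 5, 3, 4, 1, 2, 3, 1, 2, 3, 6] (.node lev1T0_197 1504 [2, 3, 6, 3, 1, 2, 3,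 2, 3, 1, 2, 3, 6] lev1T0_198)) 1512 [2, 3, 5, 4, 3, 2, 3, 2, 3, 1, 2, 3, 6] (.node (.node lev1T0_199 1520 [5, 3, 2, 3, 6, 2, 3, 2, 3, 1, 2, 3, 6] lev1T0_200) 1528 [6, 1, 2, 3, 5, 6, 3, 2, 3, 1, 2, 3, 6] (.node lev1T0_201 1536 [0, 1, 2, 3, 2, 3, 6, 4, 3, 1, 2, 3, 6] lev1T0_202))))

def lev1T0_204 : WTree := (.node (.node (.node (.node .leaf 1545 [3, 0, 1, 2, 3, 5, 2, 3, 0, 1, 2, 3, 2, 1] .leaf) 1546 [6, 0, 1, 2, 3, 5, 2, 3, 0, 1, 2, 3, 2, 1] .leaf) 1547 [4, 3, 1, 2, 3, 5, 2, 3, 0, 1, 2, 3, 2, 1] (.node .leaf 1548 [5, 3, 1, 2, 3, 5, 2, 3, 0, 1, 2, 3, 2, 1] .leaf)) 1549 [3, 4, 1, 2, 3, 5, 2, 3, 0, 1, 2, 3, 2, 1] (.node (.node .leaf 1550 [6, 4, 1, 2, 3, 5, 2, 3, 0, 1, 2, 3, 2, 1] .leaf) 1551 [3, 4, 3, 2, 3, 5,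 2, 3, 0, 1, 2, 3, 2, 1] (.node .leaf 1552 [5, 4, 3, 2, 3, 5, 2, 3, 0, 1, 2, 3, 2, 1] .leaf)))

def lev1T0_205 : WTree := (.node (.node (.node .leaf 1554 [5, 6, 3, 2, 3, 5, 2, 3, 0, 1, 2, 3, 2, 1] .leaf) 1555 [2, 3, 4, 2, 3, 5, 2, 3, 0, 1, 2, 3, 2, 1] (.node .leaf 1556 [5, 3, 4, 2, 3, 5, 2, 3, 0, 1, 2, 3, 2, 1] .leaf)) 1557 [6, 3, 4, 2, 3, 5, 2, 3, 0, 1, 2, 3, 2, 1] (.node (.node .leaf 1558 [3, 6, 4, 2, 3, 5, 2, 3, 0, 1, 2, 3, 2, 1] .leaf) 1559 [4, 3, 6, 4, 3, 5, 2, 3, 0, 1, 2, 3, 2, 1] (.node .leaf 1560 [4, 3, 5, 6, 3, 5, 2, 3, 0, 1, 2, 3, 2, 1] .leaf)))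

def lev1T0_206 : WTree := (.node (.node (.node .leaf 1562 [2, 3, 4, 2, 3, 6, 2, 3, 0, 1, 2, 3, 2, 1] .leaf) 1563 [4, 3, 5, 4, 3, 6, 2, 3, 0, 1, 2, 3, 2, 1] (.node .leaf 1564 [3, 2, 3, 5, 3, 6, 2, 3, 0, 1, 2, 3, 2, 1] .leaf)) 1565 [3, 6, 3, 5, 3, 6, 2, 3, 0, 1, 2, 3, 2, 1] (.node (.node .leaf 1566 [2, 3, 6, 5, 3, 6, 2, 3, 0, 1, 2, 3, 2, 1] .leaf) 1567 [4, 3, 2, 3, 5, 6, 2, 3, 0, 1, 2, 3, 2, 1] (.node .leaf 1568 [5, 3, 2, 3, 5, 6, 2, 3, 0, 1, 2, 3, 2, 1] .leaf)))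

def lev1T0_207 : WTree := (.node (.node (.node .leaf 1570 [1, 2, 3, 2, 3, 5, 4, 3, 0, 1, 2, 3, 2, 1] .leaf) 1571 [4, 2, 3, 2, 3, 5, 4, 3, 0, 1, 2, 3, 2, 1] (.node .leaf 1572 [5, 2, 3, 2, 3, 5, 4, 3, 0, 1, 2, 3, 2, 1] .leaf)) 1573 [6, 2, 3, 2, 3, 5, 4, 3, 0, 1, 2, 3, 2, 1] (.node (.node .leaf 1574 [5, 4, 3, 2, 3, 5, 4, 3, 0, 1, 2, 3, 2, 1] .leaf) 1575 [6, 4, 3, 2, 3, 5, 4, 3, 0, 1, 2, 3, 2, 1] (.node .leaf 1576 [6, 5, 3, 2, 3, 5, 4, 3, 0, 1, 2, 3, 2, 1] .leaf)))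

def lev1T0_208 : WTree := (.node (.node (.node .leaf 1578 [4, 2, 3, 2, 3, 6, 4, 3, 0, 1, 2, 3, 2, 1] .leaf) 1579 [5, 2, 3, 2, 3, 6, 4, 3, 0, 1, 2, 3, 2, 1] (.node .leaf 1580 [6, 2, 3, 2, 3, 6, 4, 3, 0, 1, 2, 3, 2, 1] .leaf)) 1581 [5, 4, 3, 2, 3, 6, 4, 3, 0, 1, 2, 3, 2, 1] (.node (.node .leaf 1582 [6, 4, 3, 2, 3, 6, 4, 3, 0, 1, 2, 3, 2, 1] .leaf) 1583 [6, 5, 3, 2, 3, 6, 4, 3, 0, 1, 2, 3, 2, 1] (.node .leaf 1584 [5, 6, 3, 2, 3, 6, 4, 3, 0, 1, 2, 3, 2, 1] .leaf)))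

def lev1T0_209 : WTree := (.node (.node (.node .leaf 1586 [1, 2, 3, 2, 3, 5, 6, 3, 0, 1, 2, 3, 2, 1] .leaf) 1587 [4, 2, 3, 2, 3, 5, 6, 3, 0, 1, 2, 3, 2, 1] (.node .leaf 1588 [5, 2, 3, 2, 3, 5, 6, 3, 0, 1, 2, 3, 2, 1] .leaf)) 1589 [2, 3, 5, 2, 3, 2, 3, 5, 0, 1, 2, 3, 2, 1] (.node (.node .leaf 1590 [2, 3, 6, 2, 3, 2, 3, 5, 0, 1, 2, 3, 2, 1] .leaf) 1591 [2, 3, 5, 4, 3, 2, 3, 5, 0, 1, 2, 3, 2, 1] (.node .leaf 1592 [6, 3, 5, 4, 3, 2, 3, 5, 0, 1, 2, 3, 2, 1] .leaf)))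

def lev1T0_210 : WTree := (.node (.node (.node .leaf 1594 [5, 3, 6, 4, 3, 2, 3, 5, 0, 1, 2, 3, 2, 1] .leaf) 1595 [2, 3, 6, 5, 3, 2, 3, 5, 0, 1, 2, 3, 2, 1] (.node .leaf 1596 [4, 3, 6, 5, 3, 2, 3, 5, 0, 1, 2, 3, 2, 1] .leaf)) 1597 [5, 3, 6, 5, 3, 2, 3, 5, 0, 1, 2, 3, 2, 1] (.node (.node .leaf 1598 [2, 3, 1, 2, 3, 5, 3, 2, 3, 1, 2, 3, 2, 1] .leaf) 1599 [4, 3, 1, 2, 3, 5, 3, 2, 3, 1, 2, 3, 2, 1] (.node .leaf 1600 [5, 3, 1, 2, 3, 5, 3, 2, 3, 1, 2, 3, 2, 1] .leaf)))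

def lev1T0_211 : WTree := (.node (.node (.node .leaf 1602 [1, 2, 3, 2, 3, 5, 3, 2, 3, 1, 2, 3, 2, 1] .leaf) 1603 [4, 2, 3, 2, 3, 5, 3, 2, 3, 1, 2, 3, 2, 1] (.node .leaf 1604 [5, 2, 3, 2, 3, 5, 3, 2, 3, 1, 2, 3, 2, 1] .leaf)) 1605 [5, 4, 3, 2, 3, 5, 3, 2, 3, 1, 2, 3, 2, 1] (.node (.node .leaf 1606 [6, 4, 3, 2, 3, 5, 3, 2, 3, 1, 2, 3, 2, 1] .leaf) 1607 [6, 5, 3, 2, 3, 5, 3, 2, 3, 1, 2, 3, 2, 1] (.node .leaf 1608 [3, 6, 3, 2, 3, 5, 3, 2, 3, 1, 2, 3, 2, 1] .leaf)))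

def lev1T0_212 : WTree := (.node (.node (.node .leaf 1610 [2, 3, 1, 2, 3, 6, 3, 2, 3, 1, 2, 3, 2, 1] .leaf) 1611 [6, 3, 1, 2, 3, 6, 3, 2, 3, 1, 2, 3, 2, 1] (.node .leaf 1612 [1, 2, 3, 2, 3, 6, 3, 2, 3, 1, 2, 3, 2, 1] .leaf)) 1613 [4, 2, 3, 2, 3, 6, 3, 2, 3, 1, 2, 3, 2, 1] (.node (.node .leaf 1614 [5, 2, 3, 2, 3, 6, 3, 2, 3, 1, 2, 3, 2, 1] .leaf) 1615 [6, 2, 3, 2, 3, 6, 3, 2, 3, 1, 2, 3, 2, 1] (.node .leaf 1616 [5, 4, 3, 2, 3, 6, 3, 2, 3, 1, 2, 3, 2, 1] .leaf)))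

def lev1T0_213 : WTree := (.node (.node (.node .leaf 1618 [5, 3, 0, 1, 2, 3, 5, 2, 3, 1, 2, 3, 2, 1] .leaf) 1619 [5, 2, 3, 1, 2, 3, 5, 2, 3, 1, 2, 3, 2, 1] (.node .leaf 1620 [3, 4, 3, 1, 2, 3, 5, 2, 3, 1, 2, 3, 2, 1] .leaf)) 1621 [5, 4, 3, 1, 2, 3, 5, 2, 3, 1, 2, 3, 2, 1] (.node (.node .leaf 1622 [2, 3, 4, 1, 2, 3, 5, 2, 3, 1, 2, 3, 2, 1] .leaf) 1623 [5, 3, 4, 1, 2, 3, 5, 2, 3, 1, 2, 3, 2, 1] (.node .leaf 1624 [3, 6, 4, 1, 2, 3, 5, 2, 3, 1, 2, 3, 2, 1] .leaf)))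

def lev1T0_214 : WTree := (.node (.node (.node .leaf 1626 [3, 6, 2, 3, 2, 3, 5, 2, 3, 1, 2, 3, 2, 1] .leaf) 1627 [2, 3, 4, 3, 2, 3, 5, 2, 3, 1, 2, 3, 2, 1] (.node .leaf 1628 [5, 3, 4, 3, 2, 3, 5, 2, 3, 1, 2, 3, 2, 1] .leaf)) 1629 [6, 3, 4, 3, 2, 3, 5, 2, 3, 1, 2, 3, 2, 1] (.node (.node .leaf 1630 [3, 6, 5, 3, 2, 3, 5, 2, 3, 1, 2, 3, 2, 1] .leaf) 1631 [1, 2, 3, 4, 2, 3, 5, 2, 3, 1, 2, 3, 2, 1] (.node .leaf 1632 [3, 2, 3, 4, 2, 3, 5, 2, 3, 1, 2, 3, 2, 1] .leaf)))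

def lev1T0_215 : WTree := (.node (.node (.node .leaf 1634 [6, 5, 3, 4, 2, 3, 5, 2, 3, 1, 2, 3, 2, 1] .leaf) 1635 [5, 6, 3, 4, 2, 3, 5, 2, 3, 1, 2, 3, 2, 1] (.node .leaf 1636 [5, 3, 6, 4, 2, 3, 5, 2, 3, 1, 2, 3, 2, 1] .leaf)) 1637 [1, 2, 3, 5, 6, 3, 5, 2, 3, 1, 2, 3, 2, 1] (.node (.node .leaf 1638 [3, 2, 3, 5, 6, 3, 5, 2, 3, 1, 2, 3, 2, 1] .leaf) 1639 [3, 5, 4, 2, 3, 6, 5, 2, 3, 1, 2, 3, 2, 1] (.node .leaf 1640 [2, 3, 5, 4, 3, 6, 5, 2, 3, 1, 2, 3, 2, 1] .leaf)))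

def lev1T0_216 : WTree := (.node (.node (.node .leaf 1642 [2, 3, 6, 5, 3, 6, 5, 2, 3, 1, 2, 3, 2, 1] .leaf) 1643 [4, 3, 6, 5, 3, 6, 5, 2, 3, 1, 2, 3, 2, 1] (.node .leaf 1644 [3, 4, 3, 1, 2, 3, 6, 2, 3, 1, 2, 3, 2, 1] .leaf)) 1645 [2, 3, 4, 1, 2, 3, 6, 2, 3, 1, 2, 3, 2, 1] (.node (.node .leaf 1646 [2, 3, 4, 3, 2, 3, 6, 2, 3, 1, 2, 3, 2, 1] .leaf) 1647 [5, 3, 4, 3, 2, 3, 6, 2, 3, 1, 2, 3, 2, 1] (.node .leaf 1648 [1, 2, 3, 4, 2, 3, 6, 2, 3, 1, 2, 3, 2, 1] .leaf)))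

def lev1T0_217 : WTree := (.node (.node (.node .leaf 1650 [5, 2, 3, 4, 2, 3, 6, 2, 3, 1, 2, 3, 2, 1] .leaf) 1651 [5, 6, 3, 4, 2, 3, 6, 2, 3, 1, 2, 3, 2, 1] (.node .leaf 1652 [1, 2, 3, 5, 4, 3, 6, 2, 3, 1, 2, 3, 2, 1] .leaf)) 1653 [4, 2, 3, 5, 4, 3, 6, 2, 3, 1, 2, 3, 2, 1] (.node (.node .leaf 1654 [2, 3, 2, 3, 5, 3, 6, 2, 3, 1, 2, 3, 2, 1] .leaf) 1655 [5, 3, 2, 3, 5, 3, 6, 2, 3, 1, 2, 3, 2, 1] (.node .leaf 1656 [6, 3, 2, 3, 5, 3, 6, 2, 3, 1, 2, 3, 2, 1] .leaf)))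

def lev1T0_218 : WTree := (.node (.node (.node .leaf 1658 [1, 2, 3, 6, 5, 3, 6, 2, 3, 1, 2, 3, 2, 1] .leaf) 1659 [3, 2, 3, 6, 5, 3, 6, 2, 3, 1, 2, 3, 2, 1] (.node .leaf 1660 [4, 2, 3, 2, 3, 5, 6, 2, 3, 1, 2, 3, 2, 1] .leaf)) 1661 [5, 2, 3, 2, 3, 5, 6, 2, 3, 1, 2, 3, 2, 1] (.node (.node .leaf 1662 [3, 4, 3, 2, 3, 5, 6, 2, 3, 1, 2, 3, 2, 1] .leaf) 1663 [5, 4, 3, 2, 3, 5, 6, 2, 3, 1, 2, 3, 2, 1] (.node .leaf 1664 [6, 5, 3, 2, 3, 5, 6, 2, 3, 1, 2, 3, 2, 1] .leaf)))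

def lev1T0_219 : WTree := (.node (.node (.node .leaf 1666 [0, 1, 2, 3, 2, 3, 5, 4, 3, 1, 2, 3, 2, 1] .leaf) 1667 [3, 1, 2, 3, 2, 3, 5, 4, 3, 1, 2, 3, 2, 1] (.node .leaf 1668 [4, 1, 2, 3, 2, 3, 5, 4, 3, 1, 2, 3, 2, 1] .leaf)) 1669 [5, 1, 2, 3, 2, 3, 5, 4, 3, 1, 2, 3, 2, 1] (.node (.node .leaf 1670 [4, 3, 2, 3, 2, 3, 5, 4, 3, 1, 2, 3, 2, 1] .leaf) 1671 [5, 3, 2, 3, 2, 3, 5, 4, 3, 1, 2, 3, 2, 1] (.node .leaf 1672 [6, 3, 2, 3, 2, 3, 5, 4, 3, 1, 2, 3, 2, 1] .leaf)))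

def lev1T0_220 : WTree := (.node (.node (.node (.node lev1T0_204 1553 [6, 4, 3, 2, 3, 5, 2, 3, 0, 1, 2, 3, 2, 1] lev1T0_205) 1561 [3, 5, 4, 3, 6, 5, 2, 3, 0, 1, 2, 3, 2, 1] (.node lev1T0_206 1569 [3, 4, 2, 3, 5, 6, 2, 3, 0, 1, 2, 3, 2, 1] lev1T0_207)) 1577 [1, 2, 3, 2, 3, 6, 4, 3, 0, 1, 2, 3, 2, 1] (.node (.node lev1T0_208 1585 [3, 5, 4, 3, 2, 3, 5, 3, 0, 1, 2, 3, 2, 1] lev1T0_209) 1593 [2, 3, 6, 4, 3, 2, 3, 5, 0, 1, 2, 3, 2, 1] (.node lev1T0_210 1601 [3, 6, 1, 2, 3, 5, 3, 2, 3, 1, 2, 3, 2, 1] lev1T0_211))) 1609 [5, 6, 3, 2, 3, 5, 3, 2, 3, 1, 2, 3, 2, 1] (.node (.node (.node lev1T0_212 1617 [5, 6, 3, 2, 3, 6, 3, 2, 3, 1, 2, 3, 2, 1] lev1T0_213) 1625 [3, 4, 2, 3, 2, 3, 5, 2, 3, 1, 2, 3, 2, 1] (.node lev1T0_214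 1633 [5, 2, 3, 4, 2, 3, 5, 2, 3, 1, 2, 3, 2, 1] lev1T0_215)) 1641 [6, 3, 5, 4, 3, 6, 5, 2, 3, 1, 2, 3, 2, 1] (.node (.node lev1T0_216 1649 [3, 2, 3, 4, 2, 3, 6, 2, 3, 1, 2, 3, 2, 1] lev1T0_217) 1657 [2, 3, 6, 3, 5, 3, 6, 2, 3, 1, 2, 3, 2, 1] (.node lev1T0_218 1665 [3, 4, 3, 1, 2, 3, 5, 4, 3, 1, 2, 3, 2, 1] lev1T0_219))))

def lev1T0_221 : WTree := (.node (.node (.node .leaf 1674 [5, 4, 2, 3, 2, 3, 5, 4, 3, 1, 2, 3, 2, 1] .leaf) 1675 [6, 4, 2, 3, 2, 3, 5, 4, 3, 1, 2, 3, 2, 1] (.node .leaf 1676 [3, 5, 2, 3, 2, 3, 5, 4, 3, 1, 2, 3, 2, 1] .leaf)) 1677 [3, 6, 2, 3, 2, 3, 5, 4, 3, 1, 2, 3, 2, 1] (.node (.node .leaf 1678 [2, 3, 4, 3, 2, 3, 5, 4, 3, 1, 2, 3, 2, 1] .leaf) 1679 [6, 3, 4, 3, 2, 3, 5, 4, 3, 1, 2, 3, 2,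 1] (.node .leaf 1680 [1, 2, 3, 4, 2, 3, 5, 4, 3, 1, 2, 3, 2, 1] .leaf)))

def lev1T0_222 : WTree := (.node (.node (.node .leaf 1682 [6, 2, 3, 4, 2, 3, 5, 4, 3, 1, 2, 3, 2, 1] .leaf) 1683 [1, 2, 3, 1, 2, 3, 6, 4, 3, 1, 2, 3, 2, 1] (.node .leaf 1684 [4, 2, 3, 1, 2, 3, 6, 4, 3, 1, 2, 3, 2, 1] .leaf)) 1685 [5, 2, 3, 1, 2, 3, 6, 4, 3, 1, 2, 3, 2, 1] (.node (.node .leaf 1686 [6, 2, 3, 1, 2, 3, 6, 4, 3, 1, 2, 3, 2, 1] .leaf) 1687 [5, 4, 3, 1, 2, 3, 6, 4, 3, 1, 2, 3, 2, 1] (.node .leaf 1688 [6, 4, 3, 1, 2, 3, 6, 4, 3, 1, 2, 3, 2, 1] .leaf)))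

def lev1T0_223 : WTree := (.node (.node (.node .leaf 1690 [5, 6, 3, 1, 2, 3, 6, 4, 3, 1, 2, 3, 2, 1] .leaf) 1691 [0, 1, 2, 3, 2, 3, 6, 4, 3, 1, 2, 3, 2, 1] (.node .leaf 1692 [3, 1, 2, 3, 2, 3, 6, 4, 3, 1, 2, 3, 2, 1] .leaf)) 1693 [5, 1, 2, 3, 2, 3, 6, 4, 3, 1, 2, 3, 2, 1] (.node (.node .leaf 1694 [6, 1, 2, 3, 2, 3, 6, 4, 3, 1, 2, 3, 2, 1] .leaf) 1695 [5, 3, 2, 3, 2, 3, 6, 4, 3, 1, 2, 3, 2, 1] (.node .leaf 1696 [3, 5, 4, 3, 2, 3, 6, 4, 3, 1, 2, 3, 2, 1] .leaf)))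

def lev1T0_224 : WTree := (.node (.node (.node .leaf 1698 [3, 6, 5, 3, 2, 3, 6, 4, 3, 1, 2, 3, 2, 1] .leaf) 1699 [2, 3, 5, 4, 3, 2, 3, 5, 3, 1, 2, 3, 2, 1] (.node .leaf 1700 [6, 3, 5, 4, 3, 2, 3, 5, 3, 1, 2, 3, 2, 1] .leaf)) 1701 [2, 3, 2, 3, 4, 2, 3, 5, 3, 1, 2, 3, 2, 1] (.node (.node .leaf 1702 [4, 2, 3, 1, 2, 3, 5, 6, 3, 1, 2, 3, 2, 1] .leaf) 1703 [3, 1, 2, 3, 2, 3, 5, 6, 3, 1, 2, 3, 2, 1] (.node .leaf 1704 [4, 1, 2, 3, 2, 3, 5, 6, 3, 1, 2, 3, 2, 1] .leaf)))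

def lev1T0_225 : WTree := (.node (.node (.node .leaf 1706 [5, 3, 2, 3, 2, 3, 5, 6, 3, 1, 2, 3, 2, 1] .leaf) 1707 [3, 4, 2, 3, 2, 3, 5, 6, 3, 1, 2, 3, 2, 1] (.node .leaf 1708 [3, 5, 4, 3, 2, 3, 5, 6, 3, 1, 2, 3, 2, 1] .leaf)) 1709 [3, 6, 5, 3, 2, 3, 5, 6, 3, 1, 2, 3, 2, 1] (.node (.node .leaf 1710 [1, 2, 3, 5, 2, 3, 2, 3, 5, 1, 2, 3, 2, 1] .leaf) 1711 [2, 3, 6, 3, 4, 3, 2, 3, 5, 1, 2, 3, 2, 1] (.node .leaf 1712 [5, 3, 6, 3, 4, 3, 2, 3, 5, 1, 2, 3, 2, 1] .leaf)))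

def lev1T0_226 : WTree := (.node (.node (.node .leaf 1714 [6, 2, 3, 5, 4, 3, 2, 3, 5, 1, 2, 3, 2, 1] .leaf) 1715 [3, 2, 3, 6, 4, 3, 2, 3, 5, 1, 2, 3, 2, 1] (.node .leaf 1716 [4, 2, 3, 6, 4, 3, 2, 3, 5, 1, 2, 3, 2, 1] .leaf)) 1717 [5, 2, 3, 6, 4, 3, 2, 3, 5, 1, 2, 3, 2, 1] (.node (.node .leaf 1718 [5, 4, 3, 6, 4, 3, 2, 3, 5, 1, 2, 3, 2, 1] .leaf) 1719 [1, 2, 3, 5, 6, 3, 2, 3, 5, 1, 2, 3, 2, 1] (.node .leaf 1720 [3, 2, 3, 5, 6, 3, 2, 3, 5, 1, 2, 3, 2, 1] .leaf)))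

def lev1T0_227 : WTree := (.node (.node (.node .leaf 1722 [6, 4, 3, 5, 6, 3, 2, 3, 5, 1, 2, 3, 2, 1] .leaf) 1723 [2, 3, 5, 4, 3, 6, 2, 3, 5, 1, 2, 3, 2, 1] (.node .leaf 1724 [6, 3, 5, 4, 3, 6, 2, 3, 5, 1, 2, 3, 2, 1] .leaf)) 1725 [1, 2, 3, 2, 3, 5, 6, 3, 5, 1, 2, 3, 2, 1] (.node (.node .leaf 1726 [4, 2, 3, 2, 3, 5, 6, 3, 5, 1, 2, 3, 2, 1] .leaf) 1727 [5, 2, 3, 2, 3, 5, 6, 3, 5, 1, 2, 3, 2, 1] (.node .leaf 1728 [3, 2, 3, 6, 2, 3, 1, 2, 3, 5, 4, 3, 2, 1] .leaf)))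

def lev1T0_228 : WTree := (.node (.node (.node .leaf 1730 [4, 3, 5, 2, 3, 1, 2, 3, 0, 1, 2, 3, 6, 1] .leaf) 1731 [2, 3, 5, 4, 3, 1, 2, 3, 0, 1, 2, 3, 6, 1] (.node .leaf 1732 [1, 2, 3, 5, 3, 1, 2, 3, 0, 1, 2, 3, 6, 1] .leaf)) 1733 [3, 4, 2, 3, 5, 1, 2, 3, 0, 1, 2, 3, 6, 1] (.node (.node .leaf 1734 [3, 4, 2, 3, 6, 1, 2, 3, 0, 1, 2, 3, 6, 1] .leaf) 1735 [1, 2, 3, 5, 4, 3, 2, 3, 0, 1, 2, 3, 6, 1] (.node .leaf 1736 [4, 2, 3, 5, 4, 3, 2, 3, 0, 1, 2, 3, 6, 1] .leaf)))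

def lev1T0_229 : WTree := (.node (.node (.node .leaf 1738 [3, 1, 2, 3, 5, 3, 2, 3, 0, 1, 2, 3, 6, 1] .leaf) 1739 [4, 1, 2, 3, 5, 3, 2, 3, 0, 1, 2, 3, 6, 1] (.node .leaf 1740 [4, 3, 2, 3, 5, 3, 2, 3, 0, 1, 2, 3, 6, 1] .leaf)) 1741 [5, 3, 2, 3, 5, 3, 2, 3, 0, 1, 2, 3, 6, 1] (.node (.node .leaf 1742 [5, 3, 2, 3, 6, 3, 2, 3, 0, 1, 2, 3, 6, 1] .leaf) 1743 [2, 3, 5, 3, 6, 3, 2, 3, 0, 1, 2, 3, 6, 1] (.node .leaf 1744 [3, 0, 1, 2, 3, 5, 2, 3, 0, 1, 2, 3, 6, 1] .leaf)))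

def lev1T0_230 : WTree := (.node (.node (.node .leaf 1746 [5, 3, 1, 2, 3, 5, 2, 3, 0, 1, 2, 3, 6, 1] .leaf) 1747 [6, 3, 1, 2, 3, 5, 2, 3, 0, 1, 2, 3, 6, 1] (.node .leaf 1748 [3, 4, 1, 2, 3, 5, 2, 3, 0, 1, 2, 3, 6, 1] .leaf)) 1749 [6, 4, 3, 2, 3, 5, 2, 3, 0, 1, 2, 3, 6, 1] (.node (.node .leaf 1750 [5, 6, 3, 2, 3, 5, 2, 3, 0, 1, 2, 3, 6, 1] .leaf) 1751 [2, 3, 1, 2, 3, 6, 2, 3, 0, 1, 2, 3, 6, 1] (.node .leaf 1752 [3, 4, 1, 2, 3, 6, 2, 3, 0, 1, 2, 3, 6, 1] .leaf)))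

def lev1T0_231 : WTree := (.node (.node (.node .leaf 1754 [2, 3, 5, 4, 3, 2, 3, 5, 0, 1, 2, 3, 6, 1] .leaf) 1755 [2, 3, 6, 4, 3, 2, 3, 5, 0, 1, 2, 3, 6, 1] (.node .leaf 1756 [2, 3, 6, 0, 1, 2, 3, 2, 3, 1, 2, 3, 6, 1] .leaf)) 1757 [3, 2, 3, 6, 1, 2, 3, 2, 3, 1, 2, 3, 6, 1] (.node (.node .leaf 1758 [2, 3, 5, 3, 4, 2, 3, 2, 3, 1, 2, 3, 6, 1] .leaf) 1759 [1, 2, 3, 5, 4, 2, 3, 2, 3, 1, 2, 3, 6, 1] (.node .leaf 1760 [4, 2, 3, 5, 4, 2, 3, 2, 3, 1, 2, 3, 6, 1] .leaf)))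

def lev1T0_232 : WTree := (.node (.node (.node .leaf 1762 [4, 3, 2, 3, 5, 2, 3, 2, 3, 1, 2, 3, 6, 1] .leaf) 1763 [4, 3, 5, 2, 3, 4, 3, 2, 3, 1, 2, 3, 6, 1] (.node .leaf 1764 [1, 2, 3, 5, 3, 4, 3, 2, 3, 1, 2, 3, 6, 1] .leaf)) 1765 [0, 1, 2, 3, 5, 4, 3, 2, 3, 1, 2, 3, 6, 1] (.node (.node .leaf 1766 [3, 1, 2, 3, 5, 4, 3, 2, 3, 1, 2, 3, 6, 1] .leaf) 1767 [4, 1, 2, 3, 5, 4, 3, 2, 3, 1, 2, 3, 6, 1] (.node .leaf 1768 [4, 3, 2, 3, 5, 4, 3, 2, 3, 1, 2, 3, 6, 1] .leaf)))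

def lev1T0_233 : WTree := (.node (.node (.node .leaf 1770 [2, 3, 1, 2, 3, 5, 3, 2, 3, 1, 2, 3, 6, 1] .leaf) 1771 [5, 3, 1, 2, 3, 5, 3, 2, 3, 1, 2, 3, 6, 1] (.node .leaf 1772 [6, 3, 1, 2, 3, 5, 3, 2, 3, 1, 2, 3, 6, 1] .leaf)) 1773 [3, 2, 3, 2, 3, 5, 3, 2, 3, 1, 2, 3, 6, 1] (.node (.node .leaf 1774 [6, 4, 3, 2, 3, 5, 3, 2, 3, 1, 2, 3, 6, 1] .leaf) 1775 [4, 1, 2, 3, 6, 5, 3, 2, 3, 1, 2, 3, 6, 1] (.node .leaf 1776 [5, 3, 1, 2, 3, 6, 3, 2, 3, 1, 2, 3, 6, 1] .leaf)))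

def lev1T0_234 : WTree := (.node (.node (.node .leaf 1778 [4, 2, 3, 5, 2, 3, 4, 2, 3, 1, 2, 3, 6, 1] .leaf) 1779 [1, 2, 3, 6, 5, 3, 4, 2, 3, 1, 2, 3, 6, 1] (.node .leaf 1780 [2, 3, 1, 2, 3, 5, 4, 2, 3, 1, 2, 3, 6, 1] .leaf)) 1781 [4, 3, 1, 2, 3, 5, 4, 2, 3, 1, 2, 3, 6, 1] (.node (.node .leaf 1782 [6, 3, 1, 2, 3, 5, 4, 2, 3, 1, 2, 3, 6, 1] .leaf) 1783 [2, 3, 1, 2, 3, 6, 4, 2, 3, 1, 2, 3, 6, 1] (.node .leaf 1784 [1, 2, 3, 2, 3, 6, 4, 2, 3, 1, 2, 3, 6, 1] .leaf)))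

def lev1T0_235 : WTree := (.node (.node (.node .leaf 1786 [5, 2, 3, 2, 3, 6, 4, 2, 3, 1, 2, 3, 6, 1] .leaf) 1787 [6, 3, 0, 1, 2, 3, 5, 2, 3, 1, 2, 3, 6, 1] (.node .leaf 1788 [6, 2, 3, 1, 2, 3, 5, 2, 3, 1, 2, 3, 6, 1] .leaf)) 1789 [6, 4, 3, 1, 2, 3, 5, 2, 3, 1, 2, 3, 6, 1] (.node (.node .leaf 1790 [5, 6, 3, 1, 2, 3, 5, 2, 3, 1, 2, 3, 6, 1] .leaf) 1791 [2, 3, 0, 1, 2, 3, 6, 2, 3, 1, 2, 3, 6, 1] (.node .leaf 1792 [3, 2, 3, 1, 2, 3, 6, 2, 3, 1, 2, 3, 6, 1] .leaf)))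

def lev1T0_236 : WTree := (.node (.node (.node .leaf 1794 [2, 3, 4, 1, 2, 3, 6, 2, 3, 1, 2, 3, 6, 1] .leaf) 1795 [1, 2, 3, 4, 2, 3, 6, 2, 3, 1, 2, 3, 6, 1] (.node .leaf 1796 [3, 2, 3, 4, 2, 3, 6, 2, 3, 1, 2, 3, 6, 1] .leaf)) 1797 [0, 1, 2, 3, 2, 3, 6, 4, 3, 1, 2, 3, 6, 1] (.node (.node .leaf 1798 [3, 1, 2, 3, 2, 3, 6, 4, 3, 1, 2, 3, 6, 1] .leaf) 1799 [6, 1, 2, 3, 2, 3, 6, 4, 3, 1, 2, 3, 6, 1] (.node .leaf 1800 [3, 5, 4, 3, 2, 3, 6, 4, 3, 1, 2, 3, 6, 1] .leaf)))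

def lev1T0_237 : WTree := (.node (.node (.node (.node lev1T0_221 1681 [5, 2, 3, 4, 2, 3, 5, 4, 3, 1, 2, 3, 2, 1] lev1T0_222) 1689 [6, 5, 3, 1, 2, 3, 6, 4, 3, 1, 2, 3, 2, 1] (.node lev1T0_223 1697 [3, 6, 4, 3, 2, 3, 6, 4, 3, 1, 2, 3, 2, 1] lev1T0_224)) 1705 [4, 3, 2, 3, 2, 3, 5, 6, 3, 1, 2, 3, 2, 1] (.node (.node lev1T0_225 1713 [1, 2, 3, 5, 4, 3, 2, 3, 5, 1, 2, 3, 2, 1] lev1T0_226) 1721 [6, 2, 3, 5, 6, 3, 2, 3, 5, 1, 2, 3, 2, 1] (.node lev1T0_227 1729 [2, 3, 5, 2, 3, 1, 2, 3, 0, 1, 2, 3, 6, 1] lev1T0_228))) 1737 [0, 1, 2, 3, 5, 3, 2, 3, 0, 1, 2, 3, 6, 1] (.node (.node (.node lev1T0_229 1745 [4, 3, 1, 2, 3, 5, 2, 3, 0, 1, 2, 3, 6, 1] lev1T0_230) 1753 [2, 3, 4, 2, 3, 6, 2, 3, 0, 1, 2, 3, 6, 1] (.node lev1T0_231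 1761 [2, 3, 2, 3, 5, 2, 3, 2, 3, 1, 2, 3, 6, 1] lev1T0_232)) 1769 [3, 0, 1, 2, 3, 5, 3, 2, 3, 1, 2, 3, 6, 1] (.node (.node lev1T0_233 1777 [1, 2, 3, 5, 2, 3, 4, 2, 3, 1, 2, 3, 6, 1] lev1T0_234) 1785 [4, 2, 3, 2, 3, 6, 4, 2, 3, 1, 2, 3, 6, 1] (.node lev1T0_235 1793 [5, 2, 3, 1, 2, 3, 6, 2, 3, 1, 2, 3, 6, 1] lev1T0_236))))

def lev1T0_238 : WTree := (.node (.node (.node (.node .leaf 1802 [2, 3, 6, 3, 4, 3, 2, 3, 5, 1, 2, 3, 6, 1] .leaf) 1803 [5, 3, 6, 3, 4, 3, 2, 3, 5, 1, 2, 3, 6, 1] .leaf) 1804 [1, 2, 3, 5, 4, 3, 2, 3, 5, 1, 2, 3, 6, 1] (.node .leaf 1805 [1, 2, 3, 6, 4, 3, 2, 3, 5, 1, 2, 3, 6, 1] .leaf)) 1806 [3, 2, 3, 6, 4, 3, 2, 3, 5, 1, 2, 3, 6, 1] (.node (.node .leaf 1807 [4, 2, 3, 6, 4, 3, 2, 3, 5, 1, 2,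 3, 6, 1] .leaf) 1808 [2, 3, 5, 2, 3, 4, 2, 3, 5, 1, 2, 3, 6, 1] (.node .leaf 1809 [5, 3, 6, 5, 3, 6, 2, 3, 5, 1, 2, 3, 6, 1] .leaf)))

def lev1T0_239 : WTree := (.node (.node (.node .leaf 1811 [3, 2, 3, 5, 4, 3, 1, 2, 3, 0, 1, 2, 3, 6] .leaf) 1812 [6, 2, 3, 5, 4, 3, 1, 2, 3, 0, 1, 2, 3, 6] (.node .leaf 1813 [2, 3, 5, 0, 1, 2, 3, 2, 3, 0, 1, 2, 3, 6] .leaf)) 1814 [1, 2, 3, 2, 3, 6, 3, 2, 3, 0, 1, 2, 3, 6] (.node (.node .leaf 1815 [5, 2, 3, 2, 3, 6, 3, 2, 3, 0, 1, 2, 3, 6] .leaf) 1816 [1, 2, 3, 5, 3, 6, 3, 2, 3, 0, 1, 2, 3, 6] (.node .leaf 1817 [0, 1, 2, 3, 5, 6, 3, 2, 3, 0, 1, 2, 3, 6] .leaf)))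

def lev1T0_240 : WTree := (.node (.node (.node .leaf 1819 [6, 1, 2, 3, 5, 6, 3, 2, 3, 0, 1, 2, 3, 6] .leaf) 1820 [6, 4, 2, 3, 5, 6, 3, 2, 3, 0, 1, 2, 3, 6] (.node .leaf 1821 [3, 6, 2, 3, 5, 6, 3, 2, 3, 0, 1, 2, 3, 6] .leaf)) 1822 [3, 2, 3, 1, 2, 3, 6, 2, 3, 0, 1, 2, 3, 6] (.node (.node .leaf 1823 [4, 2, 3, 1, 2, 3, 6, 2, 3, 0, 1, 2, 3, 6] .leaf) 1824 [5, 3, 4, 3, 2, 3, 6, 2, 3, 0, 1, 2, 3, 6] (.node .leaf 1825 [1, 2, 3, 0, 1, 2, 3, 1, 2, 3, 1, 2, 3, 6] .leaf)))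

def lev1T0_241 : WTree := (.node (.node (.node .leaf 1827 [4, 3, 2, 3, 1, 2, 3, 1, 2, 3, 1, 2, 3, 6] .leaf) 1828 [3, 4, 2, 3, 1, 2, 3, 1, 2, 3, 1, 2, 3, 6] (.node .leaf 1829 [2, 3, 4, 3, 1, 2, 3, 1, 2, 3, 1, 2, 3, 6] .leaf)) 1830 [5, 3, 4, 3, 1, 2, 3, 1, 2, 3, 1, 2, 3, 6] (.node (.node .leaf 1831 [2, 3, 6, 3, 1, 2, 3, 1, 2, 3, 1, 2, 3, 6] .leaf) 1832 [6, 2, 3, 4, 1, 2, 3, 1, 2, 3, 1, 2, 3, 6] (.node .leaf 1833 [5, 6, 3, 4, 1, 2, 3, 1, 2, 3, 1, 2, 3, 6] .leaf)))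

def lev1T0_242 : WTree := (.node (.node (.node .leaf 1835 [3, 2, 3, 6, 1, 2, 3, 1, 2, 3, 1, 2, 3, 6] .leaf) 1836 [1, 2, 3, 6, 3, 2, 3, 1, 2, 3, 1, 2, 3, 6] (.node .leaf 1837 [4, 1, 2, 3, 6, 2, 3, 1, 2, 3, 1, 2, 3, 6] .leaf)) 1838 [5, 1, 2, 3, 6, 2, 3, 1, 2, 3, 1, 2, 3, 6] (.node (.node .leaf 1839 [3, 4, 2, 3, 6, 2, 3, 1, 2, 3, 1, 2, 3, 6] .leaf) 1840 [3, 5, 2, 3, 6, 2, 3, 1, 2, 3, 1, 2, 3, 6] (.node .leaf 1841 [3, 2, 3, 5, 3, 4, 3, 1, 2, 3, 1, 2, 3, 6] .leaf)))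

def lev1T0_243 : WTree := (.node (.node (.node .leaf 1843 [6, 1, 2, 3, 5, 6, 3, 1, 2, 3, 1, 2, 3, 6] .leaf) 1844 [3, 2, 3, 1, 2, 3, 4, 1, 2, 3, 1, 2, 3, 6] (.node .leaf 1845 [4, 2, 3, 1, 2, 3, 4, 1, 2, 3, 1, 2, 3, 6] .leaf)) 1846 [5, 2, 3, 1, 2, 3, 4, 1, 2, 3, 1, 2, 3, 6] (.node (.node .leaf 1847 [5, 4, 3, 1, 2, 3, 4, 1, 2, 3, 1, 2, 3, 6] .leaf) 1848 [6, 5, 3, 1, 2, 3, 4, 1, 2, 3, 1, 2, 3, 6] (.node .leaf 1849 [3, 2, 3, 5, 0, 1, 2, 3, 2, 3, 1, 2, 3, 6] .leaf)))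

def lev1T0_244 : WTree := (.node (.node (.node .leaf 1851 [3, 2, 3, 6, 0, 1, 2, 3, 2, 3, 1, 2, 3, 6] .leaf) 1852 [2, 3, 5, 4, 3, 1, 2, 3, 2, 3, 1, 2, 3, 6] (.node .leaf 1853 [1, 2, 3, 5, 3, 1, 2, 3, 2, 3, 1, 2, 3, 6] .leaf)) 1854 [4, 2, 3, 5, 3, 1, 2, 3, 2, 3, 1, 2, 3, 6] (.node (.node .leaf 1855 [4, 1, 2, 3, 5, 1, 2, 3, 2, 3, 1, 2, 3, 6] .leaf) 1856 [3, 6, 2, 3, 5, 1, 2, 3, 2, 3, 1, 2, 3, 6] (.node .leaf 1857 [3, 1, 2, 3, 6, 1, 2, 3, 2, 3, 1, 2, 3, 6] .leaf)))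

def lev1T0_245 : WTree := (.node (.node (.node .leaf 1859 [4, 3, 2, 3, 6, 1, 2, 3, 2, 3, 1, 2, 3, 6] .leaf) 1860 [5, 3, 2, 3, 6, 1, 2, 3, 2, 3, 1, 2, 3, 6] (.node .leaf 1861 [1, 2, 3, 5, 4, 3, 2, 3, 2, 3, 1, 2, 3, 6] .leaf)) 1862 [4, 2, 3, 5, 4, 3, 2, 3, 2, 3, 1, 2, 3, 6] (.node (.node .leaf 1863 [3, 1, 2, 3, 5, 3, 2, 3, 2, 3, 1, 2, 3, 6] .leaf) 1864 [1, 2, 3, 2, 3, 6, 2, 3, 2, 3, 1, 2, 3, 6] (.node .leaf 1865 [4, 3, 5, 3, 2, 3, 4, 3, 2, 3, 1, 2, 3, 6] .leaf)))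

def lev1T0_246 : WTree := (.node (.node (.node .leaf 1867 [3, 6, 1, 2, 3, 5, 6, 3, 2, 3, 1, 2, 3, 6] .leaf) 1868 [5, 3, 6, 4, 3, 2, 3, 6, 4, 3, 1, 2, 3, 6] (.node .leaf 1869 [2, 3, 6, 5, 3, 2, 3, 6, 4, 3, 1, 2, 3, 6] .leaf)) 1870 [5, 3, 6, 5, 3, 2, 3, 6, 4, 3, 1, 2, 3, 6] (.node (.node .leaf 1871 [2, 3, 1, 2, 3, 5, 1, 2, 3, 0, 1, 2, 3, 2, 1] .leaf) 1872 [4, 3, 1, 2, 3, 5, 1, 2, 3, 0, 1, 2, 3, 2, 1] (.node .leaf 1873 [5, 3, 1, 2, 3, 5, 1, 2, 3, 0, 1, 2, 3, 2, 1] .leaf)))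

def lev1T0_247 : WTree := (.node (.node (.node .leaf 1875 [3, 6, 1, 2, 3, 5, 1, 2, 3, 0, 1, 2, 3, 2, 1] .leaf) 1876 [5, 4, 3, 2, 3, 5, 1, 2, 3, 0, 1, 2, 3, 2, 1] (.node .leaf 1877 [6, 4, 3, 2, 3, 5, 1, 2, 3, 0, 1, 2, 3, 2, 1] .leaf)) 1878 [6, 5, 3, 2, 3, 5, 1, 2, 3, 0, 1, 2, 3, 2, 1] (.node (.node .leaf 1879 [3, 6, 3, 2, 3, 5, 1, 2, 3, 0, 1, 2, 3, 2, 1] .leaf) 1880 [5, 6, 3, 2, 3, 5, 1, 2, 3, 0, 1, 2, 3, 2, 1] (.node .leaf 1881 [4, 3, 0, 1, 2, 3, 5, 2, 3, 0, 1, 2, 3, 2, 1] .leaf)))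

def lev1T0_248 : WTree := (.node (.node (.node .leaf 1883 [3, 4, 3, 1, 2, 3, 5, 2, 3, 0, 1, 2, 3, 2, 1] .leaf) 1884 [5, 4, 3, 1, 2, 3, 5, 2, 3, 0, 1, 2, 3, 2, 1] (.node .leaf 1885 [2, 3, 4, 1, 2, 3, 5, 2, 3, 0, 1, 2, 3, 2, 1] .leaf)) 1886 [5, 3, 4, 1, 2, 3, 5, 2, 3, 0, 1, 2, 3, 2, 1] (.node (.node .leaf 1887 [6, 3, 4, 1, 2, 3, 5, 2, 3, 0, 1, 2, 3, 2, 1] .leaf) 1888 [2, 3, 4, 3, 2, 3, 5, 2, 3, 0, 1, 2, 3, 2, 1] (.node .leaf 1889 [6, 3, 4, 3, 2, 3, 5, 2, 3, 0, 1, 2, 3, 2, 1] .leaf)))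

def lev1T0_249 : WTree := (.node (.node (.node .leaf 1891 [3, 2, 3, 4, 2, 3, 5, 2, 3, 0, 1, 2, 3, 2, 1] .leaf) 1892 [5, 2, 3, 4, 2, 3, 5, 2, 3, 0, 1, 2, 3, 2, 1] (.node .leaf 1893 [6, 2, 3, 4, 2, 3, 5, 2, 3, 0, 1, 2, 3, 2, 1] .leaf)) 1894 [6, 5, 3, 4, 2, 3, 5, 2, 3, 0, 1, 2, 3, 2, 1] (.node (.node .leaf 1895 [5, 6, 3, 4, 2, 3, 5, 2, 3, 0, 1, 2, 3, 2, 1] .leaf) 1896 [5, 3, 6, 4, 2, 3, 5, 2, 3, 0, 1, 2, 3, 2, 1] (.node .leaf 1897 [2, 3, 5, 4, 3, 6, 5, 2, 3, 0, 1, 2, 3, 2, 1] .leaf)))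

def lev1T0_250 : WTree := (.node (.node (.node .leaf 1899 [5, 3, 2, 3, 5, 3, 6, 2, 3, 0, 1, 2, 3, 2, 1] .leaf) 1900 [2, 3, 6, 3, 5, 3, 6, 2, 3, 0, 1, 2, 3, 2, 1] (.node .leaf 1901 [1, 2, 3, 6, 5, 3, 6, 2, 3, 0, 1, 2, 3, 2, 1] .leaf)) 1902 [5, 4, 3, 2, 3, 5, 6, 2, 3, 0, 1, 2, 3, 2, 1] (.node (.node .leaf 1903 [6, 5, 3, 2, 3, 5, 6, 2, 3, 0, 1, 2, 3, 2, 1] .leaf) 1904 [4, 1, 2, 3, 2, 3, 5, 4, 3, 0, 1, 2, 3, 2, 1] (.node .leaf 1905 [6, 1, 2, 3, 2, 3, 5, 4, 3, 0, 1, 2, 3, 2, 1] .leaf)))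

def lev1T0_251 : WTree := (.node (.node (.node .leaf 1907 [5, 4, 2, 3, 2, 3, 5, 4, 3, 0, 1, 2, 3, 2, 1] .leaf) 1908 [6, 4, 2, 3, 2, 3, 5, 4, 3, 0, 1, 2, 3, 2, 1] (.node .leaf 1909 [3, 5, 2, 3, 2, 3, 5, 4, 3, 0, 1, 2, 3, 2, 1] .leaf)) 1910 [0, 1, 2, 3, 2, 3, 6, 4, 3, 0, 1, 2, 3, 2, 1] (.node (.node .leaf 1911 [5, 1, 2, 3, 2, 3, 6, 4, 3, 0, 1, 2, 3, 2, 1] .leaf) 1912 [6, 1, 2, 3, 2, 3, 6, 4, 3, 0, 1, 2, 3, 2, 1] (.node .leaf 1913 [3, 5, 4, 3, 2, 3, 6, 4, 3, 0, 1, 2, 3, 2, 1] .leaf)))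

def lev1T0_252 : WTree := (.node (.node (.node .leaf 1915 [2, 3, 5, 4, 3, 2, 3, 5, 3, 0, 1, 2, 3, 2, 1] .leaf) 1916 [1, 2, 3, 5, 4, 3, 2, 3, 5, 0, 1, 2, 3, 2, 1] (.node .leaf 1917 [6, 2, 3, 5, 4, 3, 2, 3, 5, 0, 1, 2, 3, 2, 1] .leaf)) 1918 [3, 2, 3, 6, 4, 3, 2, 3, 5, 0, 1, 2, 3, 2, 1] (.node (.node .leaf 1919 [5, 2, 3, 6, 4, 3, 2, 3, 5, 0, 1, 2, 3, 2, 1] .leaf) 1920 [4, 2, 3, 6, 5, 3, 2, 3, 5, 0, 1, 2, 3, 2, 1] (.node .leaf 1921 [3, 2, 3, 1, 2, 3, 5, 3, 2, 3, 1, 2, 3, 2, 1] .leaf)))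

def lev1T0_253 : WTree := (.node (.node (.node .leaf 1923 [5, 2, 3, 1, 2, 3, 5, 3, 2, 3, 1, 2, 3, 2, 1] .leaf) 1924 [5, 4, 3, 1, 2, 3, 5, 3, 2, 3, 1, 2, 3, 2, 1] (.node .leaf 1925 [6, 5, 3, 1, 2, 3, 5, 3, 2, 3, 1, 2, 3, 2, 1] .leaf)) 1926 [2, 3, 6, 1, 2, 3, 5, 3, 2, 3, 1, 2, 3, 2, 1] (.node (.node .leaf 1927 [4, 1, 2, 3, 2, 3, 5, 3, 2, 3, 1, 2, 3, 2, 1] .leaf) 1928 [5, 1, 2, 3, 2, 3, 5, 3, 2, 3, 1, 2, 3, 2, 1] (.node .leaf 1929 [5, 4, 2, 3, 2, 3, 5, 3, 2, 3, 1, 2, 3, 2, 1] .leaf)))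

def lev1T0_254 : WTree := (.node (.node (.node (.node lev1T0_238 1810 [6, 3, 5, 3, 2, 3, 1, 2, 3, 0, 1, 2, 3, 6] lev1T0_239) 1818 [4, 1, 2, 3, 5, 6, 3, 2, 3, 0, 1, 2, 3, 6] (.node lev1T0_240 1826 [6, 2, 3, 0, 1, 2, 3, 1, 2, 3, 1, 2, 3, 6] lev1T0_241)) 1834 [1, 2, 3, 6, 1, 2, 3, 1, 2, 3, 1, 2, 3, 6] (.node (.node lev1T0_242 1842 [3, 6, 2, 3, 5, 4, 3, 1, 2, 3, 1, 2, 3, 6] lev1T0_243) 1850 [6, 2, 3, 5, 0, 1, 2, 3, 2, 3, 1, 2, 3, 6] (.node lev1T0_244 1858 [2, 3, 2, 3, 6, 1, 2, 3, 2, 3, 1, 2, 3, 6] lev1T0_245))) 1866 [6, 4, 1, 2, 3, 5, 6, 3, 2, 3, 1, 2, 3, 6] (.node (.node (.node lev1T0_246 1874 [6, 3, 1, 2, 3, 5, 1, 2, 3, 0, 1, 2, 3, 2, 1] lev1T0_247) 1882 [5, 3, 0, 1, 2, 3, 5, 2, 3, 0, 1, 2, 3, 2, 1] (.node lev1T0_248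 1890 [1, 2, 3, 4, 2, 3, 5, 2, 3, 0, 1, 2, 3, 2, 1] lev1T0_249)) 1898 [1, 2, 3, 4, 2, 3, 6, 2, 3, 0, 1, 2, 3, 2, 1] (.node (.node lev1T0_250 1906 [3, 4, 2, 3, 2, 3, 5, 4, 3, 0, 1, 2, 3, 2, 1] lev1T0_251) 1914 [3, 6, 4, 3, 2, 3, 6, 4, 3, 0, 1, 2, 3, 2, 1] (.node lev1T0_252 1922 [4, 2, 3, 1, 2, 3, 5, 3, 2, 3, 1, 2, 3, 2, 1] lev1T0_253))))

def lev1T0_255 : WTree := (.node (.node (.node .leaf 1931 [6, 5, 2, 3, 2, 3, 5, 3, 2, 3, 1, 2, 3, 2, 1] .leaf) 1932 [3, 5, 6, 3, 2, 3, 5, 3, 2, 3, 1, 2, 3, 2, 1] (.node .leaf 1933 [1, 2, 3, 1, 2, 3, 6, 3, 2, 3, 1, 2, 3, 2, 1] .leaf)) 1934 [0, 1, 2, 3, 2, 3, 6, 3, 2, 3, 1, 2, 3, 2, 1] (.node (.node .leaf 1935 [4, 1, 2, 3, 2, 3, 6, 3, 2, 3, 1, 2, 3, 2, 1] .leaf) 1936 [5, 1, 2,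 3, 2, 3, 6, 3, 2, 3, 1, 2, 3, 2, 1] (.node .leaf 1937 [5, 4, 2, 3, 2, 3, 6, 3, 2, 3, 1, 2, 3, 2, 1] .leaf)))

def lev1T0_256 : WTree := (.node (.node (.node .leaf 1939 [3, 5, 2, 3, 1, 2, 3, 5, 2, 3, 1, 2, 3, 2, 1] .leaf) 1940 [2, 3, 4, 3, 1, 2, 3, 5, 2, 3, 1, 2, 3, 2, 1] (.node .leaf 1941 [5, 3, 4, 3, 1, 2, 3, 5, 2, 3, 1, 2, 3, 2, 1] .leaf)) 1942 [5, 2, 3, 4, 1, 2, 3, 5, 2, 3, 1, 2, 3, 2, 1] (.node (.node .leaf 1943 [6, 5, 3, 4, 1, 2, 3, 5, 2, 3, 1, 2, 3, 2, 1] .leaf) 1944 [5, 3, 6, 4, 1, 2, 3, 5, 2, 3, 1, 2, 3, 2, 1] (.node .leaf 1945 [1, 2, 3, 4, 3, 2, 3, 5, 2, 3, 1, 2, 3, 2, 1] .leaf)))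

def lev1T0_257 : WTree := (.node (.node (.node .leaf 1947 [3, 1, 2, 3, 4, 2, 3, 5, 2, 3, 1, 2, 3, 2, 1] .leaf) 1948 [5, 1, 2, 3, 4, 2, 3, 5, 2, 3, 1, 2, 3, 2, 1] (.node .leaf 1949 [3, 5, 2, 3, 4, 2, 3, 5, 2, 3, 1, 2, 3, 2, 1] .leaf)) 1950 [6, 5, 2, 3, 4, 2, 3, 5, 2, 3, 1, 2, 3, 2, 1] (.node (.node .leaf 1951 [3, 1, 2, 3, 5, 6, 3, 5, 2, 3, 1, 2, 3, 2, 1] .leaf) 1952 [2, 3, 5, 4, 2, 3, 6, 5, 2, 3, 1, 2, 3, 2, 1] (.node .leaf 1953 [1, 2, 3, 6, 5, 3, 6, 5, 2, 3, 1, 2, 3, 2, 1] .leaf)))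

def lev1T0_258 : WTree := (.node (.node (.node .leaf 1955 [1, 2, 3, 4, 1, 2, 3, 6, 2, 3, 1, 2, 3, 2, 1] .leaf) 1956 [1, 2, 3, 4, 3, 2, 3, 6, 2, 3, 1, 2, 3, 2, 1] (.node .leaf 1957 [0, 1, 2, 3, 4, 2, 3, 6, 2, 3, 1, 2, 3, 2, 1] .leaf)) 1958 [5, 1, 2, 3, 4, 2, 3, 6, 2, 3, 1, 2, 3, 2, 1] (.node (.node .leaf 1959 [5, 3, 2, 3, 4, 2, 3, 6, 2, 3, 1, 2, 3, 2, 1] .leaf) 1960 [3, 5, 2, 3, 4, 2, 3, 6, 2, 3, 1, 2, 3, 2, 1] (.node .leaf 1961 [4, 1, 2, 3, 5, 4, 3, 6, 2, 3, 1, 2, 3, 2, 1] .leaf)))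

def lev1T0_259 : WTree := (.node (.node (.node .leaf 1963 [6, 2, 3, 2, 3, 5, 3, 6, 2, 3, 1, 2, 3, 2, 1] .leaf) 1964 [5, 6, 3, 2, 3, 5, 3, 6, 2, 3, 1, 2, 3, 2, 1] (.node .leaf 1965 [1, 2, 3, 6, 3, 5, 3, 6, 2, 3, 1, 2, 3, 2, 1] .leaf)) 1966 [6, 3, 2, 3, 6, 5, 3, 6, 2, 3, 1, 2, 3, 2, 1] (.node (.node .leaf 1967 [5, 3, 1, 2, 3, 2, 3, 5, 4, 3, 1, 2, 3, 2, 1] .leaf) 1968 [3, 4, 1, 2, 3, 2, 3, 5, 4, 3, 1, 2, 3, 2, 1] (.node .leaf 1969 [3, 5, 3, 2, 3, 2, 3, 5, 4, 3, 1, 2, 3, 2, 1] .leaf)))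

def lev1T0_260 : WTree := (.node (.node (.node .leaf 1971 [5, 6, 3, 2, 3, 2, 3, 5, 4, 3, 1, 2, 3, 2, 1] .leaf) 1972 [2, 3, 5, 2, 3, 2, 3, 5, 4, 3, 1, 2, 3, 2, 1] (.node .leaf 1973 [4, 3, 5, 2, 3, 2, 3, 5, 4, 3, 1, 2, 3, 2, 1] .leaf)) 1974 [6, 2, 3, 4, 3, 2, 3, 5, 4, 3, 1, 2, 3, 2, 1] (.node (.node .leaf 1975 [6, 1, 2, 3, 4, 2, 3, 5, 4, 3, 1, 2, 3, 2, 1] .leaf) 1976 [0, 1, 2, 3, 1, 2, 3, 6, 4, 3, 1, 2, 3, 2, 1] (.node .leaf 1977 [5, 1, 2, 3, 1, 2, 3, 6, 4, 3, 1, 2, 3, 2, 1] .leaf)))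

def lev1T0_261 : WTree := (.node (.node (.node .leaf 1979 [5, 4, 2, 3, 1, 2, 3, 6, 4, 3, 1, 2, 3, 2, 1] .leaf) 1980 [3, 5, 4, 3, 1, 2, 3, 6, 4, 3, 1, 2, 3, 2, 1] (.node .leaf 1981 [2, 3, 1, 2, 3, 2, 3, 6, 4, 3, 1, 2, 3, 2, 1] .leaf)) 1982 [5, 3, 1, 2, 3, 2, 3, 6, 4, 3, 1, 2, 3, 2, 1] (.node (.node .leaf 1983 [2, 3, 5, 4, 3, 2, 3, 6, 4, 3, 1, 2, 3, 2, 1] .leaf) 1984 [6, 3, 5, 4, 3, 2, 3, 6, 4, 3, 1, 2, 3, 2, 1] (.node .leaf 1985 [5, 3, 6, 4, 3, 2, 3, 6, 4, 3, 1, 2, 3, 2, 1] .leaf)))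

def lev1T0_262 : WTree := (.node (.node (.node .leaf 1987 [6, 2, 3, 5, 4, 3, 2, 3, 5, 3, 1, 2, 3, 2, 1] .leaf) 1988 [1, 2, 3, 2, 3, 4, 2, 3, 5, 3, 1, 2, 3, 2, 1] (.node .leaf 1989 [3, 4, 2, 3, 1, 2, 3, 5, 6, 3, 1, 2, 3, 2, 1] .leaf)) 1990 [5, 2, 3, 6, 3, 4, 3, 2, 3, 5, 1, 2, 3, 2, 1] (.node (.node .leaf 1991 [6, 1, 2, 3, 5, 4, 3, 2, 3, 5, 1, 2, 3, 2, 1] .leaf) 1992 [5, 4, 2, 3, 6, 4, 3, 2, 3, 5, 1, 2, 3, 2, 1] (.node .leaf 1993 [6, 1, 2, 3, 5, 6, 3, 2, 3, 5, 1, 2, 3, 2, 1] .leaf)))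

def lev1T0_263 : WTree := (.node (.node (.node .leaf 1995 [3, 6, 2, 3, 5, 6, 3, 2, 3, 5, 1, 2, 3, 2, 1] .leaf) 1996 [1, 2, 3, 5, 4, 3, 6, 2, 3, 5, 1, 2, 3, 2, 1] (.node .leaf 1997 [1, 2, 3, 5, 2, 3, 1, 2, 3, 0, 1, 2, 3, 6, 1] .leaf)) 1998 [4, 2, 3, 5, 2, 3, 1, 2, 3, 0, 1, 2, 3, 6, 1] (.node (.node .leaf 1999 [1, 2, 3, 5, 4, 3, 1, 2, 3, 0, 1, 2, 3, 6, 1] .leaf) 2000 [4, 1, 2, 3, 5, 4, 3, 2, 3, 0, 1, 2, 3, 6, 1] (.node .leaf 2001 [5, 3, 1, 2, 3, 5, 3, 2, 3, 0, 1, 2, 3, 6, 1] .leaf)))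

def lev1T0_264 : WTree := (.node (.node (.node .leaf 2003 [5, 6, 3, 1, 2, 3, 5, 2, 3, 0, 1, 2, 3, 6, 1] .leaf) 2004 [2, 3, 4, 1, 2, 3, 6, 2, 3, 0, 1, 2, 3, 6, 1] (.node .leaf 2005 [1, 2, 3, 4, 2, 3, 6, 2, 3, 0, 1, 2, 3, 6, 1] .leaf)) 2006 [1, 2, 3, 5, 4, 3, 2, 3, 5, 0, 1, 2, 3, 6, 1] (.node (.node .leaf 2007 [3, 2, 3, 6, 4, 3, 2, 3, 5, 0, 1, 2, 3, 6, 1] .leaf) 2008 [2, 3, 2, 3, 6, 1, 2, 3, 2, 3, 1, 2, 3, 6, 1] (.node .leaf 2009 [0, 1, 2, 3, 5, 4, 2, 3, 2, 3, 1, 2, 3, 6, 1] .leaf)))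

def lev1T0_265 : WTree := (.node (.node (.node .leaf 2011 [4, 3, 1, 2, 3, 5, 4, 3, 2, 3, 1, 2, 3, 6, 1] .leaf) 2012 [6, 3, 0, 1, 2, 3, 5, 3, 2, 3, 1, 2, 3, 6, 1] (.node .leaf 2013 [5, 2, 3, 1, 2, 3, 5, 3, 2, 3, 1, 2, 3, 6, 1] .leaf)) 2014 [0, 1, 2, 3, 5, 2, 3, 4, 2, 3, 1, 2, 3, 6, 1] (.node (.node .leaf 2015 [4, 1, 2, 3, 5, 2, 3, 4, 2, 3, 1, 2, 3, 6, 1] .leaf) 2016 [1, 2, 3, 1, 2, 3, 6, 4, 2, 3, 1, 2, 3, 6, 1] (.node .leaf 2017 [0, 1, 2, 3, 2, 3, 6, 4, 2, 3, 1, 2, 3, 6, 1] .leaf)))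

def lev1T0_266 : WTree := (.node (.node (.node .leaf 2019 [1, 2, 3, 4, 1, 2, 3, 6, 2, 3, 1, 2, 3, 6, 1] .leaf) 2020 [0, 1, 2, 3, 4, 2, 3, 6, 2, 3, 1, 2, 3, 6, 1] (.node .leaf 2021 [2, 3, 1, 2, 3, 2, 3, 6, 4, 3, 1, 2, 3, 6, 1] .leaf)) 2022 [4, 1, 2, 3, 6, 4, 3, 2, 3, 5, 1, 2, 3, 6, 1] (.node (.node .leaf 2023 [1, 2, 3, 5, 2, 3, 4, 2, 3, 5, 1, 2, 3, 6, 1] .leaf) 2024 [5, 1, 2, 3, 2, 3, 6, 3, 2, 3, 0, 1, 2, 3, 6] (.node .leaf 2025 [6, 4, 1, 2, 3, 5, 6, 3, 2, 3, 0, 1, 2, 3, 6] .leaf)))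

def lev1T0_267 : WTree := (.node (.node (.node .leaf 2027 [1, 2, 3, 6, 3, 1, 2, 3, 1, 2, 3, 1, 2, 3, 6] .leaf) 2028 [3, 1, 2, 3, 6, 1, 2, 3, 1, 2, 3, 1, 2, 3, 6] (.node .leaf 2029 [2, 3, 2, 3, 6, 1, 2, 3, 1, 2, 3, 1, 2, 3, 6] .leaf)) 2030 [3, 4, 1, 2, 3, 6, 2, 3, 1, 2, 3, 1, 2, 3, 6] (.node (.node .leaf 2031 [3, 5, 1, 2, 3, 6, 2, 3, 1, 2, 3, 1, 2, 3, 6] .leaf) 2032 [5, 3, 2, 3, 1, 2, 3, 4, 1, 2, 3, 1, 2, 3, 6] (.node .leaf 2033 [2, 3, 2, 3, 6, 0, 1, 2, 3, 2, 3, 1, 2, 3, 6] .leaf)))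

def lev1T0_268 : WTree := (.node (.node (.node .leaf 2035 [1, 2, 3, 2, 3, 6, 1, 2, 3, 2, 3, 1, 2, 3, 6] .leaf) 2036 [2, 3, 1, 2, 3, 5, 3, 2, 3, 2, 3, 1, 2, 3, 6] (.node .leaf 2037 [5, 2, 3, 1, 2, 3, 5, 1, 2, 3, 0, 1, 2, 3, 2, 1] .leaf)) 2038 [5, 4, 3, 1, 2, 3, 5, 1, 2, 3, 0, 1, 2, 3, 2, 1] (.node (.node .leaf 2039 [6, 5, 3, 1, 2, 3, 5, 1, 2, 3, 0, 1, 2, 3, 2, 1] .leaf) 2040 [3, 6, 3, 1, 2, 3, 5, 1, 2, 3, 0, 1, 2, 3, 2, 1] (.node .leaf 2041 [5, 6, 3, 1, 2, 3, 5, 1, 2, 3, 0, 1, 2, 3, 2, 1] .leaf)))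

def lev1T0_269 : WTree := (.node (.node (.node .leaf 2043 [5, 6, 2, 3, 4, 2, 3, 5, 2, 3, 0, 1, 2, 3, 2, 1] .leaf) 2044 [1, 2, 3, 6, 3, 5, 3, 6, 2, 3, 0, 1, 2, 3, 2, 1] (.node .leaf 2045 [2, 3, 5, 4, 3, 2, 3, 6, 4, 3, 0, 1, 2, 3, 2, 1] .leaf)) 2046 [5, 3, 6, 4, 3, 2, 3, 6, 4, 3, 0, 1, 2, 3, 2, 1] (.node (.node .leaf 2047 [1, 2, 3, 5, 4, 3, 2, 3, 5, 3, 0, 1, 2, 3, 2, 1] .leaf) 2048 [6, 1, 2, 3, 5, 4, 3, 2, 3, 5, 0, 1, 2, 3, 2, 1] (.node .leaf 2049 [2, 3, 2, 3, 1, 2, 3, 5, 3, 2, 3, 1, 2, 3, 2, 1] .leaf)))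

def lev1T0_270 : WTree := (.node (.node (.node .leaf 2051 [5, 0, 1, 2, 3, 2, 3, 6, 3, 2, 3, 1, 2, 3, 2, 1] .leaf) 2052 [5, 4, 1, 2, 3, 2, 3, 6, 3, 2, 3, 1, 2, 3, 2, 1] (.node .leaf 2053 [1, 2, 3, 4, 3, 1, 2, 3, 6, 2, 3, 1, 2, 3, 2, 1] .leaf)) 2054 [5, 0, 1, 2, 3, 4, 2, 3, 6, 2, 3, 1, 2, 3, 2, 1] (.node (.node .leaf 2055 [3, 5, 1, 2, 3, 4, 2, 3, 6, 2, 3, 1, 2, 3, 2, 1] .leaf) 2056 [6, 2, 3, 5, 4, 3, 2, 3, 6, 4, 3, 1, 2, 3, 2, 1] (.node .leaf 2057 [1, 2, 3, 4, 1, 2, 3, 6, 2, 3, 0, 1, 2, 3, 6, 1] .leaf)))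

def lev1T0_271 : WTree := (.node (.node (.node (.node lev1T0_255 1938 [5, 6, 2, 3, 2, 3, 6, 3, 2, 3, 1, 2, 3, 2, 1] lev1T0_256) 1946 [5, 2, 3, 4, 3, 2, 3, 5, 2, 3, 1, 2, 3, 2, 1] (.node lev1T0_257 1954 [2, 3, 4, 3, 1, 2, 3, 6, 2, 3, 1, 2, 3, 2, 1] lev1T0_258)) 1962 [5, 2, 3, 2, 3, 5, 3, 6, 2, 3, 1, 2, 3, 2, 1] (.node (.node lev1T0_259 1970 [6, 5, 3, 2, 3, 2, 3, 5, 4, 3, 1, 2, 3, 2, 1] lev1T0_260) 1978 [6, 1, 2, 3, 1, 2, 3, 6, 4, 3, 1, 2, 3, 2, 1] (.node lev1T0_261 1986 [1, 2, 3, 5, 4, 3, 2, 3, 5, 3, 1, 2, 3, 2, 1] lev1T0_262))) 1994 [6, 3, 2, 3, 5, 6, 3, 2, 3, 5, 1, 2, 3, 2, 1] (.node (.node (.node lev1T0_263 2002 [6, 4, 3, 1, 2, 3, 5, 2, 3, 0, 1, 2, 3, 6, 1] lev1T0_264) 2010 [4, 1, 2, 3, 5, 4, 2, 3, 2, 3,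 1, 2, 3, 6, 1] (.node lev1T0_265 2018 [4, 1, 2, 3, 2, 3, 6, 4, 2, 3, 1, 2, 3, 6, 1] lev1T0_266)) 2026 [3, 6, 1, 2, 3, 5, 6, 3, 2, 3, 0, 1, 2, 3, 6] (.node (.node lev1T0_267 2034 [1, 2, 3, 5, 4, 3, 1, 2, 3, 2, 3, 1, 2, 3, 6] lev1T0_268) 2042 [5, 6, 3, 4, 1, 2, 3, 5, 2, 3, 0, 1, 2, 3, 2, 1] (.node lev1T0_269 2050 [3, 5, 2, 3, 1, 2, 3, 5, 3, 2, 3, 1, 2, 3, 2, 1] lev1T0_270))))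

def lev1T0 : WTree := (.node (.node (.node (.node lev1T0_16 128 [3, 5, 3, 1, 2, 3, 2, 1] lev1T0_33) 257 [3, 5, 3, 4, 3, 2, 3, 6, 1] (.node lev1T0_50 386 [6, 3, 2, 3, 5, 1, 2, 3, 6, 1] lev1T0_67)) 514 [3, 2, 3, 5, 6, 3, 1, 2, 3, 2, 1] (.node (.node lev1T0_84 643 [3, 6, 4, 3, 2, 3, 0, 1, 2, 3, 6] lev1T0_101) 772 [6, 3, 2, 3, 5, 3, 0, 1, 2, 3, 2, 1] (.node lev1T0_118 901 [5, 3, 6, 3, 2, 3, 0, 1, 2, 3, 6, 1] lev1T0_135))) 1029 [4, 3, 2, 3, 6, 2, 3, 0, 1, 2, 3, 6] (.node (.node (.node lev1T0_152 1158 [3, 2, 3, 5, 6, 2, 3, 0, 1, 2, 3, 2, 1] lev1T0_169) 1287 [2, 3, 5, 4, 3, 2, 3, 5, 1, 2, 3, 2, 1] (.node lev1T0_186 1416 [3, 6, 3, 4, 3, 2, 3, 5, 1, 2, 3, 6, 1] lev1T0_203)) 1544 [3, 6, 2, 3, 5, 1, 2, 3, 0, 1, 2, 3,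 2, 1] (.node (.node lev1T0_220 1673 [3, 4, 2, 3, 2, 3, 5, 4, 3, 1, 2, 3, 2, 1] lev1T0_237) 1801 [3, 6, 4, 3, 2, 3, 6, 4, 3, 1, 2, 3, 6, 1] (.node lev1T0_254 1930 [3, 5, 2, 3, 2, 3, 5, 3, 2, 3, 1, 2, 3, 2, 1] lev1T0_271))))

def lev1T1_0 : WTree := (.node (.node (.node (.node .leaf 46 [4, 3, 2, 3, 1, 2, 3, 6, 3, 2, 1] .leaf) 56 [4, 1, 2, 3, 6, 3, 2, 0, 1] .leaf) 79 [3, 2, 3, 1, 2, 3, 6, 3, 2, 1] (.node .leaf 81 [5, 3, 2, 3, 1, 2, 3, 6, 3, 2, 1] .leaf)) 82 [5, 4, 3, 2, 3, 1, 2, 3, 6, 3, 2, 1] (.node (.node .leaf 84 [2, 3, 2, 3, 1, 2, 3, 6, 3, 2, 0, 1] .leaf) 99 [1, 2, 3, 6, 3, 2, 0, 1] (.node .leaf 100 [5, 1, 2, 3, 6, 3, 2, 0, 1] .leaf)))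

def lev1T1_1 : WTree := (.node (.node (.node (.node .leaf 103 [1, 2, 3, 6, 3, 1, 2, 1] .leaf) 135 [3, 2, 3, 1, 2, 3, 6, 3, 2, 0, 1] .leaf) 137 [2, 3, 1, 2, 3, 6, 3, 2, 1] (.node .leaf 140 [5, 3, 2, 3, 1, 2, 3, 6, 3, 2, 0, 1] .leaf)) 141 [3, 5, 4, 3, 2, 3, 1, 2, 3, 6, 3, 2, 1] (.node (.node .leaf 142 [5, 2, 3, 2, 3, 1, 2, 3, 6, 3, 2, 0, 1] .leaf) 167 [1, 2, 3, 6, 3, 2, 1] (.node .leaf 169 [3, 1, 2, 3, 6, 3, 2, 0, 1] .leaf)))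

def lev1T1_2 : WTree := (.node (.node (.node (.node .leaf 171 [3, 6, 5, 1, 2, 3, 6, 2, 0, 1] .leaf) 172 [6, 5, 1, 2, 3, 6, 2, 1] .leaf) 213 [2, 3, 1, 2, 3, 6, 3, 2, 0, 1] (.node .leaf 217 [3, 1, 2, 3, 6, 3, 2, 1] .leaf)) 218 [2, 3, 5, 4, 3, 2, 3, 1, 2, 3, 6, 3, 2, 1] (.node (.node .leaf 219 [3, 5, 2, 3, 2, 3, 1, 2, 3, 6, 3, 2, 0, 1] .leaf) 230 [2, 3, 5, 2, 3, 2, 3, 1, 2, 3, 6, 3, 2, 0, 1] (.node .leaf 258 [2, 3, 6, 5, 1, 2, 3, 6, 2, 0, 1] .leaf)))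

def lev1T1_3 : WTree := (.node (.node (.node .leaf 263 [2, 3, 6, 5, 1, 2, 3, 6, 2, 1] .leaf) 315 [4, 2, 3, 5] (.node .leaf 320 [3, 4, 2, 3, 5] .leaf)) 340 [1, 2, 3, 6, 3, 1, 2, 3, 4, 1, 2, 3, 5] (.node (.node .leaf 347 [3, 2, 3, 5, 3] .leaf) 389 [3, 2, 3, 6, 5, 1, 2, 3, 6, 2, 0, 1] (.node .leaf 465 [2, 3, 5, 3] .leaf)))

def lev1T1_4 : WTree := (.node (.node (.node (.node .leaf 504 [2, 3, 5] .leaf) 505 [2, 3, 5, 0] .leaf) 515 [2, 3, 4, 2, 3, 5] (.node .leaf 544 [1, 2, 3, 6, 3, 2, 3, 4, 1, 2, 3, 5] .leaf)) 545 [2, 3, 2, 3, 6, 5, 1, 2, 3, 6, 2, 0, 1] (.node (.node .leaf 548 [2, 3, 2, 3, 5, 3] .leaf) 574 [4, 3, 0] (.node .leaf 607 [6, 1, 2, 3, 5, 3, 6, 2, 0, 1] .leaf)))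

def lev1T1_5 : WTree := (.node (.node (.node .leaf 767 [3, 5, 3] .leaf) 794 [4, 3, 2, 3, 6, 4, 1, 2, 3, 5, 6, 2, 1] (.node .leaf 838 [3, 5] .leaf)) 839 [5, 3, 0] (.node (.node .leaf 840 [3, 5, 0] .leaf) 903 [6, 1, 2, 3, 5, 3, 6, 2, 1] (.node .leaf 913 [4, 3] .leaf)))

def lev1T1_6 : WTree := (.node (.node (.node (.node .leaf 917 [4, 3, 2] .leaf) 918 [3, 5, 4] .leaf) 934 [6, 4, 1, 2, 3, 5, 6, 2, 0, 1] (.node .leaf 949 [3] .leaf)) 956 [3, 4, 1, 2, 3, 6, 3, 5, 2, 1] (.node (.node .leaf 962 [5, 1, 2, 3, 6, 3, 5, 2, 0, 1, 0] .leaf) 963 [3, 6, 1, 2, 3, 5, 3, 6, 2, 0, 1] (.node .leaf 964 [3, 6, 1, 2, 3, 5, 6, 2, 1, 0] .leaf)))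

def lev1T1_7 : WTree := (.node (.node (.node .leaf 1072 [] .leaf) 1075 [0] (.node .leaf 1077 [5, 0] .leaf)) 1078 [3, 2] (.node (.node .leaf 1079 [5, 2] .leaf) 1105 [3, 4] (.node .leaf 1110 [1, 2, 3, 6, 3, 2, 3, 4, 1] .leaf)))

def lev1T1_8 : WTree := (.node (.node (.node (.node .leaf 1166 [5, 3] .leaf) 1182 [3, 2, 3, 1, 2, 3, 6, 3, 5, 2, 1, 0] .leaf) 1194 [4, 3, 2, 3, 1, 2, 3, 6, 3, 5, 2, 1, 0] (.node .leaf 1199 [3, 2, 3, 6, 4, 1, 2, 3, 5, 6, 2, 1] .leaf)) 1255 [5] (.node (.node .leaf 1312 [6, 5, 1, 2, 3, 6, 5, 2, 1, 0] .leaf) 1323 [6, 4, 1, 2, 3, 5, 6, 2, 1] (.node .leaf 1336 [5, 1, 2, 3, 6, 3, 5, 2, 1, 0] .leaf)))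

def lev1T1_9 : WTree := (.node (.node (.node .leaf 1338 [5, 6, 1, 2, 3, 5, 6, 2, 1] .leaf) 1349 [5, 3, 2] (.node .leaf 1350 [3, 5, 2] .leaf)) 1352 [4, 2, 3, 2] (.node (.node .leaf 1353 [5, 4] .leaf) 1365 [1, 2, 3, 6, 3, 5, 2, 0, 1, 0] (.node .leaf 1366 [3, 6, 4, 1, 2, 3, 5, 6, 2, 0, 1] .leaf)))

def lev1T1_10 : WTree := (.node (.node (.node (.node .leaf 1373 [4, 1, 2, 3, 6, 3, 5, 2, 0, 1] .leaf) 1381 [6, 0, 1, 2, 3, 5, 6, 2, 0, 1] .leaf) 1383 [4, 1, 2, 3, 6, 3, 5, 2, 1] (.node .leaf 1392 [4, 3, 1, 2, 3, 6, 3, 5, 2, 1] .leaf)) 1393 [1, 2, 3, 6, 3, 5, 2, 3, 4, 1] (.node (.node .leaf 1394 [3, 0, 1, 2, 3, 6, 3, 5, 2, 1] .leaf) 1396 [6, 1, 2, 3, 5, 6, 2, 1, 0] (.node .leaf 1441 [1, 2, 3, 6, 3, 2, 3, 4, 0, 1] .leaf)))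

def lev1T1_11 : WTree := (.node (.node (.node .leaf 1488 [3, 1, 2, 3, 6, 3, 5, 2, 1] .leaf) 1504 [2, 3, 2] (.node .leaf 1526 [0, 1, 2, 3, 6, 3, 2, 3, 4, 1] .leaf)) 1527 [4, 1, 2, 3, 6, 3, 2, 3, 4, 1] (.node (.node .leaf 1540 [3, 2, 3, 1, 2, 3, 6, 3, 5, 2, 0, 1, 0] .leaf) 1546 [4, 3, 2, 3, 1, 2, 3, 6, 3, 5, 2, 0, 1, 0] (.node .leaf 1550 [3, 2, 3, 6, 4, 1, 2, 3, 5, 6, 2, 0, 1] .leaf)))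

def lev1T1_12 : WTree := (.node (.node (.node (.node .leaf 1624 [2, 3, 6, 4, 1, 2, 3, 5, 6, 2, 1] .leaf) 1694 [5, 2, 3, 1, 2, 3, 6, 3, 5, 2, 1, 0] .leaf) 1732 [6, 0, 1, 2, 3, 5, 6, 2, 1] (.node .leaf 1737 [1, 2, 3, 6, 3, 5, 2, 1, 0] .leaf)) 1738 [3, 6, 4, 1, 2, 3, 5, 6, 2, 1] (.node (.node .leaf 1739 [6, 1, 2, 3, 5, 6, 2, 1] .leaf) 1744 [3, 5, 1, 2, 3, 6, 3, 5, 2, 1, 0] (.node .leaf 1745 [6, 5, 1, 2, 3, 6, 2, 3, 1, 2] .leaf)))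

def lev1T1_13 : WTree := (.node (.node (.node .leaf 1748 [6, 1, 2, 3, 5, 6, 2, 0, 1, 0] .leaf) 1756 [5, 2, 3, 2] (.node .leaf 1757 [3, 4, 2, 3, 2] .leaf)) 1769 [3, 1, 2, 3, 6, 3, 5, 2, 0, 1, 0] (.node (.node .leaf 1770 [2, 3, 6, 4, 1, 2, 3, 5, 6, 2, 0, 1] .leaf) 1771 [3, 1, 2, 3, 6, 3, 5, 2, 3, 4, 1] (.node .leaf 1775 [1, 2, 3, 6, 3, 5, 2, 0, 1] .leaf)))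

def lev1T1_14 : WTree := (.node (.node (.node (.node .leaf 1780 [0, 1, 2, 3, 6, 3, 5, 2, 1] .leaf) 1781 [1, 2, 3, 6, 3, 5, 2, 1] .leaf) 1799 [3, 4, 1, 2, 3, 6, 3, 2, 3, 4, 1] (.node .leaf 1816 [3, 1, 2, 3, 6, 3, 5, 2, 0, 1] .leaf)) 1817 [4, 1, 2, 3, 6, 3, 2, 3, 1, 2] (.node (.node .leaf 1818 [0, 1, 2, 3, 6, 3, 2, 3, 1, 2] .leaf) 1875 [2, 3, 1, 2, 3, 6, 3, 5, 2, 0, 1, 0] (.node .leaf 1912 [2, 3, 4, 1, 2, 3, 6, 3, 2, 3, 4, 1] .leaf)))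

def lev1T1_15 : WTree := (.node (.node (.node .leaf 1944 [2, 3, 1, 2, 3, 6, 3, 2, 3, 1, 2] .leaf) 1978 [5, 3, 1, 2, 3, 6, 3, 5, 2, 1, 0] (.node .leaf 1984 [3, 5, 2, 3, 2] .leaf)) 2001 [3, 1, 2, 3, 6, 3, 2, 3, 1, 2] (.node (.node .leaf 2008 [2, 3, 4, 2, 3, 2] .leaf) 2013 [2, 3, 1, 2, 3, 6, 3, 5, 2, 3, 4, 1] (.node .leaf 2056 [2, 3, 5, 2, 3, 2] .leaf)))

def lev1T1 : WTree := (.node (.node (.node (.node lev1T1_0 101 [6, 5, 1, 2, 3, 6, 2, 0, 1] lev1T1_1) 170 [5, 1, 2, 3, 6, 3, 2, 1] (.node lev1T1_2 259 [3, 6, 5, 1, 2, 3, 6, 2, 1] lev1T1_3)) 503 [4, 3, 5] (.node (.node lev1T1_4 691 [2] lev1T1_5) 916 [3, 0] (.node lev1T1_6 1068 [4] lev1T1_7))) 1137 [2, 3, 2, 3, 1, 2, 3, 6, 3, 5, 2, 0, 1, 0] (.node (.node (.node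 lev1T1_8 1337 [3, 6, 1, 2, 3, 5, 3, 6, 2, 1] lev1T1_9) 1367 [6, 1, 2, 3, 5, 6, 2, 0, 1] (.node lev1T1_10 1484 [2, 3, 4] lev1T1_11)) 1601 [2, 3, 1, 2, 3, 6, 3, 5, 2, 1, 0] (.node (.node lev1T1_12 1746 [1, 2, 3, 6, 3, 2, 3, 1, 2] lev1T1_13) 1779 [0, 1, 2, 3, 6, 3, 5, 2, 0, 1] (.node lev1T1_14 1926 [3, 1, 2, 3, 6, 3, 5, 2, 1, 0] lev1T1_15))))

def lev1T2_0 : WTree := (.node (.node (.node .leaf 12 [1, 2, 5, 3, 6, 3, 2, 3, 2, 1, 3, 2, 6, 3, 2, 3, 6, 2, 3, 1, 2, 3, 2, 3, 6, 3, 1, 2, 1, 0] .leaf) 13 [1, 3, 2, 5, 3, 2, 1, 3, 2, 1, 3, 2, 1, 4, 3, 6, 2, 3, 5, 1, 2, 3, 1, 2, 3, 2] (.node .leaf 17 [3, 4, 3, 2, 6, 3, 2, 1, 5, 3, 2, 1, 0, 3, 6, 4, 3, 5, 2, 3, 6, 1, 2, 3, 5, 2] .leaf)) 47 [1, 2, 1, 5, 3, 6, 3, 2, 1, 0, 3,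 2, 3, 5, 3, 2, 3, 1, 2, 3, 6, 3, 5, 1, 2, 1] (.node (.node .leaf 58 [3, 2, 3, 5, 3, 2, 1, 3, 2, 6, 3, 5, 4, 3, 6, 2, 3, 1, 2, 3, 5, 3, 2, 3] .leaf) 59 [0, 1, 2, 1, 3, 6, 3, 2, 3, 1, 2, 3, 1, 2, 3, 6, 3, 4, 2, 1] .leaf))

def lev1T2_1 : WTree := (.node (.node (.node .leaf 138 [1, 2, 4, 3, 6, 3, 2, 3, 1, 2, 3, 1, 2, 3, 6, 3, 4, 2, 1] .leaf) 166 [0, 2, 1, 3, 2, 4, 6, 3, 4, 5, 3, 6, 2, 3, 5, 1, 2, 3, 2, 3, 5, 3, 4] .leaf) 168 [0, 2, 1, 6, 3, 2, 3, 4, 5, 3, 2, 1, 6, 3, 5, 2, 3, 2, 3, 1, 2, 3, 2, 3, 5, 1] (.node (.node .leaf 197 [0, 2, 4, 3, 2, 1, 3, 4, 2, 3, 6, 3, 2, 3, 1, 2, 3, 4, 2] .leaf) 226 [1, 2, 5, 3, 2, 6, 3, 2, 5, 3, 2, 1, 3, 2, 3, 6, 2, 3, 1, 2, 3, 5, 3, 2, 3, 2, 1, 0] .leaf))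

def lev1T2_2 : WTree := (.node (.node (.node .leaf 332 [3, 2, 1, 0, 4, 3, 2, 1, 5, 3, 4, 6, 3, 2, 1, 3, 2, 3, 1, 2, 3, 0, 1, 2, 3, 5, 2, 1, 0] .leaf) 336 [1, 4, 6, 3, 2, 3, 4, 5, 3, 2, 1, 6, 3, 5, 2, 3, 2, 3, 1, 2, 3, 2, 3, 5, 1] (.node .leaf 373 [1, 0, 4, 3, 2, 1, 3, 6, 3, 2, 1, 0, 3, 2, 1, 3, 2, 3, 6, 3, 2, 3, 5, 4, 3, 1, 2, 3] .leaf)) 426 [3, 2, 3, 2, 1, 5, 3, 2, 1, 3, 2, 1, 3, 2, 4, 3, 1, 2, 3, 6, 1, 2, 3, 5, 4, 2, 1, 0] (.node (.node .leaf 473 [1, 2, 4, 3, 6, 3, 2, 1, 3, 2, 1, 3, 2, 3, 6, 3, 2, 3, 1, 2, 3, 5, 2, 3, 4, 2, 3] .leaf) 479 [0, 2, 4, 5, 3, 2, 1, 4, 3, 2, 3, 2, 1, 6, 3, 2, 3, 4, 1, 2, 3, 1, 2, 3, 2, 1] .leaf))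

def lev1T2_3 : WTree := (.node (.node (.node .leaf 511 [2, 5, 3, 2, 1, 0, 6, 3, 2, 1, 5, 3, 4, 6, 3, 2, 3, 5, 1, 2, 3, 6, 2, 3, 4, 3] .leaf) 519 [0, 2, 1, 3, 2, 3, 6, 3, 2, 1, 3, 2, 1, 5, 3, 2, 3, 6, 3, 1, 2, 3, 0, 1, 2, 3, 4] .leaf) 559 [3, 2, 1, 5, 3, 2, 1, 3, 6, 3, 2, 3, 5, 3, 4, 3, 1, 2, 3, 5, 2, 3] (.node (.node .leaf 622 [0, 2, 3, 2, 1, 4, 3, 2, 3, 6, 3, 2, 1, 3, 2, 3, 6, 4, 1, 2, 3, 5, 6, 1, 2, 1] .leaf) 623 [1, 3, 2, 6, 5, 3, 2, 1, 6, 3, 2, 1, 0, 3, 2, 3, 6, 3, 2, 3, 1, 2, 3, 5, 4, 3, 2, 3] .leaf))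

def lev1T2_4 : WTree := (.node (.node (.node .leaf 661 [2, 4, 3, 2, 3, 5, 3, 2, 1, 3, 2, 1, 3, 2, 1, 3, 4, 2, 3, 1, 2, 3, 6, 1, 2, 3, 5, 2, 1] .leaf) 674 [1, 4, 3, 2, 3, 6, 3, 2, 1, 3, 2, 1, 5, 3, 2, 3, 6, 3, 1, 2, 3, 0, 1, 2, 3, 4] (.node .leaf 695 [5, 3, 2, 1, 3, 2, 1, 3, 6, 3, 2, 1, 3, 2, 1, 3, 5, 3, 4, 3, 2, 3, 6, 3, 1, 2, 3, 1] .leaf)) 701 [2, 4, 3, 2, 5, 3, 2, 1, 3, 4, 2, 3, 6, 3, 2, 3, 1, 2, 3, 5, 2, 3] (.node (.node .leaf 721 [0, 6, 3, 2, 1, 5, 3, 2, 3, 2, 5, 3, 2, 1, 6, 3, 2, 3, 6, 2, 3, 1, 2, 3, 1, 2, 3, 6, 1] .leaf) 726 [1, 2, 4, 3, 2, 1, 6, 3, 2, 4, 3, 2, 1, 3, 2, 3, 2, 3, 5, 1, 2, 3, 2, 3, 4, 2, 3] .leaf))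

def lev1T2_5 : WTree := (.node (.node (.node .leaf 788 [1, 0, 4, 3, 2, 3, 6, 3, 2, 1, 3, 2, 3, 2, 3, 6, 1, 2, 3, 5, 6, 2, 3, 1, 0] .leaf) 811 [3, 4, 3, 2, 3, 2, 5, 3, 2, 1, 0, 4, 3, 6, 2, 3, 5, 4, 3, 6, 2, 3, 1, 2] .leaf) 851 [6, 3, 5, 6, 3, 2, 1, 3, 2, 3, 4, 6, 3, 5, 2, 3, 6, 3, 5, 3, 1, 2, 3, 2] (.node (.node .leaf 855 [0, 2, 3, 4, 3, 2, 3, 2, 5, 3, 2, 3, 1, 2, 3, 6, 3, 2, 3, 1, 2, 3, 4, 2] .leaf) 869 [2, 5, 3, 2, 1, 0, 3, 2, 1, 6, 3, 5, 6, 2, 3, 2, 3, 6, 3, 1, 2, 3, 1, 2] .leaf))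

def lev1T2_6 : WTree := (.node (.node (.node .leaf 1000 [5, 3, 2, 1, 4, 3, 2, 3, 2, 1, 6, 3, 2, 3, 4, 1, 2, 3, 1, 2, 3, 2, 1] .leaf) 1002 [0, 2, 4, 3, 2, 1, 3, 2, 4, 3, 6, 3, 2, 3, 1, 2, 3, 1, 2, 3, 6, 3, 1, 2, 1, 0] .leaf) 1014 [1, 0, 2, 6, 3, 2, 1, 5, 3, 2, 3, 2, 6, 3, 2, 1, 3, 2, 3, 6, 4, 2, 3, 1, 2, 3, 5, 2, 3] (.node (.node .leaf 1020 [3, 2, 1, 3, 4, 6, 3, 2, 1, 0, 3, 6, 5, 3, 2, 3, 1, 2, 3, 6, 5, 3, 2, 3, 6, 3, 1] .leaf) 1037 [3, 2, 4, 3, 2, 5, 3, 2, 3, 1, 2, 3, 6, 3, 2, 3, 1, 2, 3, 0] .leaf))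

def lev1T2_7 : WTree := (.node (.node (.node .leaf 1117 [1, 2, 4, 3, 6, 3, 2, 3, 4, 1, 2, 3, 5, 3, 4, 3, 2, 3] .leaf) 1128 [3, 4, 2, 3, 5, 4, 3, 2, 3, 4, 3, 2] .leaf) 1169 [2, 4, 3, 2, 3, 1, 2, 3, 6, 3, 4, 2, 3, 1, 2, 3] (.node (.node .leaf 1181 [0, 1, 2, 3, 2, 3, 5, 3, 2, 1, 3, 2, 6, 3, 2, 3, 1, 2, 3, 5, 2, 3, 6, 2, 3, 5, 2, 1] .leaf) 1195 [0, 2, 4, 3, 2, 5, 3, 2, 1, 3, 2, 3, 6, 3, 4, 2, 3, 1, 2, 3, 5, 2, 3, 4, 2] .leaf))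

def lev1T2_8 : WTree := (.node (.node (.node .leaf 1230 [0, 2, 3, 2, 1, 4, 6, 3, 2, 5, 3, 4, 6, 3, 2, 3, 4, 1, 2, 3, 6, 3, 5, 3, 6] .leaf) 1243 [1, 3, 5, 3, 2, 1, 3, 2, 3, 5, 3, 2, 1, 3, 2, 1, 6, 3, 5, 2, 3, 4, 1, 2, 3, 6, 2, 0, 1, 0] (.node .leaf 1247 [3, 2, 3, 2, 1, 5, 3, 2, 1, 3, 2, 1, 3, 2, 4, 3, 1, 2, 3, 6, 1, 2, 3, 5, 1, 2, 1] .leaf)) 1358 [0, 3, 2, 5, 3, 2, 1, 3, 4, 2, 3, 6, 3, 2, 3, 1, 2, 3, 5, 2, 3] (.node (.node .leaf 1563 [3, 4, 3, 2, 1, 6, 3, 2, 5, 3, 4, 6, 3, 2, 3, 4, 1, 2, 3, 6, 3, 5, 3, 6] .leaf) 1570 [1, 2, 1, 6, 5, 3, 2, 1, 4, 6, 3, 2, 5, 3, 2, 3, 1, 2, 3, 6, 3, 2, 3, 4, 0, 1] .leaf))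

def lev1T2_9 : WTree := (.node (.node (.node .leaf 1586 [3, 2, 4, 3, 2, 5, 3, 2, 3, 1, 2, 3, 6, 3, 2, 3, 1, 2, 3, 4, 2] .leaf) 1592 [0, 1, 2, 3, 2, 6, 3, 2, 3, 2, 6, 3, 2, 1, 3, 2, 3, 2, 3, 6, 1, 2, 3, 5, 6, 2, 3, 1, 0] .leaf) 1597 [1, 3, 2, 1, 6, 5, 3, 2, 1, 6, 3, 2, 1, 4, 3, 2, 3, 6, 3, 2, 3, 5, 1, 2, 3, 4, 3, 2, 3] (.node (.node .leaf 1602 [1, 2, 1, 0, 6, 3, 2, 1, 5, 6, 3, 2, 5, 3, 2, 4, 3, 1, 2, 3, 6, 3, 1, 2, 3, 1, 2, 3] .leaf) 1608 [0, 3, 2, 3, 1, 2, 3, 6, 3, 4, 2, 3, 1, 2, 3] .leaf))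

def lev1T2_10 : WTree := (.node (.node (.node .leaf 1647 [1, 3, 2, 1, 6, 5, 3, 2, 1, 6, 3, 2, 1, 3, 4, 5, 3, 2, 3, 6, 3, 1, 2, 3, 4, 1, 2, 3, 0] .leaf) 1649 [0, 2, 1, 0, 3, 2, 3, 6, 3, 2, 1, 3, 2, 3, 2, 3, 6, 1, 2, 3, 5, 6, 2, 3, 1, 0] .leaf) 1663 [1, 5, 3, 2, 3, 2, 1, 3, 2, 3, 2, 1, 5, 3, 6, 2, 3, 5, 4, 3, 2, 3, 6, 4, 1] (.node (.node .leaf 1667 [0, 2, 1, 0, 3, 2, 3, 6, 3, 2, 1, 0, 3, 2, 3, 5, 2, 3, 1, 2, 3, 6, 3, 5, 1, 2, 1, 0] .leaf) 1703 [1, 3, 2, 5, 3, 2, 1, 0, 3, 2, 4, 3, 2, 1, 5, 3, 2, 3, 6, 3, 2, 3, 1, 2, 3, 5, 4, 3, 6] .leaf))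

def lev1T2_11 : WTree := (.node (.node (.node .leaf 1712 [1, 0, 3, 2, 1, 5, 3, 6, 3, 2, 1, 3, 2, 1, 4, 3, 2, 3, 6, 3, 4, 2, 3, 1, 2, 3, 4] .leaf) 1717 [2, 3, 2, 1, 3, 2, 1, 4, 6, 3, 5, 6, 3, 2, 1, 3, 4, 2, 3, 1, 2, 3, 1, 2, 3, 5, 2, 1, 0] .leaf) 1776 [1, 2, 6, 3, 5, 3, 2, 1, 3, 2, 3, 2, 6, 3, 2, 1, 3, 5, 2, 3, 6, 2, 3, 1, 2, 3, 5, 2, 0] (.node (.node .leaf 1791 [3, 2, 5, 3, 2, 1, 3, 2, 3, 6, 3, 5, 2, 3, 4, 1, 2, 3, 5, 3, 2, 3] .leaf) 1823 [4, 1, 2, 3, 6, 3, 2, 1, 0] .leaf))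

def lev1T2_12 : WTree := (.node (.node (.node .leaf 1847 [0, 1, 3, 2, 6, 5, 3, 2, 1, 6, 3, 2, 3, 2, 3, 1, 2, 3, 6, 3, 2, 3, 4, 0, 1] .leaf) 1852 [1, 3, 2, 1, 6, 3, 2, 1, 3, 2, 3, 2, 6, 5, 3, 4, 2, 3, 1, 2, 3, 6, 2, 3, 1, 2, 3, 5] (.node .leaf 1853 [0, 3, 2, 1, 3, 2, 3, 6, 3, 2, 1, 3, 2, 3, 2, 5, 3, 2, 3, 4, 3, 1, 2, 3, 6, 3, 2, 1, 0] .leaf)) 1861 [1, 2, 3, 4, 5, 3, 2, 1, 3, 2, 3, 2, 1, 5, 3, 2, 3, 5, 4, 3, 1, 2, 3, 0, 1, 2, 3] (.node (.node .leaf 1872 [3, 4, 3, 2, 1, 3, 2, 3, 6, 3, 2, 3, 1, 2, 3, 6, 0, 1, 2, 3, 5, 6, 2, 1] .leaf) 1877 [0, 3, 2, 1, 4, 5, 3, 2, 3, 6, 3, 2, 1, 3, 2, 5, 3, 1, 2, 3, 6, 3, 1, 2, 3, 4, 0, 1] .leaf))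

def lev1T2_13 : WTree := (.node (.node (.node .leaf 1886 [2, 1, 3, 2, 3, 4, 5, 3, 2, 1, 3, 2, 3, 2, 1, 5, 3, 2, 3, 5, 4, 3, 1, 2, 3, 0, 1, 2] .leaf) 1898 [0, 1, 0, 4, 3, 2, 1, 3, 4, 5, 3, 2, 1, 3, 2, 5, 3, 2, 3, 1, 2, 3, 5, 4, 3, 2, 3, 1, 2] .leaf) 1924 [1, 4, 3, 5, 3, 2, 1, 3, 4, 5, 3, 2, 1, 3, 2, 5, 3, 2, 3, 1, 2, 3, 5, 3, 4, 3, 2, 1] (.node (.node .leaf 1933 [2, 1, 0, 3, 2, 1, 3, 4, 5, 3, 2, 1, 3, 2, 5, 3, 2, 3, 1, 2, 3, 5, 4, 3, 2, 3, 1, 2] .leaf) 1936 [1, 2, 3, 4, 5, 3, 2, 1, 4, 3, 2, 3, 2, 1, 0, 5, 3, 2, 3, 5, 4, 3, 1, 2, 3, 1, 2, 3, 0] .leaf))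

def lev1T2_14 : WTree := (.node (.node (.node .leaf 1942 [2, 1, 5, 3, 2, 1, 3, 4, 3, 5, 3, 2, 1, 3, 2, 5, 3, 2, 3, 4, 1, 2, 3, 5, 4, 3, 2, 1, 0] .leaf) 1957 [3, 2, 1, 3, 2, 1, 0, 3, 6, 3, 2, 1, 3, 2, 1, 3, 6, 4, 2, 3, 5, 6, 1, 2, 3, 5, 1, 2] .leaf) 1982 [0, 3, 2, 1, 3, 2, 1, 6, 3, 2, 1, 3, 5, 4, 3, 6, 2, 3, 5, 4, 3, 6, 5, 2] (.node (.node .leaf 1986 [] .leaf) 1987 [1, 0, 2, 6, 5, 3, 2, 1, 6, 3, 2, 1, 3, 2, 6, 3, 2, 3, 5, 4, 3, 1, 2, 3, 6, 5, 3, 6] .leaf))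

def lev1T2_15 : WTree := (.node (.node (.node .leaf 2000 [3, 4, 2, 3, 5, 3, 4, 3, 2, 3, 0] .leaf) 2002 [2, 3, 2, 4, 3, 2, 1, 5, 3, 2, 3, 6, 1, 2, 3, 2, 3, 6, 2, 3, 5, 2, 1, 0] .leaf) 2003 [0, 3, 6, 5, 3, 2, 3, 2, 1, 6, 3, 5, 2, 3, 1, 2, 3, 5, 3, 2, 3, 2, 1] (.node (.node .leaf 2042 [3, 2, 1, 0, 3, 2, 1, 3, 4, 5, 3, 2, 1, 3, 5, 2, 3, 2, 3, 1, 2, 3, 5, 4, 3, 2, 1] .leaf) 2053 [6, 3, 5, 6, 3, 2, 1, 3, 4, 5, 3, 2, 3, 2, 1, 6, 3, 2, 3, 6, 1, 2, 3, 5, 6, 2, 0, 1] .leaf))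

def lev1T2 : WTree := (.node (.node (.node (.node lev1T2_0 121 [3, 2, 1, 3, 4, 2, 3, 6, 3, 2, 3, 1, 2, 3, 4, 2] lev1T2_1) 295 [2, 3, 2, 3, 4, 5, 3, 2, 1, 3, 2, 3, 6, 2, 3, 2, 3, 6, 2, 3, 1, 2, 1, 0] (.node lev1T2_2 492 [1, 2, 3, 2, 3, 5, 3, 2, 3, 4, 2, 3, 1, 2, 3, 5, 4, 3, 6, 2, 3, 2] lev1T2_3)) 632 [1, 3, 6, 3, 2, 3, 5, 6, 3, 2, 1, 0, 3, 2, 3, 5, 6, 3, 1, 2, 3, 6, 4, 3, 1, 2, 3] (.node (.node lev1T2_4 760 [0, 4, 5, 3, 2, 1, 0, 6, 3, 2, 1, 5, 3, 4, 6, 3, 2, 3, 5, 1, 2, 3, 6, 2, 3, 4, 3] lev1T2_5) 936 [0, 3, 5, 3, 2, 3, 2, 1, 4, 5, 3, 2, 3, 6, 3, 1, 2, 3, 1, 2, 3, 5, 2, 3] (.node lev1T2_6 1100 [1, 6, 5, 3, 2, 3, 2, 1, 0, 3, 2, 5, 3, 2, 6, 4, 3, 5, 1, 2, 3, 2, 3, 5, 3, 2, 1, 0] lev1T2_7))) 1210 [1, 0, 4, 3,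 2, 3, 6, 3, 2, 1, 0, 3, 2, 3, 5, 2, 3, 1, 2, 3, 6, 3, 5, 1, 2, 1, 0] (.node (.node (.node lev1T2_8 1575 [2, 1, 3, 2, 1, 3, 2, 6, 3, 2, 3, 6, 2, 3, 1, 2, 3, 1, 2, 3, 5, 2] lev1T2_9) 1618 [0, 1, 5, 3, 2, 1, 3, 2, 6, 3, 2, 3, 6, 2, 3, 2, 3, 1, 2, 3, 5] (.node lev1T2_10 1706 [1, 5, 3, 2, 1, 3, 2, 1, 3, 2, 1, 3, 2, 6, 3, 5, 1, 2, 3, 6, 4, 3, 2, 3, 6, 1] lev1T2_11)) 1837 [4, 2, 0] (.node (.node lev1T2_12 1885 [0, 2, 3, 2, 1, 4, 3, 2, 3, 6, 3, 2, 3, 1, 2, 3, 6, 0, 1, 2, 3, 5, 6, 2, 1] lev1T2_13) 1940 [1, 2, 1, 4, 3, 2, 3, 5, 3, 2, 1, 3, 2, 6, 3, 2, 3, 1, 2, 3, 5, 2, 3, 6, 2, 3, 5, 2, 1] (.node lev1T2_14 1997 [0, 1, 3, 2, 3, 4, 5, 3, 2, 1, 0, 3, 5, 2, 3, 2, 3, 1, 2, 3, 5, 4, 3, 2, 1, 0] lev1T2_15))))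

def lev1T3_0 : WTree := (.node (.node .leaf 91 [3, 6, 3, 5, 3, 2, 1, 3, 6, 2, 3, 1, 2, 3, 5, 3, 2, 3, 2, 0, 1, 0] .leaf) 232 [2, 1, 4, 5, 3, 2, 1, 3, 2, 6, 3, 2, 3, 6, 2, 3, 1, 2, 3, 5, 4, 1, 2] .leaf)

def lev1T3_1 : WTree := (.node .leaf 388 [0, 3, 4, 5, 3, 2, 1, 3, 2, 1, 0, 3, 6, 3, 2, 3, 6, 2, 3, 5, 6, 1, 2, 3, 5, 1] .leaf)

def lev1T3_2 : WTree := (.node (.node .leaf 447 [1, 4, 5, 3, 2, 3, 6, 3, 2, 1, 3, 2, 3, 2, 1, 5, 3, 4, 2, 3, 6, 3, 1, 2, 3, 5, 4, 1] .leaf) 495 [1, 5, 3, 2, 3, 2, 1, 3, 2, 4, 3, 2, 3, 6, 1, 2, 3, 2, 3, 1, 2, 3, 2, 0] .leaf)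

def lev1T3_3 : WTree := (.node .leaf 570 [1, 3, 5, 3, 2, 1, 4, 3, 2, 6, 3, 2, 3, 6, 2, 3, 1, 2, 3, 1, 2, 3, 5, 4, 3, 0] .leaf)

def lev1T3_4 : WTree := (.node (.node .leaf 588 [0, 5, 3, 2, 1, 0, 3, 2, 6, 3, 5, 4, 3, 6, 4, 2, 3, 1, 2, 3, 5] .leaf) 602 [0, 5, 3, 2, 1, 0, 4, 3, 2, 1, 3, 6, 3, 2, 3, 5, 3, 1, 2, 3, 4, 2, 3, 5] .leaf)

def lev1T3_5 : WTree := (.node .leaf 633 [2, 3, 2, 3, 5, 3, 2, 3, 2, 3, 5, 3, 2, 3, 4] .leaf)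

def lev1T3_6 : WTree := (.node .leaf 895 [2, 1, 3, 2, 5, 3, 2, 1, 6, 3, 2, 4, 3, 2, 3, 6, 1, 2, 3, 2, 3, 1, 2, 0] .leaf)

def lev1T3_7 : WTree := (.node .leaf 989 [0, 1, 0, 6, 3, 2, 5, 3, 4, 6, 3, 2, 3, 1, 2, 3, 5, 4, 3, 6, 4, 2] .leaf)

def lev1T3_8 : WTree := (.node (.node .leaf 1013 [0, 1, 2, 1, 3, 2, 6, 3, 2, 1, 3, 6, 2, 3, 1, 2, 3, 6, 2, 3, 1, 2, 1, 0] .leaf) 1061 [1, 5, 3, 2, 1, 6, 3, 4, 5, 3, 6, 2, 3, 5, 4, 3, 1, 2, 3, 5, 3] .leaf)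

def lev1T3_9 : WTree := (.node .leaf 1108 [3, 5, 3, 2, 4, 3, 1, 2, 3, 6, 3, 1, 2, 3, 5, 0, 1] .leaf)

def lev1T3_10 : WTree := (.node .leaf 1221 [5, 2, 3, 2, 3, 5, 4, 3, 2, 3, 0] .leaf)

def lev1T3_11 : WTree := (.node .leaf 1428 [0, 2, 3, 2, 1, 5, 3, 2, 3, 2, 1, 3, 2, 4, 3, 2, 3, 6, 1, 2, 3, 2, 3, 4, 1, 2] .leaf)

def lev1T3_12 : WTree := (.node (.node .leaf 1532 [] .leaf) 1606 [0, 5, 3, 2, 1, 0, 4, 3, 2, 3, 6, 3, 2, 3, 5, 1, 2, 3, 2, 3, 5, 4, 3] .leaf)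

def lev1T3_13 : WTree := (.node .leaf 1869 [5, 3, 2, 1, 3, 2, 1, 0, 5, 6, 3, 5, 4, 3, 6, 2, 3, 5, 4, 1, 2, 3, 2, 3] .leaf)

def lev1T3_14 : WTree := (.node .leaf 1887 [1, 3, 5, 3, 2, 6, 3, 5, 4, 3, 6, 2, 3, 1, 2, 3, 5, 4, 3] .leaf)

def lev1T3_15 : WTree := (.node .leaf 2039 [6, 3, 2, 1, 0, 5, 3, 2, 1, 3, 2, 3, 5, 2, 3, 6, 2, 3, 1, 2, 3, 4, 1, 0] .leaf)

def lev1T3 : WTree := (.node (.node (.node (.node lev1T3_0 352 [2, 1, 0, 1, 3, 2, 3, 5, 3, 2, 3, 1, 2, 3, 6, 3, 2, 3, 1, 0] lev1T3_1) 443 [3, 2, 3, 5, 4, 3, 2, 3, 5, 2, 0] (.node lev1T3_2 569 [3, 4, 5, 3, 2, 1, 3, 6, 2, 3, 5, 4, 3, 6, 2, 3, 5, 3, 1] lev1T3_3)) 580 [0, 2, 4, 3, 5, 3, 2, 3, 2, 1, 0, 5, 3, 2, 3, 6, 3, 1, 2, 3, 4, 1, 2, 3, 5, 0] (.node (.node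 lev1T3_4 631 [0, 5, 3, 2, 1, 0, 4, 3, 2, 1, 3, 6, 3, 4, 2, 3, 5, 1, 2, 3, 2, 3, 5, 3, 4, 2] lev1T3_5) 763 [0, 1, 0, 3, 2, 3, 6, 3, 2, 3, 4, 1, 2, 3, 5, 3, 4, 2, 3, 2] (.node lev1T3_6 966 [0, 1, 5, 6, 3, 5, 6, 3, 2, 1, 3, 5, 3, 4, 3, 2, 3, 6, 5, 3, 6, 5, 1] lev1T3_7))) 999 [1, 2, 4, 3, 6, 3, 2, 1, 3, 2, 4, 3, 2, 1, 3, 5, 3, 6, 2, 3, 5, 4, 3, 6, 2, 3, 1, 2] (.node (.node (.node lev1T3_8 1101 [0, 4, 5, 3, 2, 1, 3, 2, 1, 3, 6, 2, 3, 2, 3, 6, 2, 3, 1, 2, 3, 1, 2] lev1T3_9) 1111 [3, 2, 1, 5, 4, 3, 6, 5, 2, 3, 6, 1, 2, 3, 0, 1, 0] (.node lev1T3_10 1250 [2, 4, 3, 2, 3, 5, 3, 2, 1, 0, 3, 2, 3, 6, 3, 1, 2, 3, 4, 1, 2, 3, 5, 2] lev1T3_11)) 1444 [1, 2, 4, 3, 2, 6, 3, 2, 1, 5, 3, 2, 1, 3, 2, 3, 1, 2, 3, 5, 3, 1, 2, 3, 2,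 1, 0] (.node (.node lev1T3_12 1777 [1, 3, 2, 6, 3, 2, 1, 3, 2, 3, 6, 3, 2, 3, 2, 3, 1, 2, 3, 6, 2, 3, 1, 2, 3] lev1T3_13) 1880 [0, 2, 3, 2, 1, 3, 2, 3, 2, 1, 6, 3, 2, 3, 4, 2, 3, 1, 2, 3, 2, 3, 5, 1] (.node lev1T3_14 2031 [5, 6, 3, 2, 1, 5, 3, 2, 1, 6, 3, 2, 3, 5, 2, 3, 2, 3, 1, 2, 3, 4, 0, 1] lev1T3_15))))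

def lev1T4 : WTree := (.node (.node (.node .leaf 32 [1, 0, 2, 1, 3, 4, 5, 3, 2, 1, 0, 3, 4, 2, 3, 2, 3, 1, 2, 3, 5, 4, 3, 2, 1] .leaf) 292 [0, 2, 1, 4, 5, 3, 2, 3, 2, 1, 6, 3, 4, 2, 3, 2, 3, 6, 1, 2, 3, 2, 3, 1, 2] .leaf) 759 [5, 3, 2, 1, 0, 3, 6, 2, 3, 5, 4, 3, 6, 2, 3, 1, 2, 3, 5] (.node .leaf 1598 [] .leaf))

def lev1T5 : WTree := (.node .leaf 1974 [] .leaf)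

def lev1 : List WLev :=
  [⟨0, none, lev1T0⟩,
   ⟨1072, some 0, lev1T1⟩,
   ⟨1986, some 1072, lev1T2⟩,
   ⟨1532, some 1986, lev1T3⟩,
   ⟨1598, some 1532, lev1T4⟩,
   ⟨1974, some 1598, lev1T5⟩]

def lev2T0_0 : WTree := (.node (.node (.node (.node .leaf 0 [] .leaf) 1 [1] .leaf) 2 [6] (.node .leaf 3 [2, 1] .leaf)) 4 [6, 1] (.node (.node .leaf 5 [3, 6] .leaf) 6 [3, 2, 1] (.node .leaf 7 [6, 2, 1] .leaf)))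

def lev2T0_1 : WTree := (.node (.node (.node .leaf 9 [2, 3, 6] .leaf) 10 [4, 3, 6] (.node .leaf 11 [5, 3, 6] .leaf)) 12 [2, 3, 2, 1] (.node (.node .leaf 13 [4, 3, 2, 1] .leaf) 14 [5, 3, 2, 1] (.node .leaf 15 [2, 3, 6, 1] .leaf)))

def lev2T0_2 : WTree := (.node (.node (.node .leaf 17 [5, 3, 6, 1] .leaf) 18 [1, 2, 3, 6] (.node .leaf 19 [3, 2, 3, 6] .leaf)) 20 [4, 2, 3, 6] (.node (.node .leaf 21 [5, 2, 3, 6] .leaf) 22 [5, 4, 3, 6] (.node .leaf 23 [1, 2, 3, 2, 1] .leaf)))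

def lev2T0_3 : WTree := (.node (.node (.node .leaf 25 [4, 2, 3, 2, 1] .leaf) 26 [5, 2, 3, 2, 1] (.node .leaf 27 [5, 4, 3, 2, 1] .leaf)) 28 [1, 2, 3, 6, 1] (.node (.node .leaf 29 [3, 2, 3, 6, 1] .leaf) 30 [4, 2, 3, 6, 1] (.node .leaf 31 [5, 2, 3, 6, 1] .leaf)))

def lev2T0_4 : WTree := (.node (.node (.node .leaf 33 [0, 1, 2, 3, 6] .leaf) 34 [3, 1, 2, 3, 6] (.node .leaf 35 [5, 1, 2, 3, 6] .leaf)) 36 [2, 3, 2, 3, 6] (.node (.node .leaf 37 [4, 3, 2, 3, 6] .leaf) 38 [5, 3, 2, 3, 6] (.node .leaf 39 [5, 4, 2, 3, 6] .leaf)))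

def lev2T0_5 : WTree := (.node (.node (.node .leaf 41 [0, 1, 2, 3, 2, 1] .leaf) 42 [3, 1, 2, 3, 2, 1] (.node .leaf 43 [5, 1, 2, 3, 2, 1] .leaf)) 44 [4, 3, 2, 3, 2, 1] (.node (.node .leaf 45 [5, 3, 2, 3, 2, 1] .leaf) 46 [6, 3, 2, 3, 2, 1] (.node .leaf 47 [3, 4, 2, 3, 2, 1] .leaf)))

def lev2T0_6 : WTree := (.node (.node (.node .leaf 49 [3, 5, 2, 3, 2, 1] .leaf) 50 [3, 5, 4, 3, 2, 1] (.node .leaf 51 [0, 1, 2, 3, 6, 1] .leaf)) 52 [3, 1, 2, 3, 6, 1] (.node (.node .leaf 53 [5, 1, 2, 3, 6, 1] .leaf) 54 [4, 3, 2, 3, 6, 1] (.node .leaf 55 [5, 3, 2, 3, 6, 1] .leaf)))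

def lev2T0_7 : WTree := (.node (.node (.node .leaf 57 [3, 4, 2, 3, 6, 1] .leaf) 58 [5, 4, 2, 3, 6, 1] (.node .leaf 59 [3, 5, 2, 3, 6, 1] .leaf)) 60 [3, 5, 4, 3, 6, 1] (.node (.node .leaf 61 [3, 0, 1, 2, 3, 6] .leaf) 62 [5, 0, 1, 2, 3, 6] (.node .leaf 63 [2, 3, 1, 2, 3, 6] .leaf)))

def lev2T0_8 : WTree := (.node (.node (.node .leaf 65 [6, 3, 1, 2, 3, 6] .leaf) 66 [4, 2, 3, 2, 3, 6] (.node .leaf 67 [5, 2, 3, 2, 3, 6] .leaf)) 68 [3, 4, 3, 2, 3, 6] (.node (.node .leaf 69 [6, 5, 3, 2, 3, 6] .leaf) 70 [3, 0, 1, 2, 3, 2, 1] (.node .leaf 71 [5, 0, 1, 2, 3, 2, 1] .leaf)))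

def lev2T0_9 : WTree := (.node (.node (.node .leaf 73 [4, 3, 1, 2, 3, 2, 1] .leaf) 74 [5, 3, 1, 2, 3, 2, 1] (.node .leaf 75 [6, 3, 1, 2, 3, 2, 1] .leaf)) 76 [3, 5, 1, 2, 3, 2, 1] (.node (.node .leaf 77 [3, 4, 3, 2, 3, 2, 1] .leaf) 78 [5, 4, 3, 2, 3, 2, 1] (.node .leaf 79 [6, 4, 3, 2, 3, 2, 1] .leaf)))

def lev2T0_10 : WTree := (.node (.node (.node .leaf 81 [6, 5, 3, 2, 3, 2, 1] .leaf) 82 [5, 6, 3, 2, 3, 2, 1] (.node .leaf 83 [5, 3, 4, 2, 3, 2, 1] .leaf)) 84 [6, 3, 4, 2, 3, 2, 1] (.node (.node .leaf 85 [3, 5, 4, 2, 3, 2, 1] .leaf) 86 [2, 3, 5, 2, 3, 2, 1] (.node .leaf 87 [4, 3, 5, 2, 3, 2, 1] .leaf)))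

def lev2T0_11 : WTree := (.node (.node (.node .leaf 89 [2, 3, 5, 4, 3, 2, 1] .leaf) 90 [3, 0, 1, 2, 3, 6, 1] (.node .leaf 91 [5, 0, 1, 2, 3, 6, 1] .leaf)) 92 [2, 3, 1, 2, 3, 6, 1] (.node (.node .leaf 93 [4, 3, 1, 2, 3, 6, 1] .leaf) 94 [5, 3, 1, 2, 3, 6, 1] (.node .leaf 95 [6, 3, 1, 2, 3, 6, 1] .leaf)))

def lev2T0_12 : WTree := (.node (.node (.node .leaf 97 [3, 4, 3, 2, 3, 6, 1] .leaf) 98 [5, 4, 3, 2, 3, 6, 1] (.node .leaf 99 [6, 4, 3, 2, 3, 6, 1] .leaf)) 100 [6, 5, 3, 2, 3, 6, 1] (.node (.node .leaf 101 [5, 6, 3, 2, 3, 6, 1] .leaf) 102 [5, 3, 4, 2, 3, 6, 1] (.node .leaf 103 [6, 3, 4, 2, 3, 6, 1] .leaf)))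

def lev2T0_13 : WTree := (.node (.node (.node .leaf 105 [4, 3, 5, 2, 3, 6, 1] .leaf) 106 [6, 3, 5, 2, 3, 6, 1] (.node .leaf 107 [2, 3, 5, 4, 3, 6, 1] .leaf)) 108 [2, 3, 0, 1, 2, 3, 6] (.node (.node .leaf 109 [4, 3, 0, 1, 2, 3, 6] .leaf) 110 [6, 3, 0, 1, 2, 3, 6] (.node .leaf 111 [1, 2, 3, 1, 2, 3, 6] .leaf)))

def lev2T0_14 : WTree := (.node (.node (.node .leaf 113 [4, 2, 3, 1, 2, 3, 6] .leaf) 114 [6, 4, 3, 1, 2, 3, 6] (.node .leaf 115 [5, 6, 3, 1, 2, 3, 6] .leaf)) 116 [3, 4, 2, 3, 2, 3, 6] (.node (.node .leaf 117 [3, 5, 2, 3, 2, 3, 6] .leaf) 118 [2, 3, 0, 1, 2, 3, 2, 1] (.node .leaf 119 [4, 3, 0, 1, 2, 3, 2, 1] .leaf)))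

def lev2T0_15 : WTree := (.node (.node (.node .leaf 121 [6, 3, 0, 1, 2, 3, 2, 1] .leaf) 122 [3, 5, 0, 1, 2, 3, 2, 1] (.node .leaf 123 [3, 2, 3, 1, 2, 3, 2, 1] .leaf)) 124 [5, 2, 3, 1, 2, 3, 2, 1] (.node (.node .leaf 125 [6, 2, 3, 1, 2, 3, 2, 1] .leaf) 126 [5, 4, 3, 1, 2, 3, 2, 1] (.node .leaf 127 [6, 4, 3, 1, 2, 3, 2, 1] .leaf)))

def lev2T0_16 : WTree := (.node (.node (.node (.node lev2T0_0 8 [3, 6, 1] lev2T0_1) 16 [4, 3, 6, 1] (.node lev2T0_2 24 [3, 2, 3, 2, 1] lev2T0_3)) 32 [5, 4, 3, 6, 1] (.node (.node lev2T0_4 40 [3, 5, 4, 3, 6] lev2T0_5) 48 [5, 4, 2, 3, 2, 1] (.node lev2T0_6 56 [6, 3, 2, 3, 6, 1] lev2T0_7))) 64 [4, 3, 1, 2, 3, 6] (.node (.node (.node lev2T0_8 72 [2, 3, 1, 2, 3, 2, 1] lev2T0_9) 80 [3,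 5, 3, 2, 3, 2, 1] (.node lev2T0_10 88 [6, 3, 5, 2, 3, 2, 1] lev2T0_11)) 96 [3, 5, 1, 2, 3, 6, 1] (.node (.node lev2T0_12 104 [3, 5, 4, 2, 3, 6, 1] lev2T0_13) 112 [3, 2, 3, 1, 2, 3, 6] (.node lev2T0_14 120 [5, 3, 0, 1, 2, 3, 2, 1] lev2T0_15))))

def lev2T0_17 : WTree := (.node (.node (.node (.node .leaf 129 [6, 5, 3, 1, 2, 3, 2, 1] .leaf) 130 [5, 6, 3, 1, 2, 3, 2, 1] .leaf) 131 [2, 3, 5, 1, 2, 3, 2, 1] (.node .leaf 132 [4, 3, 5, 1, 2, 3, 2, 1] .leaf)) 133 [6, 3, 5, 1, 2, 3, 2, 1] (.node (.node .leaf 134 [5, 3, 4, 3, 2, 3, 2, 1] .leaf) 135 [6, 3, 4, 3, 2, 3, 2, 1] (.node .leaf 136 [3, 5, 4, 3, 2, 3, 2, 1] .leaf)))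

def lev2T0_18 : WTree := (.node (.node (.node .leaf 138 [4, 3, 5, 3, 2, 3, 2, 1] .leaf) 139 [6, 3, 5, 3, 2, 3, 2, 1] (.node .leaf 140 [3, 6, 5, 3, 2, 3, 2, 1] .leaf)) 141 [3, 5, 6, 3, 2, 3, 2, 1] (.node (.node .leaf 142 [5, 6, 3, 4, 2, 3, 2, 1] .leaf) 143 [2, 3, 5, 4, 2, 3, 2, 1] (.node .leaf 144 [1, 2, 3, 5, 2, 3, 2, 1] .leaf)))

def lev2T0_19 : WTree := (.node (.node (.node .leaf 146 [6, 2, 3, 5, 2, 3, 2, 1] .leaf) 147 [5, 6, 3, 5, 2, 3, 2, 1] (.node .leaf 148 [1, 2, 3, 5, 4, 3, 2, 1] .leaf)) 149 [3, 2, 3, 5, 4, 3, 2, 1] (.node (.node .leaf 150 [2, 3, 0, 1, 2, 3, 6, 1] .leaf) 151 [4, 3, 0, 1, 2, 3, 6, 1] (.node .leaf 152 [5, 3, 0, 1, 2, 3, 6, 1] .leaf)))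

def lev2T0_20 : WTree := (.node (.node (.node .leaf 154 [3, 5, 0, 1, 2, 3, 6, 1] .leaf) 155 [3, 2, 3, 1, 2, 3, 6, 1] (.node .leaf 156 [4, 2, 3, 1, 2, 3, 6, 1] .leaf)) 157 [5, 2, 3, 1, 2, 3, 6, 1] (.node (.node .leaf 158 [6, 2, 3, 1, 2, 3, 6, 1] .leaf) 159 [5, 4, 3, 1, 2, 3, 6, 1] (.node .leaf 160 [6, 4, 3, 1, 2, 3, 6, 1] .leaf)))

def lev2T0_21 : WTree := (.node (.node (.node .leaf 162 [5, 6, 3, 1, 2, 3, 6, 1] .leaf) 163 [2, 3, 5, 1, 2, 3, 6, 1] (.node .leaf 164 [4, 3, 5, 1, 2, 3, 6, 1] .leaf)) 165 [6, 3, 5, 1, 2, 3, 6, 1] (.node (.node .leaf 166 [5, 3, 4, 3, 2, 3, 6, 1] .leaf) 167 [6, 3, 4, 3, 2, 3, 6, 1] (.node .leaf 168 [3, 5, 4, 3, 2, 3, 6, 1] .leaf)))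

def lev2T0_22 : WTree := (.node (.node (.node .leaf 170 [3, 6, 5, 3, 2, 3, 6, 1] .leaf) 171 [3, 5, 6, 3, 2, 3, 6, 1] (.node .leaf 172 [5, 6, 3, 4, 2, 3, 6, 1] .leaf)) 173 [3, 2, 3, 5, 4, 3, 6, 1] (.node (.node .leaf 174 [1, 2, 3, 0, 1, 2, 3, 6] .leaf) 175 [3, 2, 3, 0, 1, 2, 3, 6] (.node .leaf 176 [4, 2, 3, 0, 1, 2, 3, 6] .leaf)))

def lev2T0_23 : WTree := (.node (.node (.node .leaf 178 [3, 1, 2, 3, 1, 2, 3, 6] .leaf) 179 [4, 1, 2, 3, 1, 2, 3, 6] (.node .leaf 180 [2, 3, 2, 3, 1, 2, 3, 6] .leaf)) 181 [4, 3, 2, 3, 1, 2, 3, 6] (.node (.node .leaf 182 [5, 3, 2, 3, 1, 2, 3, 6] .leaf) 183 [6, 3, 2, 3, 1, 2, 3, 6] (.node .leaf 184 [3, 4, 2, 3, 1, 2, 3, 6] .leaf)))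

def lev2T0_24 : WTree := (.node (.node (.node .leaf 186 [3, 5, 6, 3, 1, 2, 3, 6] .leaf) 187 [1, 2, 3, 0, 1, 2, 3, 2, 1] (.node .leaf 188 [5, 2, 3, 0, 1, 2, 3, 2, 1] .leaf)) 189 [6, 2, 3, 0, 1, 2, 3, 2, 1] (.node (.node .leaf 190 [5, 4, 3, 0, 1, 2, 3, 2, 1] .leaf) 191 [6, 4, 3, 0, 1, 2, 3, 2, 1] (.node .leaf 192 [3, 5, 3, 0, 1, 2, 3, 2, 1] .leaf)))

def lev2T0_25 : WTree := (.node (.node (.node .leaf 194 [5, 6, 3, 0, 1, 2, 3, 2, 1] .leaf) 195 [2, 3, 5, 0, 1, 2, 3, 2, 1] (.node .leaf 196 [5, 3, 2, 3, 1, 2, 3, 2, 1] .leaf)) 197 [6, 3, 2, 3, 1, 2, 3, 2, 1] (.node (.node .leaf 198 [3, 5, 2, 3, 1, 2, 3, 2, 1] .leaf) 199 [6, 5, 2, 3, 1, 2, 3, 2, 1] (.node .leaf 200 [3, 6, 2, 3, 1, 2, 3, 2, 1] .leaf)))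

def lev2T0_26 : WTree := (.node (.node (.node .leaf 202 [3, 5, 4, 3, 1, 2, 3, 2, 1] .leaf) 203 [3, 6, 4, 3, 1, 2, 3, 2, 1] (.node .leaf 204 [2, 3, 5, 3, 1, 2, 3, 2, 1] .leaf)) 205 [4, 3, 5, 3, 1, 2, 3, 2, 1] (.node (.node .leaf 206 [3, 5, 6, 3, 1, 2, 3, 2, 1] .leaf) 207 [1, 2, 3, 5, 1, 2, 3, 2, 1] (.node .leaf 208 [3, 2, 3, 5, 1, 2, 3, 2, 1] .leaf)))

def lev2T0_27 : WTree := (.node (.node (.node .leaf 210 [6, 2, 3, 5, 1, 2, 3, 2, 1] .leaf) 211 [5, 6, 3, 5, 1, 2, 3, 2, 1] (.node .leaf 212 [3, 5, 3, 4, 3, 2, 3, 2, 1] .leaf)) 213 [3, 6, 3, 4, 3, 2, 3, 2, 1] (.node (.node .leaf 214 [2, 3, 5, 4, 3, 2, 3, 2, 1] .leaf) 215 [4, 3, 5, 4, 3, 2, 3, 2, 1] (.node .leaf 216 [6, 3, 5, 4, 3, 2, 3, 2, 1] .leaf)))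

def lev2T0_28 : WTree := (.node (.node (.node .leaf 218 [2, 3, 5, 6, 3, 2, 3, 2, 1] .leaf) 219 [4, 3, 5, 6, 3, 2, 3, 2, 1] (.node .leaf 220 [6, 3, 5, 6, 3, 2, 3, 2, 1] .leaf)) 221 [1, 2, 3, 5, 4, 2, 3, 2, 1] (.node (.node .leaf 222 [3, 2, 3, 5, 4, 2, 3, 2, 1] .leaf) 223 [0, 1, 2, 3, 5, 2, 3, 2, 1] (.node .leaf 224 [4, 1, 2, 3, 5, 2, 3, 2, 1] .leaf)))

def lev2T0_29 : WTree := (.node (.node (.node .leaf 226 [3, 5, 6, 3, 5, 2, 3, 2, 1] .leaf) 227 [3, 1, 2, 3, 5, 4, 3, 2, 1] (.node .leaf 228 [2, 3, 2, 3, 5, 4, 3, 2, 1] .leaf)) 229 [4, 3, 2, 3, 5, 4, 3, 2, 1] (.node (.node .leaf 230 [6, 3, 2, 3, 5, 4, 3, 2, 1] .leaf) 231 [1, 2, 3, 0, 1, 2, 3, 6, 1] (.node .leaf 232 [3, 2, 3, 0, 1, 2, 3, 6, 1] .leaf)))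

def lev2T0_30 : WTree := (.node (.node (.node .leaf 234 [6, 2, 3, 0, 1, 2, 3, 6, 1] .leaf) 235 [5, 4, 3, 0, 1, 2, 3, 6, 1] (.node .leaf 236 [6, 4, 3, 0, 1, 2, 3, 6, 1] .leaf)) 237 [6, 5, 3, 0, 1, 2, 3, 6, 1] (.node (.node .leaf 238 [5, 6, 3, 0, 1, 2, 3, 6, 1] .leaf) 239 [2, 3, 5, 0, 1, 2, 3, 6, 1] (.node .leaf 240 [2, 3, 2, 3, 1, 2, 3, 6, 1] .leaf)))

def lev2T0_31 : WTree := (.node (.node (.node .leaf 242 [5, 3, 2, 3, 1, 2, 3, 6, 1] .leaf) 243 [6, 3, 2, 3, 1, 2, 3, 6, 1] (.node .leaf 244 [3, 4, 2, 3, 1, 2, 3, 6, 1] .leaf)) 245 [5, 4, 2, 3, 1, 2, 3, 6, 1] (.node (.node .leaf 246 [6, 4, 2, 3, 1, 2, 3, 6, 1] .leaf) 247 [3, 5, 2, 3, 1, 2, 3, 6, 1] (.node .leaf 248 [6, 5, 2, 3, 1, 2, 3, 6, 1] .leaf)))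

def lev2T0_32 : WTree := (.node (.node (.node .leaf 250 [5, 6, 2, 3, 1, 2, 3, 6, 1] .leaf) 251 [3, 5, 4, 3, 1, 2, 3, 6, 1] (.node .leaf 252 [3, 6, 4, 3, 1, 2, 3, 6, 1] .leaf)) 253 [3, 5, 6, 3, 1, 2, 3, 6, 1] (.node (.node .leaf 254 [3, 2, 3, 5, 1, 2, 3, 6, 1] .leaf) 255 [4, 2, 3, 5, 1, 2, 3, 6, 1] (.node .leaf 256 [6, 2, 3, 5, 1, 2, 3, 6, 1] .leaf)))

def lev2T0_33 : WTree := (.node (.node (.node (.node lev2T0_17 137 [3, 6, 4, 3, 2, 3, 2, 1] lev2T0_18) 145 [4, 2, 3, 5, 2, 3, 2, 1] (.node lev2T0_19 153 [6, 3, 0, 1, 2, 3, 6, 1] lev2T0_20)) 161 [6, 5, 3, 1, 2, 3, 6, 1] (.node (.node lev2T0_21 169 [3, 6, 4, 3, 2, 3, 6, 1] lev2T0_22) 177 [6, 2, 3, 0, 1, 2, 3, 6] (.node lev2T0_23 185 [3, 6, 4, 3, 1, 2, 3, 6] lev2T0_24)))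 193 [6, 5, 3, 0, 1, 2, 3, 2, 1] (.node (.node (.node lev2T0_25 201 [5, 6, 2, 3, 1, 2, 3, 2, 1] lev2T0_26) 209 [4, 2, 3, 5, 1, 2, 3, 2, 1] (.node lev2T0_27 217 [2, 3, 6, 4, 3, 2, 3, 2, 1] lev2T0_28)) 225 [3, 4, 2, 3, 5, 2, 3, 2, 1] (.node (.node lev2T0_29 233 [5, 2, 3, 0, 1, 2, 3, 6, 1] lev2T0_30) 241 [4, 3, 2, 3, 1, 2, 3, 6, 1] (.node lev2T0_31 249 [3, 6, 2, 3, 1, 2, 3, 6, 1] lev2T0_32))))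

def lev2T0_34 : WTree := (.node (.node (.node (.node .leaf 258 [2, 3, 5, 6, 3, 2, 3, 6, 1] .leaf) 259 [4, 3, 5, 6, 3, 2, 3, 6, 1] .leaf) 260 [6, 3, 5, 6, 3, 2, 3, 6, 1] (.node .leaf 261 [2, 3, 2, 3, 5, 4, 3, 6, 1] .leaf)) 262 [4, 3, 2, 3, 5, 4, 3, 6, 1] (.node (.node .leaf 263 [6, 3, 2, 3, 5, 4, 3, 6, 1] .leaf) 264 [3, 1, 2, 3, 0, 1, 2, 3, 6] (.node .leaf 265 [2, 3, 2, 3, 0, 1, 2, 3, 6] .leaf)))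

def lev2T0_35 : WTree := (.node (.node (.node .leaf 267 [5, 3, 2, 3, 0, 1, 2, 3, 6] .leaf) 268 [6, 3, 2, 3, 0, 1, 2, 3, 6] (.node .leaf 269 [3, 4, 2, 3, 0, 1, 2, 3, 6] .leaf)) 270 [3, 6, 2, 3, 0, 1, 2, 3, 6] (.node (.node .leaf 271 [2, 3, 1, 2, 3, 1, 2, 3, 6] .leaf) 272 [4, 3, 1, 2, 3, 1, 2, 3, 6] (.node .leaf 273 [5, 3, 1, 2, 3, 1, 2, 3, 6] .leaf)))

def lev2T0_36 : WTree := (.node (.node (.node .leaf 275 [3, 4, 1, 2, 3, 1, 2, 3, 6] .leaf) 276 [1, 2, 3, 2, 3, 1, 2, 3, 6] (.node .leaf 277 [3, 2, 3, 2, 3, 1, 2, 3, 6] .leaf)) 278 [4, 2, 3, 2, 3, 1, 2, 3, 6] (.node (.node .leaf 279 [5, 2, 3, 2, 3, 1, 2, 3, 6] .leaf) 280 [6, 2, 3, 2, 3, 1, 2, 3, 6] (.node .leaf 281 [3, 4, 3, 2, 3, 1, 2, 3, 6] .leaf)))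

def lev2T0_37 : WTree := (.node (.node (.node .leaf 283 [6, 4, 3, 2, 3, 1, 2, 3, 6] .leaf) 284 [6, 5, 3, 2, 3, 1, 2, 3, 6] (.node .leaf 285 [5, 6, 3, 2, 3, 1, 2, 3, 6] .leaf)) 286 [2, 3, 4, 2, 3, 1, 2, 3, 6] (.node (.node .leaf 287 [5, 3, 4, 2, 3, 1, 2, 3, 6] .leaf) 288 [6, 3, 4, 2, 3, 1, 2, 3, 6] (.node .leaf 289 [2, 3, 6, 4, 3, 1, 2, 3, 6] .leaf)))

def lev2T0_38 : WTree := (.node (.node (.node .leaf 291 [5, 1, 2, 3, 0, 1, 2, 3, 2, 1] .leaf) 292 [6, 1, 2, 3, 0, 1, 2, 3, 2, 1] (.node .leaf 293 [3, 5, 2, 3, 0, 1, 2, 3, 2, 1] .leaf)) 294 [6, 5, 2, 3, 0, 1, 2, 3, 2, 1] (.node (.node .leaf 295 [3, 6, 2, 3, 0, 1, 2, 3, 2, 1] .leaf) 296 [5, 6, 2, 3, 0, 1, 2, 3, 2, 1] (.node .leaf 297 [3, 5, 4, 3, 0, 1, 2, 3, 2,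 1] .leaf)))

def lev2T0_39 : WTree := (.node (.node (.node .leaf 299 [2, 3, 5, 3, 0, 1, 2, 3, 2, 1] .leaf) 300 [3, 5, 6, 3, 0, 1, 2, 3, 2, 1] (.node .leaf 301 [1, 2, 3, 5, 0, 1, 2, 3, 2, 1] .leaf)) 302 [3, 2, 3, 5, 0, 1, 2, 3, 2, 1] (.node (.node .leaf 303 [3, 5, 3, 2, 3, 1, 2, 3, 2, 1] .leaf) 304 [3, 6, 3, 2, 3, 1, 2, 3, 2, 1] (.node .leaf 305 [2, 3, 5, 2, 3, 1, 2, 3, 2, 1] .leaf)))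

def lev2T0_40 : WTree := (.node (.node (.node .leaf 307 [6, 3, 5, 2, 3, 1, 2, 3, 2, 1] .leaf) 308 [3, 6, 5, 2, 3, 1, 2, 3, 2, 1] (.node .leaf 309 [2, 3, 6, 2, 3, 1, 2, 3, 2, 1] .leaf)) 310 [4, 3, 6, 2, 3, 1, 2, 3, 2, 1] (.node (.node .leaf 311 [5, 3, 6, 2, 3, 1, 2, 3, 2, 1] .leaf) 312 [3, 5, 6, 2, 3, 1, 2, 3, 2, 1] (.node .leaf 313 [2, 3, 5, 4, 3, 1, 2, 3, 2, 1] .leaf)))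

def lev2T0_41 : WTree := (.node (.node (.node .leaf 315 [6, 3, 5, 4, 3, 1, 2, 3, 2, 1] .leaf) 316 [2, 3, 6, 4, 3, 1, 2, 3, 2, 1] (.node .leaf 317 [3, 2, 3, 5, 3, 1, 2, 3, 2, 1] .leaf)) 318 [4, 2, 3, 5, 3, 1, 2, 3, 2, 1] (.node (.node .leaf 319 [2, 3, 5, 6, 3, 1, 2, 3, 2, 1] .leaf) 320 [6, 3, 5, 6, 3, 1, 2, 3, 2, 1] (.node .leaf 321 [0, 1, 2, 3, 5, 1, 2, 3, 2, 1] .leaf)))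

def lev2T0_42 : WTree := (.node (.node (.node .leaf 323 [4, 1, 2, 3, 5, 1, 2, 3, 2, 1] .leaf) 324 [2, 3, 2, 3, 5, 1, 2, 3, 2, 1] (.node .leaf 325 [4, 3, 2, 3, 5, 1, 2, 3, 2, 1] .leaf)) 326 [5, 3, 2, 3, 5, 1, 2, 3, 2, 1] (.node (.node .leaf 327 [6, 3, 2, 3, 5, 1, 2, 3, 2, 1] .leaf) 328 [3, 4, 2, 3, 5, 1, 2, 3, 2, 1] (.node .leaf 329 [3, 6, 2, 3, 5, 1, 2, 3, 2, 1] .leaf)))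

def lev2T0_43 : WTree := (.node (.node (.node .leaf 331 [3, 5, 6, 3, 5, 1, 2, 3, 2, 1] .leaf) 332 [2, 3, 5, 3, 4, 3, 2, 3, 2, 1] (.node .leaf 333 [6, 3, 5, 3, 4, 3, 2, 3, 2, 1] .leaf)) 334 [1, 2, 3, 5, 4, 3, 2, 3, 2, 1] (.node (.node .leaf 335 [4, 2, 3, 5, 4, 3, 2, 3, 2, 1] .leaf) 336 [6, 4, 3, 5, 4, 3, 2, 3, 2, 1] (.node .leaf 337 [5, 6, 3, 5, 4, 3, 2, 3, 2, 1] .leaf)))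

def lev2T0_44 : WTree := (.node (.node (.node .leaf 339 [1, 2, 3, 5, 6, 3, 2, 3, 2, 1] .leaf) 340 [3, 2, 3, 5, 6, 3, 2, 3, 2, 1] (.node .leaf 341 [3, 1, 2, 3, 5, 4, 2, 3, 2, 1] .leaf)) 342 [3, 4, 1, 2, 3, 5, 2, 3, 2, 1] (.node (.node .leaf 343 [2, 3, 5, 6, 3, 5, 2, 3, 2, 1] .leaf) 344 [2, 3, 1, 2, 3, 5, 4, 3, 2, 1] (.node .leaf 345 [4, 3, 1, 2, 3, 5, 4, 3, 2, 1] .leaf)))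

def lev2T0_45 : WTree := (.node (.node (.node .leaf 347 [1, 2, 3, 2, 3, 5, 4, 3, 2, 1] .leaf) 348 [3, 1, 2, 3, 0, 1, 2, 3, 6, 1] (.node .leaf 349 [5, 1, 2, 3, 0, 1, 2, 3, 6, 1] .leaf)) 350 [6, 1, 2, 3, 0, 1, 2, 3, 6, 1] (.node (.node .leaf 351 [4, 3, 2, 3, 0, 1, 2, 3, 6, 1] .leaf) 352 [5, 3, 2, 3, 0, 1, 2, 3, 6, 1] (.node .leaf 353 [6, 3, 2, 3, 0, 1, 2, 3, 6, 1] .leaf)))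

def lev2T0_46 : WTree := (.node (.node (.node .leaf 355 [6, 5, 2, 3, 0, 1, 2, 3, 6, 1] .leaf) 356 [3, 6, 2, 3, 0, 1, 2, 3, 6, 1] (.node .leaf 357 [5, 6, 2, 3, 0, 1, 2, 3, 6, 1] .leaf)) 358 [3, 5, 4, 3, 0, 1, 2, 3, 6, 1] (.node (.node .leaf 359 [3, 5, 6, 3, 0, 1, 2, 3, 6, 1] .leaf) 360 [3, 2, 3, 5, 0, 1, 2, 3, 6, 1] (.node .leaf 361 [1, 2, 3, 2, 3, 1, 2, 3, 6, 1] .leaf)))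

def lev2T0_47 : WTree := (.node (.node (.node .leaf 363 [5, 2, 3, 2, 3, 1, 2, 3, 6, 1] .leaf) 364 [6, 2, 3, 2, 3, 1, 2, 3, 6, 1] (.node .leaf 365 [3, 4, 3, 2, 3, 1, 2, 3, 6, 1] .leaf)) 366 [5, 4, 3, 2, 3, 1, 2, 3, 6, 1] (.node (.node .leaf 367 [6, 4, 3, 2, 3, 1, 2, 3, 6, 1] .leaf) 368 [3, 5, 3, 2, 3, 1, 2, 3, 6, 1] (.node .leaf 369 [6, 5, 3, 2, 3, 1, 2, 3, 6, 1] .leaf)))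

def lev2T0_48 : WTree := (.node (.node (.node .leaf 371 [5, 6, 3, 2, 3, 1, 2, 3, 6, 1] .leaf) 372 [2, 3, 4, 2, 3, 1, 2, 3, 6, 1] (.node .leaf 373 [5, 3, 4, 2, 3, 1, 2, 3, 6, 1] .leaf)) 374 [6, 3, 4, 2, 3, 1, 2, 3, 6, 1] (.node (.node .leaf 375 [3, 5, 4, 2, 3, 1, 2, 3, 6, 1] .leaf) 376 [3, 6, 4, 2, 3, 1, 2, 3, 6, 1] (.node .leaf 377 [2, 3, 5, 2, 3, 1, 2, 3, 6, 1] .leaf)))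

def lev2T0_49 : WTree := (.node (.node (.node .leaf 379 [2, 3, 6, 2, 3, 1, 2, 3, 6, 1] .leaf) 380 [4, 3, 6, 2, 3, 1, 2, 3, 6, 1] (.node .leaf 381 [2, 3, 5, 4, 3, 1, 2, 3, 6, 1] .leaf)) 382 [2, 3, 6, 4, 3, 1, 2, 3, 6, 1] (.node (.node .leaf 383 [6, 3, 5, 6, 3, 1, 2, 3, 6, 1] .leaf) 384 [4, 3, 2, 3, 5, 1, 2, 3, 6, 1] (.node .leaf 385 [5, 3, 2, 3, 5, 1, 2, 3, 6, 1] .leaf)))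

def lev2T0_50 : WTree := (.node (.node (.node (.node lev2T0_34 266 [4, 3, 2, 3, 0, 1, 2, 3, 6] lev2T0_35) 274 [6, 3, 1, 2, 3, 1, 2, 3, 6] (.node lev2T0_36 282 [5, 4, 3, 2, 3, 1, 2, 3, 6] lev2T0_37)) 290 [2, 3, 5, 6, 3, 1, 2, 3, 6] (.node (.node lev2T0_38 298 [3, 6, 4, 3, 0, 1, 2, 3, 2, 1] lev2T0_39) 306 [4, 3, 5, 2, 3, 1, 2, 3, 2, 1] (.node lev2T0_40 314 [4, 3, 5, 4, 3, 1, 2, 3, 2, 1] lev2T0_41))) 322 [3, 1, 2, 3, 5, 1, 2, 3, 2, 1] (.node (.node (.node lev2T0_42 330 [5, 6, 2, 3, 5, 1, 2, 3, 2, 1] lev2T0_43) 338 [1, 2, 3, 6, 4, 3, 2, 3, 2, 1] (.node lev2T0_44 346 [6, 3, 1, 2, 3, 5, 4, 3, 2, 1] lev2T0_45)) 354 [3, 5, 2, 3, 0, 1, 2, 3, 6, 1] (.node (.node lev2T0_46 362 [4, 2, 3, 2, 3, 1, 2, 3, 6, 1] lev2T0_47)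 370 [3, 6, 3, 2, 3, 1, 2, 3, 6, 1] (.node lev2T0_48 378 [4, 3, 5, 2, 3, 1, 2, 3, 6, 1] lev2T0_49))))

def lev2T0_51 : WTree := (.node (.node (.node .leaf 387 [3, 4, 2, 3, 5, 1, 2, 3, 6, 1] .leaf) 388 [3, 6, 2, 3, 5, 1, 2, 3, 6, 1] (.node .leaf 389 [3, 2, 3, 5, 6, 3, 2, 3, 6, 1] .leaf)) 390 [1, 2, 3, 2, 3, 5, 4, 3, 6, 1] (.node (.node .leaf 391 [2, 3, 1, 2, 3, 0, 1, 2, 3, 6] .leaf) 392 [4, 3, 1, 2, 3, 0, 1, 2, 3, 6] (.node .leaf 393 [5, 3, 1, 2, 3, 0, 1, 2, 3, 6] .leaf)))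

def lev2T0_52 : WTree := (.node (.node (.node .leaf 395 [1, 2, 3, 2, 3, 0, 1, 2, 3, 6] .leaf) 396 [4, 2, 3, 2, 3, 0, 1, 2, 3, 6] (.node .leaf 397 [5, 2, 3, 2, 3, 0, 1, 2, 3, 6] .leaf)) 398 [6, 2, 3, 2, 3, 0, 1, 2, 3, 6] (.node (.node .leaf 399 [3, 4, 3, 2, 3, 0, 1, 2, 3, 6] .leaf) 400 [5, 4, 3, 2, 3, 0, 1, 2, 3, 6] (.node .leaf 401 [6, 4, 3, 2, 3, 0, 1, 2, 3, 6] .leaf)))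

def lev2T0_53 : WTree := (.node (.node (.node .leaf 403 [3, 6, 3, 2, 3, 0, 1, 2, 3, 6] .leaf) 404 [5, 6, 3, 2, 3, 0, 1, 2, 3, 6] (.node .leaf 405 [2, 3, 4, 2, 3, 0, 1, 2, 3, 6] .leaf)) 406 [5, 3, 4, 2, 3, 0, 1, 2, 3, 6] (.node (.node .leaf 407 [6, 3, 4, 2, 3, 0, 1, 2, 3, 6] .leaf) 408 [2, 3, 6, 2, 3, 0, 1, 2, 3, 6] (.node .leaf 409 [4, 3, 6, 2, 3, 0, 1, 2, 3, 6] .leaf)))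

def lev2T0_54 : WTree := (.node (.node (.node .leaf 411 [1, 2, 3, 1, 2, 3, 1, 2, 3, 6] .leaf) 412 [3, 2, 3, 1, 2, 3, 1, 2, 3, 6] (.node .leaf 413 [4, 2, 3, 1, 2, 3, 1, 2, 3, 6] .leaf)) 414 [5, 2, 3, 1, 2, 3, 1, 2, 3, 6] (.node (.node .leaf 415 [6, 2, 3, 1, 2, 3, 1, 2, 3, 6] .leaf) 416 [3, 4, 3, 1, 2, 3, 1, 2, 3, 6] (.node .leaf 417 [5, 4, 3, 1, 2, 3, 1, 2, 3, 6] .leaf)))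

def lev2T0_55 : WTree := (.node (.node (.node .leaf 419 [6, 5, 3, 1, 2, 3, 1, 2, 3, 6] .leaf) 420 [5, 6, 3, 1, 2, 3, 1, 2, 3, 6] (.node .leaf 421 [2, 3, 4, 1, 2, 3, 1, 2, 3, 6] .leaf)) 422 [5, 3, 4, 1, 2, 3, 1, 2, 3, 6] (.node (.node .leaf 423 [6, 3, 4, 1, 2, 3, 1, 2, 3, 6] .leaf) 424 [0, 1, 2, 3, 2, 3, 1, 2, 3, 6] (.node .leaf 425 [3, 1, 2, 3, 2, 3, 1, 2, 3, 6] .leaf)))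

def lev2T0_56 : WTree := (.node (.node (.node .leaf 427 [5, 1, 2, 3, 2, 3, 1, 2, 3, 6] .leaf) 428 [6, 1, 2, 3, 2, 3, 1, 2, 3, 6] (.node .leaf 429 [4, 3, 2, 3, 2, 3, 1, 2, 3, 6] .leaf)) 430 [5, 3, 2, 3, 2, 3, 1, 2, 3, 6] (.node (.node .leaf 431 [6, 3, 2, 3, 2, 3, 1, 2, 3, 6] .leaf) 432 [3, 4, 2, 3, 2, 3, 1, 2, 3, 6] (.node .leaf 433 [5, 4, 2, 3, 2, 3, 1, 2, 3, 6] .leaf)))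

def lev2T0_57 : WTree := (.node (.node (.node .leaf 435 [3, 5, 2, 3, 2, 3, 1, 2, 3, 6] .leaf) 436 [6, 5, 2, 3, 2, 3, 1, 2, 3, 6] (.node .leaf 437 [3, 6, 2, 3, 2, 3, 1, 2, 3, 6] .leaf)) 438 [5, 6, 2, 3, 2, 3, 1, 2, 3, 6] (.node (.node .leaf 439 [2, 3, 4, 3, 2, 3, 1, 2, 3, 6] .leaf) 440 [5, 3, 4, 3, 2, 3, 1, 2, 3, 6] (.node .leaf 441 [6, 3, 4, 3, 2, 3, 1, 2, 3, 6] .leaf)))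

def lev2T0_58 : WTree := (.node (.node (.node .leaf 443 [3, 6, 4, 3, 2, 3, 1, 2, 3, 6] .leaf) 444 [3, 6, 5, 3, 2, 3, 1, 2, 3, 6] (.node .leaf 445 [3, 5, 6, 3, 2, 3, 1, 2, 3, 6] .leaf)) 446 [1, 2, 3, 4, 2, 3, 1, 2, 3, 6] (.node (.node .leaf 447 [3, 2, 3, 4, 2, 3, 1, 2, 3, 6] .leaf) 448 [5, 2, 3, 4, 2, 3, 1, 2, 3, 6] (.node .leaf 449 [6, 2, 3, 4, 2, 3, 1, 2, 3, 6] .leaf)))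

def lev2T0_59 : WTree := (.node (.node (.node .leaf 451 [5, 6, 3, 4, 2, 3, 1, 2, 3, 6] .leaf) 452 [3, 2, 3, 6, 4, 3, 1, 2, 3, 6] (.node .leaf 453 [3, 2, 3, 5, 6, 3, 1, 2, 3, 6] .leaf)) 454 [3, 5, 1, 2, 3, 0, 1, 2, 3, 2, 1] (.node (.node .leaf 455 [3, 6, 1, 2, 3, 0, 1, 2, 3, 2, 1] .leaf) 456 [2, 3, 5, 2, 3, 0, 1, 2, 3, 2, 1] (.node .leaf 457 [4, 3, 5, 2, 3, 0, 1, 2, 3, 2, 1] .leaf)))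

def lev2T0_60 : WTree := (.node (.node (.node .leaf 459 [3, 6, 5, 2, 3, 0, 1, 2, 3, 2, 1] .leaf) 460 [2, 3, 6, 2, 3, 0, 1, 2, 3, 2, 1] (.node .leaf 461 [4, 3, 6, 2, 3, 0, 1, 2, 3, 2, 1] .leaf)) 462 [5, 3, 6, 2, 3, 0, 1, 2, 3, 2, 1] (.node (.node .leaf 463 [3, 5, 6, 2, 3, 0, 1, 2, 3, 2, 1] .leaf) 464 [2, 3, 5, 4, 3, 0, 1, 2, 3, 2, 1] (.node .leaf 465 [6, 3, 5, 4, 3, 0, 1, 2, 3, 2, 1] .leaf)))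

def lev2T0_61 : WTree := (.node (.node (.node .leaf 467 [3, 2, 3, 5, 3, 0, 1, 2, 3, 2, 1] .leaf) 468 [2, 3, 5, 6, 3, 0, 1, 2, 3, 2, 1] (.node .leaf 469 [3, 1, 2, 3, 5, 0, 1, 2, 3, 2, 1] .leaf)) 470 [2, 3, 2, 3, 5, 0, 1, 2, 3, 2, 1] (.node (.node .leaf 471 [4, 3, 2, 3, 5, 0, 1, 2, 3, 2, 1] .leaf) 472 [5, 3, 2, 3, 5, 0, 1, 2, 3, 2, 1] (.node .leaf 473 [6, 3, 2, 3, 5, 0, 1, 2, 3, 2, 1] .leaf)))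

def lev2T0_62 : WTree := (.node (.node (.node .leaf 475 [4, 3, 5, 3, 2, 3, 1, 2, 3, 2, 1] .leaf) 476 [6, 3, 5, 3, 2, 3, 1, 2, 3, 2, 1] (.node .leaf 477 [2, 3, 6, 3, 2, 3, 1, 2, 3, 2, 1] .leaf)) 478 [4, 3, 6, 3, 2, 3, 1, 2, 3, 2, 1] (.node (.node .leaf 479 [5, 3, 6, 3, 2, 3, 1, 2, 3, 2, 1] .leaf) 480 [1, 2, 3, 5, 2, 3, 1, 2, 3, 2, 1] (.node .leaf 481 [3, 2, 3, 5, 2, 3, 1, 2, 3, 2, 1] .leaf)))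

def lev2T0_63 : WTree := (.node (.node (.node .leaf 483 [6, 2, 3, 5, 2, 3, 1, 2, 3, 2, 1] .leaf) 484 [6, 4, 3, 5, 2, 3, 1, 2, 3, 2, 1] (.node .leaf 485 [3, 6, 3, 5, 2, 3, 1, 2, 3, 2, 1] .leaf)) 486 [5, 6, 3, 5, 2, 3, 1, 2, 3, 2, 1] (.node (.node .leaf 487 [2, 3, 6, 5, 2, 3, 1, 2, 3, 2, 1] .leaf) 488 [4, 3, 6, 5, 2, 3, 1, 2, 3, 2, 1] (.node .leaf 489 [5, 3, 6, 5, 2, 3, 1, 2, 3, 2, 1] .leaf)))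

def lev2T0_64 : WTree := (.node (.node (.node .leaf 491 [3, 2, 3, 6, 2, 3, 1, 2, 3, 2, 1] .leaf) 492 [4, 2, 3, 6, 2, 3, 1, 2, 3, 2, 1] (.node .leaf 493 [5, 2, 3, 6, 2, 3, 1, 2, 3, 2, 1] .leaf)) 494 [5, 4, 3, 6, 2, 3, 1, 2, 3, 2, 1] (.node (.node .leaf 495 [3, 5, 3, 6, 2, 3, 1, 2, 3, 2, 1] .leaf) 496 [6, 5, 3, 6, 2, 3, 1, 2, 3, 2, 1] (.node .leaf 497 [2, 3, 5, 6, 2, 3, 1, 2, 3, 2, 1] .leaf)))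

def lev2T0_65 : WTree := (.node (.node (.node .leaf 499 [6, 3, 5, 6, 2, 3, 1, 2, 3, 2, 1] .leaf) 500 [1, 2, 3, 5, 4, 3, 1, 2, 3, 2, 1] (.node .leaf 501 [3, 2, 3, 5, 4, 3, 1, 2, 3, 2, 1] .leaf)) 502 [4, 2, 3, 5, 4, 3, 1, 2, 3, 2, 1] (.node (.node .leaf 503 [6, 2, 3, 5, 4, 3, 1, 2, 3, 2, 1] .leaf) 504 [6, 4, 3, 5, 4, 3, 1, 2, 3, 2, 1] (.node .leaf 505 [5, 6, 3, 5, 4, 3, 1, 2, 3, 2, 1] .leaf)))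

def lev2T0_66 : WTree := (.node (.node (.node .leaf 507 [3, 2, 3, 6, 4, 3, 1, 2, 3, 2, 1] .leaf) 508 [2, 3, 2, 3, 5, 3, 1, 2, 3, 2, 1] (.node .leaf 509 [4, 3, 2, 3, 5, 3, 1, 2, 3, 2, 1] .leaf)) 510 [5, 3, 2, 3, 5, 3, 1, 2, 3, 2, 1] (.node (.node .leaf 511 [6, 3, 2, 3, 5, 3, 1, 2, 3, 2, 1] .leaf) 512 [3, 4, 2, 3, 5, 3, 1, 2, 3, 2, 1] (.node .leaf 513 [1, 2, 3, 5, 6, 3, 1, 2, 3, 2, 1] .leaf)))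

def lev2T0_67 : WTree := (.node (.node (.node (.node lev2T0_51 394 [6, 3, 1, 2, 3, 0, 1, 2, 3, 6] lev2T0_52) 402 [6, 5, 3, 2, 3, 0, 1, 2, 3, 6] (.node lev2T0_53 410 [5, 3, 6, 2, 3, 0, 1, 2, 3, 6] lev2T0_54)) 418 [6, 4, 3, 1, 2, 3, 1, 2, 3, 6] (.node (.node lev2T0_55 426 [4, 1, 2, 3, 2, 3, 1, 2, 3, 6] lev2T0_56) 434 [6, 4, 2, 3, 2, 3, 1, 2, 3, 6] (.node lev2T0_57 442 [3, 5, 4, 3, 2, 3, 1, 2, 3, 6] lev2T0_58))) 450 [6, 5, 3, 4, 2, 3, 1, 2, 3, 6] (.node (.node (.node lev2T0_59 458 [6, 3, 5, 2, 3, 0, 1, 2, 3, 2, 1] lev2T0_60) 466 [2, 3, 6, 4, 3, 0, 1, 2, 3, 2, 1] (.node lev2T0_61 474 [2, 3, 5, 3, 2, 3, 1, 2, 3, 2, 1] lev2T0_62)) 482 [4, 2, 3, 5, 2, 3, 1, 2, 3, 2, 1] (.node (.node lev2T0_63 490 [1, 2, 3, 6, 2,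 3, 1, 2, 3, 2, 1] lev2T0_64) 498 [4, 3, 5, 6, 2, 3, 1, 2, 3, 2, 1] (.node lev2T0_65 506 [1, 2, 3, 6, 4, 3, 1, 2, 3, 2, 1] lev2T0_66))))

def lev2T0_68 : WTree := (.node (.node (.node (.node .leaf 515 [6, 2, 3, 5, 6, 3, 1, 2, 3, 2, 1] .leaf) 516 [3, 0, 1, 2, 3, 5, 1, 2, 3, 2, 1] .leaf) 517 [2, 3, 1, 2, 3, 5, 1, 2, 3, 2, 1] (.node .leaf 518 [4, 3, 1, 2, 3, 5, 1, 2, 3, 2, 1] .leaf)) 519 [5, 3, 1, 2, 3, 5, 1, 2, 3, 2, 1] (.node (.node .leaf 520 [6, 3, 1, 2, 3, 5, 1, 2, 3, 2, 1] .leaf) 521 [3, 4, 1, 2, 3, 5, 1, 2, 3, 2, 1] (.node .leaf 522 [1, 2, 3, 2, 3, 5, 1, 2, 3, 2, 1] .leaf)))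

def lev2T0_69 : WTree := (.node (.node (.node .leaf 524 [5, 2, 3, 2, 3, 5, 1, 2, 3, 2, 1] .leaf) 525 [6, 2, 3, 2, 3, 5, 1, 2, 3, 2, 1] (.node .leaf 526 [3, 4, 3, 2, 3, 5, 1, 2, 3, 2, 1] .leaf)) 527 [5, 4, 3, 2, 3, 5, 1, 2, 3, 2, 1] (.node (.node .leaf 528 [6, 4, 3, 2, 3, 5, 1, 2, 3, 2, 1] .leaf) 529 [6, 5, 3, 2, 3, 5, 1, 2, 3, 2, 1] (.node .leaf 530 [3, 6, 3, 2, 3, 5, 1, 2, 3, 2, 1] .leaf)))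

def lev2T0_70 : WTree := (.node (.node (.node .leaf 532 [2, 3, 4, 2, 3, 5, 1, 2, 3, 2, 1] .leaf) 533 [5, 3, 4, 2, 3, 5, 1, 2, 3, 2, 1] (.node .leaf 534 [6, 3, 4, 2, 3, 5, 1, 2, 3, 2, 1] .leaf)) 535 [2, 3, 6, 2, 3, 5, 1, 2, 3, 2, 1] (.node (.node .leaf 536 [4, 3, 6, 2, 3, 5, 1, 2, 3, 2, 1] .leaf) 537 [5, 3, 6, 2, 3, 5, 1, 2, 3, 2, 1] (.node .leaf 538 [3, 5, 6, 2, 3, 5, 1, 2, 3, 2, 1] .leaf)))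

def lev2T0_71 : WTree := (.node (.node (.node .leaf 540 [1, 2, 3, 5, 3, 4, 3, 2, 3, 2, 1] .leaf) 541 [0, 1, 2, 3, 5, 4, 3, 2, 3, 2, 1] (.node .leaf 542 [4, 1, 2, 3, 5, 4, 3, 2, 3, 2, 1] .leaf)) 543 [3, 1, 2, 3, 5, 6, 3, 2, 3, 2, 1] (.node (.node .leaf 544 [2, 3, 2, 3, 5, 6, 3, 2, 3, 2, 1] .leaf) 545 [5, 3, 2, 3, 5, 6, 3, 2, 3, 2, 1] (.node .leaf 546 [2, 3, 1, 2, 3, 5, 4, 2, 3, 2, 1] .leaf)))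

def lev2T0_72 : WTree := (.node (.node (.node .leaf 548 [1, 2, 3, 1, 2, 3, 5, 4, 3, 2, 1] .leaf) 549 [3, 2, 3, 1, 2, 3, 5, 4, 3, 2, 1] (.node .leaf 550 [6, 2, 3, 1, 2, 3, 5, 4, 3, 2, 1] .leaf)) 551 [2, 3, 1, 2, 3, 0, 1, 2, 3, 6, 1] (.node (.node .leaf 552 [4, 3, 1, 2, 3, 0, 1, 2, 3, 6, 1] .leaf) 553 [5, 3, 1, 2, 3, 0, 1, 2, 3, 6, 1] (.node .leaf 554 [6, 3, 1, 2, 3, 0, 1, 2, 3, 6, 1] .leaf)))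

def lev2T0_73 : WTree := (.node (.node (.node .leaf 556 [3, 6, 1, 2, 3, 0, 1, 2, 3, 6, 1] .leaf) 557 [5, 4, 3, 2, 3, 0, 1, 2, 3, 6, 1] (.node .leaf 558 [6, 4, 3, 2, 3, 0, 1, 2, 3, 6, 1] .leaf)) 559 [3, 5, 3, 2, 3, 0, 1, 2, 3, 6, 1] (.node (.node .leaf 560 [6, 5, 3, 2, 3, 0, 1, 2, 3, 6, 1] .leaf) 561 [3, 6, 3, 2, 3, 0, 1, 2, 3, 6, 1] (.node .leaf 562 [5, 6, 3, 2, 3, 0, 1, 2, 3, 6, 1] .leaf)))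

def lev2T0_74 : WTree := (.node (.node (.node .leaf 564 [4, 3, 5, 2, 3, 0, 1, 2, 3, 6, 1] .leaf) 565 [2, 3, 6, 2, 3, 0, 1, 2, 3, 6, 1] (.node .leaf 566 [4, 3, 6, 2, 3, 0, 1, 2, 3, 6, 1] .leaf)) 567 [2, 3, 5, 4, 3, 0, 1, 2, 3, 6, 1] (.node (.node .leaf 568 [4, 3, 2, 3, 5, 0, 1, 2, 3, 6, 1] .leaf) 569 [5, 3, 2, 3, 5, 0, 1, 2, 3, 6, 1] (.node .leaf 570 [6, 3, 2, 3, 5, 0, 1, 2, 3, 6, 1] .leaf)))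

def lev2T0_75 : WTree := (.node (.node (.node .leaf 572 [4, 1, 2, 3, 2, 3, 1, 2, 3, 6, 1] .leaf) 573 [5, 1, 2, 3, 2, 3, 1, 2, 3, 6, 1] (.node .leaf 574 [6, 1, 2, 3, 2, 3, 1, 2, 3, 6, 1] .leaf)) 575 [3, 4, 2, 3, 2, 3, 1, 2, 3, 6, 1] (.node (.node .leaf 576 [5, 4, 2, 3, 2, 3, 1, 2, 3, 6, 1] .leaf) 577 [6, 4, 2, 3, 2, 3, 1, 2, 3, 6, 1] (.node .leaf 578 [3, 5, 2, 3, 2, 3, 1, 2, 3, 6, 1] .leaf)))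

def lev2T0_76 : WTree := (.node (.node (.node .leaf 580 [3, 6, 2, 3, 2, 3, 1, 2, 3, 6, 1] .leaf) 581 [5, 6, 2, 3, 2, 3, 1, 2, 3, 6, 1] (.node .leaf 582 [2, 3, 4, 3, 2, 3, 1, 2, 3, 6, 1] .leaf)) 583 [5, 3, 4, 3, 2, 3, 1, 2, 3, 6, 1] (.node (.node .leaf 584 [6, 3, 4, 3, 2, 3, 1, 2, 3, 6, 1] .leaf) 585 [3, 5, 4, 3, 2, 3, 1, 2, 3, 6, 1] (.node .leaf 586 [3, 6, 4, 3, 2, 3, 1, 2, 3, 6, 1] .leaf)))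

def lev2T0_77 : WTree := (.node (.node (.node .leaf 588 [4, 3, 5, 3, 2, 3, 1, 2, 3, 6, 1] .leaf) 589 [6, 3, 5, 3, 2, 3, 1, 2, 3, 6, 1] (.node .leaf 590 [3, 6, 5, 3, 2, 3, 1, 2, 3, 6, 1] .leaf)) 591 [2, 3, 6, 3, 2, 3, 1, 2, 3, 6, 1] (.node (.node .leaf 592 [4, 3, 6, 3, 2, 3, 1, 2, 3, 6, 1] .leaf) 593 [5, 3, 6, 3, 2, 3, 1, 2, 3, 6, 1] (.node .leaf 594 [3, 5, 6, 3, 2, 3, 1, 2, 3, 6, 1] .leaf)))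

def lev2T0_78 : WTree := (.node (.node (.node .leaf 596 [3, 2, 3, 4, 2, 3, 1, 2, 3, 6, 1] .leaf) 597 [5, 2, 3, 4, 2, 3, 1, 2, 3, 6, 1] (.node .leaf 598 [6, 2, 3, 4, 2, 3, 1, 2, 3, 6, 1] .leaf)) 599 [3, 5, 3, 4, 2, 3, 1, 2, 3, 6, 1] (.node (.node .leaf 600 [6, 5, 3, 4, 2, 3, 1, 2, 3, 6, 1] .leaf) 601 [3, 6, 3, 4, 2, 3, 1, 2, 3, 6, 1] (.node .leaf 602 [5, 6, 3, 4, 2, 3, 1, 2, 3, 6, 1] .leaf)))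

def lev2T0_79 : WTree := (.node (.node (.node .leaf 604 [4, 3, 5, 4, 2, 3, 1, 2, 3, 6, 1] .leaf) 605 [2, 3, 6, 4, 2, 3, 1, 2, 3, 6, 1] (.node .leaf 606 [4, 3, 6, 4, 2, 3, 1, 2, 3, 6, 1] .leaf)) 607 [1, 2, 3, 5, 2, 3, 1, 2, 3, 6, 1] (.node (.node .leaf 608 [3, 2, 3, 5, 2, 3, 1, 2, 3, 6, 1] .leaf) 609 [4, 2, 3, 5, 2, 3, 1, 2, 3, 6, 1] (.node .leaf 610 [1, 2, 3, 6, 2, 3, 1, 2, 3, 6, 1] .leaf)))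

def lev2T0_80 : WTree := (.node (.node (.node .leaf 612 [4, 2, 3, 6, 2, 3, 1, 2, 3, 6, 1] .leaf) 613 [3, 2, 3, 6, 4, 3, 1, 2, 3, 6, 1] (.node .leaf 614 [3, 4, 3, 2, 3, 5, 1, 2, 3, 6, 1] .leaf)) 615 [5, 4, 3, 2, 3, 5, 1, 2, 3, 6, 1] (.node (.node .leaf 616 [6, 4, 3, 2, 3, 5, 1, 2, 3, 6, 1] .leaf) 617 [6, 5, 3, 2, 3, 5, 1, 2, 3, 6, 1] (.node .leaf 618 [3, 6, 3, 2, 3, 5, 1, 2, 3, 6, 1] .leaf)))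

def lev2T0_81 : WTree := (.node (.node (.node .leaf 620 [2, 3, 4, 2, 3, 5, 1, 2, 3, 6, 1] .leaf) 621 [5, 3, 4, 2, 3, 5, 1, 2, 3, 6, 1] (.node .leaf 622 [6, 3, 4, 2, 3, 5, 1, 2, 3, 6, 1] .leaf)) 623 [5, 3, 6, 2, 3, 5, 1, 2, 3, 6, 1] (.node (.node .leaf 624 [3, 2, 3, 1, 2, 3, 0, 1, 2, 3, 6] .leaf) 625 [4, 2, 3, 1, 2, 3, 0, 1, 2, 3, 6] (.node .leaf 626 [5, 2, 3, 1, 2, 3, 0, 1, 2, 3, 6] .leaf)))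

def lev2T0_82 : WTree := (.node (.node (.node .leaf 628 [6, 4, 3, 1, 2, 3, 0, 1, 2, 3, 6] .leaf) 629 [6, 5, 3, 1, 2, 3, 0, 1, 2, 3, 6] (.node .leaf 630 [0, 1, 2, 3, 2, 3, 0, 1, 2, 3, 6] .leaf)) 631 [4, 1, 2, 3, 2, 3, 0, 1, 2, 3, 6] (.node (.node .leaf 632 [5, 1, 2, 3, 2, 3, 0, 1, 2, 3, 6] .leaf) 633 [3, 4, 2, 3, 2, 3, 0, 1, 2, 3, 6] (.node .leaf 634 [5, 4, 2, 3, 2, 3, 0, 1, 2, 3, 6] .leaf)))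

def lev2T0_83 : WTree := (.node (.node (.node .leaf 636 [3, 5, 2, 3, 2, 3, 0, 1, 2, 3, 6] .leaf) 637 [6, 5, 2, 3, 2, 3, 0, 1, 2, 3, 6] (.node .leaf 638 [3, 6, 2, 3, 2, 3, 0, 1, 2, 3, 6] .leaf)) 639 [2, 3, 4, 3, 2, 3, 0, 1, 2, 3, 6] (.node (.node .leaf 640 [5, 3, 4, 3, 2, 3, 0, 1, 2, 3, 6] .leaf) 641 [6, 3, 4, 3, 2, 3, 0, 1, 2, 3, 6] (.node .leaf 642 [3, 5, 4, 3, 2, 3, 0, 1, 2, 3, 6] .leaf)))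

def lev2T0_84 : WTree := (.node (.node (.node (.node lev2T0_68 523 [4, 2, 3, 2, 3, 5, 1, 2, 3, 2, 1] lev2T0_69) 531 [5, 6, 3, 2, 3, 5, 1, 2, 3, 2, 1] (.node lev2T0_70 539 [2, 3, 5, 6, 3, 5, 1, 2, 3, 2, 1] lev2T0_71)) 547 [2, 3, 4, 1, 2, 3, 5, 2, 3, 2, 1] (.node (.node lev2T0_72 555 [3, 5, 1, 2, 3, 0, 1, 2, 3, 6, 1] lev2T0_73) 563 [2, 3, 5, 2, 3, 0, 1, 2, 3, 6, 1] (.node lev2T0_74 571 [0, 1, 2, 3, 2, 3, 1, 2, 3, 6, 1] lev2T0_75))) 579 [6, 5, 2, 3, 2, 3, 1, 2, 3, 6, 1] (.node (.node (.node lev2T0_76 587 [2, 3, 5, 3, 2, 3, 1, 2, 3, 6, 1] lev2T0_77) 595 [1, 2, 3, 4, 2, 3, 1, 2, 3, 6, 1] (.node lev2T0_78 603 [2, 3, 5, 4, 2, 3, 1, 2, 3, 6, 1] lev2T0_79)) 611 [3, 2, 3, 6, 2, 3, 1, 2, 3, 6, 1] (.node (.node lev2T0_80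 619 [5, 6, 3, 2, 3, 5, 1, 2, 3, 6, 1] lev2T0_81) 627 [5, 4, 3, 1, 2, 3, 0, 1, 2, 3, 6] (.node lev2T0_82 635 [6, 4, 2, 3, 2, 3, 0, 1, 2, 3, 6] lev2T0_83))))

def lev2T0_85 : WTree := (.node (.node (.node (.node .leaf 644 [3, 6, 5, 3, 2, 3, 0, 1, 2, 3, 6] .leaf) 645 [2, 3, 6, 3, 2, 3, 0, 1, 2, 3, 6] .leaf) 646 [4, 3, 6, 3, 2, 3, 0, 1, 2, 3, 6] (.node .leaf 647 [5, 3, 6, 3, 2, 3, 0, 1, 2, 3, 6] .leaf)) 648 [3, 5, 6, 3, 2, 3, 0, 1, 2, 3, 6] (.node (.node .leaf 649 [1, 2, 3, 4, 2, 3, 0, 1, 2, 3, 6] .leaf) 650 [3, 2, 3, 4, 2, 3, 0, 1, 2, 3, 6] (.node .leaf 651 [5, 2, 3, 4, 2, 3, 0, 1, 2, 3, 6] .leaf)))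

def lev2T0_86 : WTree := (.node (.node (.node .leaf 653 [6, 5, 3, 4, 2, 3, 0, 1, 2, 3, 6] .leaf) 654 [5, 6, 3, 4, 2, 3, 0, 1, 2, 3, 6] (.node .leaf 655 [1, 2, 3, 6, 2, 3, 0, 1, 2, 3, 6] .leaf)) 656 [3, 2, 3, 6, 2, 3, 0, 1, 2, 3, 6] (.node (.node .leaf 657 [4, 2, 3, 6, 2, 3, 0, 1, 2, 3, 6] .leaf) 658 [5, 2, 3, 6, 2, 3, 0, 1, 2, 3, 6] (.node .leaf 659 [5, 4, 3, 6, 2, 3, 0, 1, 2, 3, 6] .leaf)))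

def lev2T0_87 : WTree := (.node (.node (.node .leaf 661 [0, 1, 2, 3, 1, 2, 3, 1, 2, 3, 6] .leaf) 662 [3, 1, 2, 3, 1, 2, 3, 1, 2, 3, 6] (.node .leaf 663 [4, 1, 2, 3, 1, 2, 3, 1, 2, 3, 6] .leaf)) 664 [6, 1, 2, 3, 1, 2, 3, 1, 2, 3, 6] (.node (.node .leaf 665 [4, 3, 2, 3, 1, 2, 3, 1, 2, 3, 6] .leaf) 666 [6, 3, 2, 3, 1, 2, 3, 1, 2, 3, 6] (.node .leaf 667 [3, 4, 2, 3, 1, 2, 3, 1, 2, 3, 6] .leaf)))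

def lev2T0_88 : WTree := (.node (.node (.node .leaf 669 [6, 4, 2, 3, 1, 2, 3, 1, 2, 3, 6] .leaf) 670 [3, 6, 2, 3, 1, 2, 3, 1, 2, 3, 6] (.node .leaf 671 [5, 6, 2, 3, 1, 2, 3, 1, 2, 3, 6] .leaf)) 672 [2, 3, 4, 3, 1, 2, 3, 1, 2, 3, 6] (.node (.node .leaf 673 [5, 3, 4, 3, 1, 2, 3, 1, 2, 3, 6] .leaf) 674 [6, 3, 4, 3, 1, 2, 3, 1, 2, 3, 6] (.node .leaf 675 [3, 5, 4, 3, 1, 2, 3, 1, 2, 3, 6] .leaf)))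

def lev2T0_89 : WTree := (.node (.node (.node .leaf 677 [3, 6, 5, 3, 1, 2, 3, 1, 2, 3, 6] .leaf) 678 [3, 5, 6, 3, 1, 2, 3, 1, 2, 3, 6] (.node .leaf 679 [1, 2, 3, 4, 1, 2, 3, 1, 2, 3, 6] .leaf)) 680 [3, 2, 3, 4, 1, 2, 3, 1, 2, 3, 6] (.node (.node .leaf 681 [5, 2, 3, 4, 1, 2, 3, 1, 2, 3, 6] .leaf) 682 [6, 2, 3, 4, 1, 2, 3, 1, 2, 3, 6] (.node .leaf 683 [6, 5, 3, 4, 1, 2, 3, 1, 2, 3, 6] .leaf)))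

def lev2T0_90 : WTree := (.node (.node (.node .leaf 685 [3, 0, 1, 2, 3, 2, 3, 1, 2, 3, 6] .leaf) 686 [5, 0, 1, 2, 3, 2, 3, 1, 2, 3, 6] (.node .leaf 687 [6, 0, 1, 2, 3, 2, 3, 1, 2, 3, 6] .leaf)) 688 [2, 3, 1, 2, 3, 2, 3, 1, 2, 3, 6] (.node (.node .leaf 689 [4, 3, 1, 2, 3, 2, 3, 1, 2, 3, 6] .leaf) 690 [5, 3, 1, 2, 3, 2, 3, 1, 2, 3, 6] (.node .leaf 691 [6, 3, 1, 2, 3, 2, 3, 1, 2, 3, 6] .leaf)))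

def lev2T0_91 : WTree := (.node (.node (.node .leaf 693 [5, 4, 1, 2, 3, 2, 3, 1, 2, 3, 6] .leaf) 694 [6, 4, 1, 2, 3, 2, 3, 1, 2, 3, 6] (.node .leaf 695 [3, 5, 1, 2, 3, 2, 3, 1, 2, 3, 6] .leaf)) 696 [3, 6, 1, 2, 3, 2, 3, 1, 2, 3, 6] (.node (.node .leaf 697 [5, 6, 1, 2, 3, 2, 3, 1, 2, 3, 6] .leaf) 698 [3, 4, 3, 2, 3, 2, 3, 1, 2, 3, 6] (.node .leaf 699 [5, 4, 3, 2, 3, 2, 3, 1, 2, 3, 6] .leaf)))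

def lev2T0_92 : WTree := (.node (.node (.node .leaf 701 [3, 5, 3, 2, 3, 2, 3, 1, 2, 3, 6] .leaf) 702 [6, 5, 3, 2, 3, 2, 3, 1, 2, 3, 6] (.node .leaf 703 [3, 6, 3, 2, 3, 2, 3, 1, 2, 3, 6] .leaf)) 704 [5, 6, 3, 2, 3, 2, 3, 1, 2, 3, 6] (.node (.node .leaf 705 [5, 3, 4, 2, 3, 2, 3, 1, 2, 3, 6] .leaf) 706 [3, 5, 4, 2, 3, 2, 3, 1, 2, 3, 6] (.node .leaf 707 [2, 3, 5, 2, 3, 2, 3, 1, 2, 3, 6] .leaf)))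

def lev2T0_93 : WTree := (.node (.node (.node .leaf 709 [6, 3, 5, 2, 3, 2, 3, 1, 2, 3, 6] .leaf) 710 [3, 6, 5, 2, 3, 2, 3, 1, 2, 3, 6] (.node .leaf 711 [2, 3, 6, 2, 3, 2, 3, 1, 2, 3, 6] .leaf)) 712 [5, 3, 6, 2, 3, 2, 3, 1, 2, 3, 6] (.node (.node .leaf 713 [3, 5, 6, 2, 3, 2, 3, 1, 2, 3, 6] .leaf) 714 [3, 2, 3, 4, 3, 2, 3, 1, 2, 3, 6] (.node .leaf 715 [5, 2, 3, 4, 3, 2, 3, 1, 2, 3, 6] .leaf)))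

def lev2T0_94 : WTree := (.node (.node (.node .leaf 717 [3, 5, 3, 4, 3, 2, 3, 1, 2, 3, 6] .leaf) 718 [3, 6, 3, 4, 3, 2, 3, 1, 2, 3, 6] (.node .leaf 719 [2, 3, 5, 4, 3, 2, 3, 1, 2, 3, 6] .leaf)) 720 [6, 3, 5, 4, 3, 2, 3, 1, 2, 3, 6] (.node (.node .leaf 721 [2, 3, 6, 4, 3, 2, 3, 1, 2, 3, 6] .leaf) 722 [5, 3, 6, 4, 3, 2, 3, 1, 2, 3, 6] (.node .leaf 723 [4, 3, 6, 5, 3, 2, 3, 1, 2, 3, 6] .leaf)))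

def lev2T0_95 : WTree := (.node (.node (.node .leaf 725 [2, 3, 5, 6, 3, 2, 3, 1, 2, 3, 6] .leaf) 726 [4, 3, 5, 6, 3, 2, 3, 1, 2, 3, 6] (.node .leaf 727 [6, 3, 5, 6, 3, 2, 3, 1, 2, 3, 6] .leaf)) 728 [5, 1, 2, 3, 4, 2, 3, 1, 2, 3, 6] (.node (.node .leaf 729 [6, 1, 2, 3, 4, 2, 3, 1, 2, 3, 6] .leaf) 730 [4, 3, 2, 3, 4, 2, 3, 1, 2, 3, 6] (.node .leaf 731 [3, 5, 2, 3, 4, 2, 3, 1, 2, 3, 6] .leaf)))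

def lev2T0_96 : WTree := (.node (.node (.node .leaf 733 [3, 6, 5, 3, 4, 2, 3, 1, 2, 3, 6] .leaf) 734 [3, 5, 6, 3, 4, 2, 3, 1, 2, 3, 6] (.node .leaf 735 [2, 3, 2, 3, 6, 4, 3, 1, 2, 3, 6] .leaf)) 736 [4, 3, 2, 3, 6, 4, 3, 1, 2, 3, 6] (.node (.node .leaf 737 [5, 3, 2, 3, 6, 4, 3, 1, 2, 3, 6] .leaf) 738 [6, 3, 2, 3, 6, 4, 3, 1, 2, 3, 6] (.node .leaf 739 [2, 3, 2, 3, 5, 6, 3, 1, 2, 3, 6] .leaf)))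

def lev2T0_97 : WTree := (.node (.node (.node .leaf 741 [2, 3, 5, 1, 2, 3, 0, 1, 2, 3, 2, 1] .leaf) 742 [4, 3, 5, 1, 2, 3, 0, 1, 2, 3, 2, 1] (.node .leaf 743 [6, 3, 5, 1, 2, 3, 0, 1, 2, 3, 2, 1] .leaf)) 744 [2, 3, 6, 1, 2, 3, 0, 1, 2, 3, 2, 1] (.node (.node .leaf 745 [4, 3, 6, 1, 2, 3, 0, 1, 2, 3, 2, 1] .leaf) 746 [5, 3, 6, 1, 2, 3, 0, 1, 2, 3, 2, 1] (.node .leaf 747 [1, 2, 3, 5, 2, 3, 0, 1, 2, 3, 2, 1] .leaf)))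

def lev2T0_98 : WTree := (.node (.node (.node .leaf 749 [4, 2, 3, 5, 2, 3, 0, 1, 2, 3, 2, 1] .leaf) 750 [6, 2, 3, 5, 2, 3, 0, 1, 2, 3, 2, 1] (.node .leaf 751 [6, 4, 3, 5, 2, 3, 0, 1, 2, 3, 2, 1] .leaf)) 752 [3, 6, 3, 5, 2, 3, 0, 1, 2, 3, 2, 1] (.node (.node .leaf 753 [5, 6, 3, 5, 2, 3, 0, 1, 2, 3, 2, 1] .leaf) 754 [2, 3, 6, 5, 2, 3, 0, 1, 2, 3, 2, 1] (.node .leaf 755 [4, 3, 6, 5, 2, 3, 0, 1, 2, 3, 2, 1] .leaf)))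

def lev2T0_99 : WTree := (.node (.node (.node .leaf 757 [3, 2, 3, 6, 2, 3, 0, 1, 2, 3, 2, 1] .leaf) 758 [4, 2, 3, 6, 2, 3, 0, 1, 2, 3, 2, 1] (.node .leaf 759 [5, 4, 3, 6, 2, 3, 0, 1, 2, 3, 2, 1] .leaf)) 760 [3, 5, 3, 6, 2, 3, 0, 1, 2, 3, 2, 1] (.node (.node .leaf 761 [6, 5, 3, 6, 2, 3, 0, 1, 2, 3, 2, 1] .leaf) 762 [2, 3, 5, 6, 2, 3, 0, 1, 2, 3, 2, 1] (.node .leaf 763 [4, 3, 5, 6, 2, 3, 0, 1, 2, 3, 2, 1] .leaf)))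

def lev2T0_100 : WTree := (.node (.node (.node .leaf 765 [1, 2, 3, 5, 4, 3, 0, 1, 2, 3, 2, 1] .leaf) 766 [3, 2, 3, 5, 4, 3, 0, 1, 2, 3, 2, 1] (.node .leaf 767 [6, 2, 3, 5, 4, 3, 0, 1, 2, 3, 2, 1] .leaf)) 768 [3, 2, 3, 6, 4, 3, 0, 1, 2, 3, 2, 1] (.node (.node .leaf 769 [2, 3, 2, 3, 5, 3, 0, 1, 2, 3, 2, 1] .leaf) 770 [4, 3, 2, 3, 5, 3, 0, 1, 2, 3, 2, 1] (.node .leaf 771 [5, 3, 2, 3, 5, 3, 0, 1, 2, 3, 2, 1] .leaf)))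

def lev2T0_101 : WTree := (.node (.node (.node (.node lev2T0_85 652 [6, 2, 3, 4, 2, 3, 0, 1, 2, 3, 6] lev2T0_86) 660 [6, 5, 3, 6, 2, 3, 0, 1, 2, 3, 6] (.node lev2T0_87 668 [5, 4, 2, 3, 1, 2, 3, 1, 2, 3, 6] lev2T0_88)) 676 [3, 6, 4, 3, 1, 2, 3, 1, 2, 3, 6] (.node (.node lev2T0_89 684 [5, 6, 3, 4, 1, 2, 3, 1, 2, 3, 6] lev2T0_90) 692 [3, 4, 1, 2, 3, 2, 3, 1, 2, 3, 6] (.node lev2T0_91 700 [6, 4, 3, 2, 3, 2, 3, 1, 2, 3, 6] lev2T0_92))) 708 [4, 3, 5, 2, 3, 2, 3, 1, 2, 3, 6] (.node (.node (.node lev2T0_93 716 [6, 2, 3, 4, 3, 2, 3, 1, 2, 3, 6] lev2T0_94) 724 [5, 3, 6, 5, 3, 2, 3, 1, 2, 3, 6] (.node lev2T0_95 732 [5, 6, 2, 3, 4, 2, 3, 1, 2, 3, 6] lev2T0_96)) 740 [6, 3, 2, 3, 5, 6, 3, 1, 2, 3, 6] (.node (.node lev2T0_97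 748 [3, 2, 3, 5, 2, 3, 0, 1, 2, 3, 2, 1] lev2T0_98) 756 [5, 3, 6, 5, 2, 3, 0, 1, 2, 3, 2, 1] (.node lev2T0_99 764 [6, 3, 5, 6, 2, 3, 0, 1, 2, 3, 2, 1] lev2T0_100))))

def lev2T0_102 : WTree := (.node (.node (.node (.node .leaf 773 [3, 2, 3, 5, 6, 3, 0, 1, 2, 3, 2, 1] .leaf) 774 [4, 3, 1, 2, 3, 5, 0, 1, 2, 3, 2, 1] .leaf) 775 [5, 3, 1, 2, 3, 5, 0, 1, 2, 3, 2, 1] (.node .leaf 776 [1, 2, 3, 2, 3, 5, 0, 1, 2, 3, 2, 1] .leaf)) 777 [4, 2, 3, 2, 3, 5, 0, 1, 2, 3, 2, 1] (.node (.node .leaf 778 [5, 2, 3, 2, 3, 5, 0, 1, 2, 3, 2, 1] .leaf) 779 [6, 2, 3, 2, 3, 5, 0, 1, 2, 3, 2, 1] (.node .leaf 780 [5, 4, 3, 2, 3, 5, 0, 1, 2, 3, 2, 1] .leaf)))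

def lev2T0_103 : WTree := (.node (.node (.node .leaf 782 [6, 5, 3, 2, 3, 5, 0, 1, 2, 3, 2, 1] .leaf) 783 [1, 2, 3, 5, 3, 2, 3, 1, 2, 3, 2, 1] (.node .leaf 784 [3, 2, 3, 5, 3, 2, 3, 1, 2, 3, 2, 1] .leaf)) 785 [4, 2, 3, 5, 3, 2, 3, 1, 2, 3, 2, 1] (.node (.node .leaf 786 [6, 2, 3, 5, 3, 2, 3, 1, 2, 3, 2, 1] .leaf) 787 [1, 2, 3, 6, 3, 2, 3, 1, 2, 3, 2, 1] (.node .leaf 788 [3, 2, 3, 6, 3, 2, 3, 1, 2, 3, 2, 1] .leaf)))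

def lev2T0_104 : WTree := (.node (.node (.node .leaf 790 [5, 2, 3, 6, 3, 2, 3, 1, 2, 3, 2, 1] .leaf) 791 [0, 1, 2, 3, 5, 2, 3, 1, 2, 3, 2, 1] (.node .leaf 792 [3, 1, 2, 3, 5, 2, 3, 1, 2, 3, 2, 1] .leaf)) 793 [4, 1, 2, 3, 5, 2, 3, 1, 2, 3, 2, 1] (.node (.node .leaf 794 [6, 1, 2, 3, 5, 2, 3, 1, 2, 3, 2, 1] .leaf) 795 [2, 3, 2, 3, 5, 2, 3, 1, 2, 3, 2, 1] (.node .leaf 796 [4, 3, 2, 3, 5, 2, 3, 1, 2, 3, 2, 1] .leaf)))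

def lev2T0_105 : WTree := (.node (.node (.node .leaf 798 [6, 3, 2, 3, 5, 2, 3, 1, 2, 3, 2, 1] .leaf) 799 [3, 4, 2, 3, 5, 2, 3, 1, 2, 3, 2, 1] (.node .leaf 800 [6, 4, 2, 3, 5, 2, 3, 1, 2, 3, 2, 1] .leaf)) 801 [3, 6, 2, 3, 5, 2, 3, 1, 2, 3, 2, 1] (.node (.node .leaf 802 [3, 6, 4, 3, 5, 2, 3, 1, 2, 3, 2, 1] .leaf) 803 [2, 3, 6, 3, 5, 2, 3, 1, 2, 3, 2, 1] (.node .leaf 804 [4, 3, 6, 3, 5, 2, 3, 1, 2, 3, 2, 1] .leaf)))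

def lev2T0_106 : WTree := (.node (.node (.node .leaf 806 [3, 5, 6, 3, 5, 2, 3, 1, 2, 3, 2, 1] .leaf) 807 [1, 2, 3, 6, 5, 2, 3, 1, 2, 3, 2, 1] (.node .leaf 808 [3, 2, 3, 6, 5, 2, 3, 1, 2, 3, 2, 1] .leaf)) 809 [4, 2, 3, 6, 5, 2, 3, 1, 2, 3, 2, 1] (.node (.node .leaf 810 [5, 2, 3, 6, 5, 2, 3, 1, 2, 3, 2, 1] .leaf) 811 [5, 4, 3, 6, 5, 2, 3, 1, 2, 3, 2, 1] (.node .leaf 812 [6, 5, 3, 6, 5, 2, 3, 1, 2, 3, 2, 1] .leaf)))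

def lev2T0_107 : WTree := (.node (.node (.node .leaf 814 [3, 1, 2, 3, 6, 2, 3, 1, 2, 3, 2, 1] .leaf) 815 [4, 1, 2, 3, 6, 2, 3, 1, 2, 3, 2, 1] (.node .leaf 816 [4, 3, 2, 3, 6, 2, 3, 1, 2, 3, 2, 1] .leaf)) 817 [5, 3, 2, 3, 6, 2, 3, 1, 2, 3, 2, 1] (.node (.node .leaf 818 [6, 3, 2, 3, 6, 2, 3, 1, 2, 3, 2, 1] .leaf) 819 [3, 4, 2, 3, 6, 2, 3, 1, 2, 3, 2, 1] (.node .leaf 820 [5, 4, 2, 3, 6, 2, 3, 1, 2, 3, 2, 1] .leaf)))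

def lev2T0_108 : WTree := (.node (.node (.node .leaf 822 [3, 5, 4, 3, 6, 2, 3, 1, 2, 3, 2, 1] .leaf) 823 [2, 3, 5, 3, 6, 2, 3, 1, 2, 3, 2, 1] (.node .leaf 824 [4, 3, 5, 3, 6, 2, 3, 1, 2, 3, 2, 1] .leaf)) 825 [6, 3, 5, 3, 6, 2, 3, 1, 2, 3, 2, 1] (.node (.node .leaf 826 [3, 6, 5, 3, 6, 2, 3, 1, 2, 3, 2, 1] .leaf) 827 [3, 2, 3, 5, 6, 2, 3, 1, 2, 3, 2, 1] (.node .leaf 828 [4, 2, 3, 5, 6, 2, 3, 1, 2, 3, 2, 1] .leaf)))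

def lev2T0_109 : WTree := (.node (.node (.node .leaf 830 [0, 1, 2, 3, 5, 4, 3, 1, 2, 3, 2, 1] .leaf) 831 [3, 1, 2, 3, 5, 4, 3, 1, 2, 3, 2, 1] (.node .leaf 832 [4, 1, 2, 3, 5, 4, 3, 1, 2, 3, 2, 1] .leaf)) 833 [2, 3, 2, 3, 5, 4, 3, 1, 2, 3, 2, 1] (.node (.node .leaf 834 [4, 3, 2, 3, 5, 4, 3, 1, 2, 3, 2, 1] .leaf) 835 [5, 3, 2, 3, 5, 4, 3, 1, 2, 3, 2, 1] (.node .leaf 836 [6, 3, 2, 3, 5, 4, 3, 1, 2, 3, 2, 1] .leaf)))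

def lev2T0_110 : WTree := (.node (.node (.node .leaf 838 [6, 4, 2, 3, 5, 4, 3, 1, 2, 3, 2, 1] .leaf) 839 [3, 6, 2, 3, 5, 4, 3, 1, 2, 3, 2, 1] (.node .leaf 840 [5, 6, 2, 3, 5, 4, 3, 1, 2, 3, 2, 1] .leaf)) 841 [3, 1, 2, 3, 6, 4, 3, 1, 2, 3, 2, 1] (.node (.node .leaf 842 [2, 3, 2, 3, 6, 4, 3, 1, 2, 3, 2, 1] .leaf) 843 [4, 3, 2, 3, 6, 4, 3, 1, 2, 3, 2, 1] (.node .leaf 844 [5, 3, 2, 3, 6, 4, 3, 1, 2, 3, 2, 1] .leaf)))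

def lev2T0_111 : WTree := (.node (.node (.node .leaf 846 [3, 2, 3, 2, 3, 5, 3, 1, 2, 3, 2, 1] .leaf) 847 [3, 4, 3, 2, 3, 5, 3, 1, 2, 3, 2, 1] (.node .leaf 848 [5, 4, 3, 2, 3, 5, 3, 1, 2, 3, 2, 1] .leaf)) 849 [2, 3, 4, 2, 3, 5, 3, 1, 2, 3, 2, 1] (.node (.node .leaf 850 [5, 3, 4, 2, 3, 5, 3, 1, 2, 3, 2, 1] .leaf) 851 [6, 3, 4, 2, 3, 5, 3, 1, 2, 3, 2, 1] (.node .leaf 852 [3, 1, 2, 3, 5, 6, 3, 1, 2, 3, 2, 1] .leaf)))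

def lev2T0_112 : WTree := (.node (.node (.node .leaf 854 [4, 3, 2, 3, 5, 6, 3, 1, 2, 3, 2, 1] .leaf) 855 [5, 3, 2, 3, 5, 6, 3, 1, 2, 3, 2, 1] (.node .leaf 856 [4, 3, 0, 1, 2, 3, 5, 1, 2, 3, 2, 1] .leaf)) 857 [6, 3, 0, 1, 2, 3, 5, 1, 2, 3, 2, 1] (.node (.node .leaf 858 [3, 2, 3, 1, 2, 3, 5, 1, 2, 3, 2, 1] .leaf) 859 [5, 4, 3, 1, 2, 3, 5, 1, 2, 3, 2, 1] (.node .leaf 860 [3, 4, 2, 3, 2, 3, 5, 1, 2, 3, 2, 1] .leaf)))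

def lev2T0_113 : WTree := (.node (.node (.node .leaf 862 [3, 5, 2, 3, 2, 3, 5, 1, 2, 3, 2, 1] .leaf) 863 [3, 6, 2, 3, 2, 3, 5, 1, 2, 3, 2, 1] (.node .leaf 864 [6, 3, 4, 3, 2, 3, 5, 1, 2, 3, 2, 1] .leaf)) 865 [3, 5, 4, 3, 2, 3, 5, 1, 2, 3, 2, 1] (.node (.node .leaf 866 [3, 6, 4, 3, 2, 3, 5, 1, 2, 3, 2, 1] .leaf) 867 [3, 6, 5, 3, 2, 3, 5, 1, 2, 3, 2, 1] (.node .leaf 868 [4, 3, 6, 3, 2, 3, 5, 1, 2, 3, 2, 1] .leaf)))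

def lev2T0_114 : WTree := (.node (.node (.node .leaf 870 [3, 2, 3, 4, 2, 3, 5, 1, 2, 3, 2, 1] .leaf) 871 [3, 2, 3, 6, 2, 3, 5, 1, 2, 3, 2, 1] (.node .leaf 872 [4, 2, 3, 6, 2, 3, 5, 1, 2, 3, 2, 1] .leaf)) 873 [5, 4, 3, 6, 2, 3, 5, 1, 2, 3, 2, 1] (.node (.node .leaf 874 [3, 5, 3, 6, 2, 3, 5, 1, 2, 3, 2, 1] .leaf) 875 [4, 3, 5, 6, 2, 3, 5, 1, 2, 3, 2, 1] (.node .leaf 876 [3, 2, 3, 5, 6, 3, 5, 1, 2, 3, 2, 1] .leaf)))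

def lev2T0_115 : WTree := (.node (.node (.node .leaf 878 [3, 2, 3, 1, 2, 3, 5, 4, 2, 3, 2, 1] .leaf) 879 [3, 2, 3, 4, 1, 2, 3, 5, 2, 3, 2, 1] (.node .leaf 880 [3, 6, 2, 3, 1, 2, 3, 5, 4, 3, 2, 1] .leaf)) 881 [5, 2, 3, 1, 2, 3, 0, 1, 2, 3, 6, 1] (.node (.node .leaf 882 [6, 2, 3, 1, 2, 3, 0, 1, 2, 3, 6, 1] .leaf) 883 [5, 4, 3, 1, 2, 3, 0, 1, 2, 3, 6, 1] (.node .leaf 884 [6, 4, 3, 1, 2, 3, 0, 1, 2, 3, 6, 1] .leaf)))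

def lev2T0_116 : WTree := (.node (.node (.node .leaf 886 [6, 5, 3, 1, 2, 3, 0, 1, 2, 3, 6, 1] .leaf) 887 [3, 6, 3, 1, 2, 3, 0, 1, 2, 3, 6, 1] (.node .leaf 888 [5, 6, 3, 1, 2, 3, 0, 1, 2, 3, 6, 1] .leaf)) 889 [2, 3, 5, 1, 2, 3, 0, 1, 2, 3, 6, 1] (.node (.node .leaf 890 [4, 3, 5, 1, 2, 3, 0, 1, 2, 3, 6, 1] .leaf) 891 [2, 3, 6, 1, 2, 3, 0, 1, 2, 3, 6, 1] (.node .leaf 892 [4, 3, 6, 1, 2, 3, 0, 1, 2, 3, 6, 1] .leaf)))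

def lev2T0_117 : WTree := (.node (.node (.node .leaf 894 [3, 6, 4, 3, 2, 3, 0, 1, 2, 3, 6, 1] .leaf) 895 [2, 3, 5, 3, 2, 3, 0, 1, 2, 3, 6, 1] (.node .leaf 896 [4, 3, 5, 3, 2, 3, 0, 1, 2, 3, 6, 1] .leaf)) 897 [6, 3, 5, 3, 2, 3, 0, 1, 2, 3, 6, 1] (.node (.node .leaf 898 [3, 6, 5, 3, 2, 3, 0, 1, 2, 3, 6, 1] .leaf) 899 [2, 3, 6, 3, 2, 3, 0, 1, 2, 3, 6, 1] (.node .leaf 900 [4, 3, 6, 3, 2, 3, 0, 1, 2, 3, 6, 1] .leaf)))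

def lev2T0_118 : WTree := (.node (.node (.node (.node lev2T0_102 781 [6, 4, 3, 2, 3, 5, 0, 1, 2, 3, 2, 1] lev2T0_103) 789 [4, 2, 3, 6, 3, 2, 3, 1, 2, 3, 2, 1] (.node lev2T0_104 797 [5, 3, 2, 3, 5, 2, 3, 1, 2, 3, 2, 1] lev2T0_105)) 805 [5, 3, 6, 3, 5, 2, 3, 1, 2, 3, 2, 1] (.node (.node lev2T0_106 813 [0, 1, 2, 3, 6, 2, 3, 1, 2, 3, 2, 1] lev2T0_107) 821 [6, 5, 2, 3, 6, 2, 3, 1, 2, 3, 2, 1] (.node lev2T0_108 829 [6, 4, 3, 5, 6, 2, 3, 1, 2, 3, 2, 1] lev2T0_109))) 837 [3, 4, 2, 3, 5, 4, 3, 1, 2, 3, 2, 1] (.node (.node (.node lev2T0_110 845 [6, 3, 2, 3, 6, 4, 3, 1, 2, 3, 2, 1] lev2T0_111) 853 [2, 3, 2, 3, 5, 6, 3, 1, 2, 3, 2, 1] (.node lev2T0_112 861 [5, 4, 2, 3, 2, 3, 5, 1, 2, 3, 2, 1] lev2T0_113)) 869 [3, 5, 6,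 3, 2, 3, 5, 1, 2, 3, 2, 1] (.node (.node lev2T0_114 877 [5, 3, 1, 2, 3, 5, 6, 3, 2, 3, 2, 1] lev2T0_115) 885 [3, 5, 3, 1, 2, 3, 0, 1, 2, 3, 6, 1] (.node lev2T0_116 893 [3, 5, 4, 3, 2, 3, 0, 1, 2, 3, 6, 1] lev2T0_117))))

def lev2T0_119 : WTree := (.node (.node (.node .leaf 902 [3, 5, 6, 3, 2, 3, 0, 1, 2, 3, 6, 1] .leaf) 903 [1, 2, 3, 5, 2, 3, 0, 1, 2, 3, 6, 1] (.node .leaf 904 [3, 2, 3, 5, 2, 3, 0, 1, 2, 3, 6, 1] .leaf)) 905 [4, 2, 3, 5, 2, 3, 0, 1, 2, 3, 6, 1] (.node (.node .leaf 906 [1, 2, 3, 6, 2, 3, 0, 1, 2, 3, 6, 1] .leaf) 907 [3, 2, 3, 6, 2, 3, 0, 1, 2, 3, 6, 1] (.node .leaf 908 [4, 2, 3, 6, 2, 3, 0, 1, 2, 3, 6, 1] .leaf)))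

def lev2T0_120 : WTree := (.node (.node (.node .leaf 910 [6, 4, 3, 2, 3, 5, 0, 1, 2, 3, 6, 1] .leaf) 911 [6, 5, 3, 2, 3, 5, 0, 1, 2, 3, 6, 1] (.node .leaf 912 [5, 0, 1, 2, 3, 2, 3, 1, 2, 3, 6, 1] .leaf)) 913 [6, 0, 1, 2, 3, 2, 3, 1, 2, 3, 6, 1] (.node (.node .leaf 914 [3, 4, 1, 2, 3, 2, 3, 1, 2, 3, 6, 1] .leaf) 915 [5, 4, 1, 2, 3, 2, 3, 1, 2, 3, 6, 1] (.node .leaf 916 [6, 4, 1, 2, 3, 2, 3, 1, 2, 3, 6, 1] .leaf)))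

def lev2T0_121 : WTree := (.node (.node (.node .leaf 918 [5, 6, 1, 2, 3, 2, 3, 1, 2, 3, 6, 1] .leaf) 919 [5, 3, 4, 2, 3, 2, 3, 1, 2, 3, 6, 1] (.node .leaf 920 [3, 5, 4, 2, 3, 2, 3, 1, 2, 3, 6, 1] .leaf)) 921 [2, 3, 5, 2, 3, 2, 3, 1, 2, 3, 6, 1] (.node (.node .leaf 922 [4, 3, 5, 2, 3, 2, 3, 1, 2, 3, 6, 1] .leaf) 923 [3, 5, 6, 2, 3, 2, 3, 1, 2, 3, 6, 1] (.node .leaf 924 [5, 2, 3, 4, 3, 2, 3, 1, 2, 3, 6, 1] .leaf)))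

def lev2T0_122 : WTree := (.node (.node (.node .leaf 926 [3, 5, 3, 4, 3, 2, 3, 1, 2, 3, 6, 1] .leaf) 927 [3, 6, 3, 4, 3, 2, 3, 1, 2, 3, 6, 1] (.node .leaf 928 [2, 3, 5, 4, 3, 2, 3, 1, 2, 3, 6, 1] .leaf)) 929 [4, 3, 5, 4, 3, 2, 3, 1, 2, 3, 6, 1] (.node (.node .leaf 930 [6, 3, 5, 4, 3, 2, 3, 1, 2, 3, 6, 1] .leaf) 931 [2, 3, 6, 4, 3, 2, 3, 1, 2, 3, 6, 1] (.node .leaf 932 [4, 3, 6, 4, 3, 2, 3, 1, 2, 3, 6, 1] .leaf)))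

def lev2T0_123 : WTree := (.node (.node (.node .leaf 934 [1, 2, 3, 5, 3, 2, 3, 1, 2, 3, 6, 1] .leaf) 935 [3, 2, 3, 5, 3, 2, 3, 1, 2, 3, 6, 1] (.node .leaf 936 [4, 2, 3, 5, 3, 2, 3, 1, 2, 3, 6, 1] .leaf)) 937 [6, 2, 3, 5, 3, 2, 3, 1, 2, 3, 6, 1] (.node (.node .leaf 938 [3, 6, 3, 5, 3, 2, 3, 1, 2, 3, 6, 1] .leaf) 939 [2, 3, 6, 5, 3, 2, 3, 1, 2, 3, 6, 1] (.node .leaf 940 [4, 3, 6, 5, 3, 2, 3, 1, 2, 3, 6, 1] .leaf)))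

def lev2T0_124 : WTree := (.node (.node (.node .leaf 942 [3, 2, 3, 6, 3, 2, 3, 1, 2, 3, 6, 1] .leaf) 943 [4, 2, 3, 6, 3, 2, 3, 1, 2, 3, 6, 1] (.node .leaf 944 [5, 2, 3, 6, 3, 2, 3, 1, 2, 3, 6, 1] .leaf)) 945 [3, 5, 3, 6, 3, 2, 3, 1, 2, 3, 6, 1] (.node (.node .leaf 946 [2, 3, 5, 6, 3, 2, 3, 1, 2, 3, 6, 1] .leaf) 947 [4, 3, 5, 6, 3, 2, 3, 1, 2, 3, 6, 1] (.node .leaf 948 [5, 1, 2, 3, 4, 2, 3, 1, 2, 3, 6, 1] .leaf)))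

def lev2T0_125 : WTree := (.node (.node (.node .leaf 950 [3, 5, 2, 3, 4, 2, 3, 1, 2, 3, 6, 1] .leaf) 951 [6, 5, 2, 3, 4, 2, 3, 1, 2, 3, 6, 1] (.node .leaf 952 [2, 3, 5, 3, 4, 2, 3, 1, 2, 3, 6, 1] .leaf)) 953 [3, 6, 5, 3, 4, 2, 3, 1, 2, 3, 6, 1] (.node (.node .leaf 954 [2, 3, 6, 3, 4, 2, 3, 1, 2, 3, 6, 1] .leaf) 955 [3, 5, 6, 3, 4, 2, 3, 1, 2, 3, 6, 1] (.node .leaf 956 [1, 2, 3, 5, 4, 2, 3, 1, 2, 3, 6, 1] .leaf)))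

def lev2T0_126 : WTree := (.node (.node (.node .leaf 958 [4, 2, 3, 5, 4, 2, 3, 1, 2, 3, 6, 1] .leaf) 959 [1, 2, 3, 6, 4, 2, 3, 1, 2, 3, 6, 1] (.node .leaf 960 [3, 2, 3, 6, 4, 2, 3, 1, 2, 3, 6, 1] .leaf)) 961 [4, 2, 3, 6, 4, 2, 3, 1, 2, 3, 6, 1] (.node (.node .leaf 962 [0, 1, 2, 3, 5, 2, 3, 1, 2, 3, 6, 1] .leaf) 963 [3, 1, 2, 3, 5, 2, 3, 1, 2, 3, 6, 1] (.node .leaf 964 [4, 1, 2, 3, 5, 2, 3, 1, 2, 3, 6, 1] .leaf)))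

def lev2T0_127 : WTree := (.node (.node (.node .leaf 966 [4, 3, 2, 3, 5, 2, 3, 1, 2, 3, 6, 1] .leaf) 967 [5, 3, 2, 3, 5, 2, 3, 1, 2, 3, 6, 1] (.node .leaf 968 [6, 3, 2, 3, 5, 2, 3, 1, 2, 3, 6, 1] .leaf)) 969 [3, 4, 2, 3, 5, 2, 3, 1, 2, 3, 6, 1] (.node (.node .leaf 970 [0, 1, 2, 3, 6, 2, 3, 1, 2, 3, 6, 1] .leaf) 971 [3, 1, 2, 3, 6, 2, 3, 1, 2, 3, 6, 1] (.node .leaf 972 [4, 1, 2, 3, 6, 2, 3, 1, 2, 3, 6, 1] .leaf)))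

def lev2T0_128 : WTree := (.node (.node (.node .leaf 974 [3, 4, 2, 3, 6, 2, 3, 1, 2, 3, 6, 1] .leaf) 975 [2, 3, 2, 3, 6, 4, 3, 1, 2, 3, 6, 1] (.node .leaf 976 [4, 3, 2, 3, 6, 4, 3, 1, 2, 3, 6, 1] .leaf)) 977 [5, 3, 2, 3, 6, 4, 3, 1, 2, 3, 6, 1] (.node (.node .leaf 978 [6, 3, 2, 3, 6, 4, 3, 1, 2, 3, 6, 1] .leaf) 979 [5, 3, 4, 3, 2, 3, 5, 1, 2, 3, 6, 1] (.node .leaf 980 [6, 3, 4, 3, 2, 3, 5, 1, 2, 3, 6, 1] .leaf)))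

def lev2T0_129 : WTree := (.node (.node (.node .leaf 982 [3, 6, 4, 3, 2, 3, 5, 1, 2, 3, 6, 1] .leaf) 983 [3, 6, 5, 3, 2, 3, 5, 1, 2, 3, 6, 1] (.node .leaf 984 [4, 3, 6, 3, 2, 3, 5, 1, 2, 3, 6, 1] .leaf)) 985 [5, 3, 6, 3, 2, 3, 5, 1, 2, 3, 6, 1] (.node (.node .leaf 986 [3, 5, 6, 3, 2, 3, 5, 1, 2, 3, 6, 1] .leaf) 987 [5, 2, 3, 4, 2, 3, 5, 1, 2, 3, 6, 1] (.node .leaf 988 [6, 5, 3, 4, 2, 3, 5, 1, 2, 3, 6, 1] .leaf)))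

def lev2T0_130 : WTree := (.node (.node (.node .leaf 990 [6, 5, 3, 6, 2, 3, 5, 1, 2, 3, 6, 1] .leaf) 991 [2, 3, 2, 3, 1, 2, 3, 0, 1, 2, 3, 6] (.node .leaf 992 [4, 3, 2, 3, 1, 2, 3, 0, 1, 2, 3, 6] .leaf)) 993 [5, 3, 2, 3, 1, 2, 3, 0, 1, 2, 3, 6] (.node (.node .leaf 994 [3, 4, 2, 3, 1, 2, 3, 0, 1, 2, 3, 6] .leaf) 995 [3, 5, 2, 3, 1, 2, 3, 0, 1, 2, 3, 6] (.node .leaf 996 [3, 5, 4, 3, 1, 2, 3, 0, 1, 2, 3, 6] .leaf)))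

def lev2T0_131 : WTree := (.node (.node (.node .leaf 998 [3, 6, 5, 3, 1, 2, 3, 0, 1, 2, 3, 6] .leaf) 999 [5, 0, 1, 2, 3, 2, 3, 0, 1, 2, 3, 6] (.node .leaf 1000 [3, 4, 1, 2, 3, 2, 3, 0, 1, 2, 3, 6] .leaf)) 1001 [3, 5, 1, 2, 3, 2, 3, 0, 1, 2, 3, 6] (.node (.node .leaf 1002 [5, 3, 4, 2, 3, 2, 3, 0, 1, 2, 3, 6] .leaf) 1003 [3, 5, 4, 2, 3, 2, 3, 0, 1, 2, 3, 6] (.node .leaf 1004 [4, 3, 5, 2, 3, 2, 3, 0, 1, 2, 3, 6] .leaf)))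

def lev2T0_132 : WTree := (.node (.node (.node .leaf 1006 [2, 3, 6, 2, 3, 2, 3, 0, 1, 2, 3, 6] .leaf) 1007 [5, 3, 6, 2, 3, 2, 3, 0, 1, 2, 3, 6] (.node .leaf 1008 [5, 2, 3, 4, 3, 2, 3, 0, 1, 2, 3, 6] .leaf)) 1009 [6, 2, 3, 4, 3, 2, 3, 0, 1, 2, 3, 6] (.node (.node .leaf 1010 [3, 5, 3, 4, 3, 2, 3, 0, 1, 2, 3, 6] .leaf) 1011 [3, 6, 3, 4, 3, 2, 3, 0, 1, 2, 3, 6] (.node .leaf 1012 [2, 3, 5, 4, 3, 2, 3, 0, 1, 2, 3, 6] .leaf)))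

def lev2T0_133 : WTree := (.node (.node (.node .leaf 1014 [4, 3, 6, 4, 3, 2, 3, 0, 1, 2, 3, 6] .leaf) 1015 [5, 3, 6, 4, 3, 2, 3, 0, 1, 2, 3, 6] (.node .leaf 1016 [4, 3, 6, 5, 3, 2, 3, 0, 1, 2, 3, 6] .leaf)) 1017 [5, 3, 6, 5, 3, 2, 3, 0, 1, 2, 3, 6] (.node (.node .leaf 1018 [3, 2, 3, 6, 3, 2, 3, 0, 1, 2, 3, 6] .leaf) 1019 [3, 5, 3, 6, 3, 2, 3, 0, 1, 2, 3, 6] (.node .leaf 1020 [2, 3, 5, 6, 3, 2, 3, 0, 1, 2, 3, 6] .leaf)))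

def lev2T0_134 : WTree := (.node (.node (.node .leaf 1022 [6, 3, 5, 6, 3, 2, 3, 0, 1, 2, 3, 6] .leaf) 1023 [6, 1, 2, 3, 4, 2, 3, 0, 1, 2, 3, 6] (.node .leaf 1024 [3, 5, 2, 3, 4, 2, 3, 0, 1, 2, 3, 6] .leaf)) 1025 [5, 6, 2, 3, 4, 2, 3, 0, 1, 2, 3, 6] (.node (.node .leaf 1026 [3, 6, 5, 3, 4, 2, 3, 0, 1, 2, 3, 6] .leaf) 1027 [3, 5, 6, 3, 4, 2, 3, 0, 1, 2, 3, 6] (.node .leaf 1028 [3, 1, 2, 3, 6, 2, 3, 0, 1, 2, 3, 6] .leaf)))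

def lev2T0_135 : WTree := (.node (.node (.node (.node lev2T0_119 909 [5, 4, 3, 2, 3, 5, 0, 1, 2, 3, 6, 1] lev2T0_120) 917 [3, 6, 1, 2, 3, 2, 3, 1, 2, 3, 6, 1] (.node lev2T0_121 925 [6, 2, 3, 4, 3, 2, 3, 1, 2, 3, 6, 1] lev2T0_122)) 933 [5, 3, 6, 4, 3, 2, 3, 1, 2, 3, 6, 1] (.node (.node lev2T0_123 941 [1, 2, 3, 6, 3, 2, 3, 1, 2, 3, 6, 1] lev2T0_124) 949 [6, 1, 2, 3, 4, 2, 3, 1, 2, 3, 6, 1] (.node lev2T0_125 957 [3, 2, 3, 5, 4, 2, 3, 1, 2, 3, 6, 1] lev2T0_126))) 965 [2, 3, 2, 3, 5, 2, 3, 1, 2, 3, 6, 1] (.node (.node (.node lev2T0_127 973 [5, 3, 2, 3, 6, 2, 3, 1, 2, 3, 6, 1] lev2T0_128) 981 [3, 5, 4, 3, 2, 3, 5, 1, 2, 3, 6, 1] (.node lev2T0_129 989 [5, 6, 3, 4, 2, 3, 5, 1, 2, 3, 6, 1] lev2T0_130)) 997 [3, 6, 4,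 3, 1, 2, 3, 0, 1, 2, 3, 6] (.node (.node lev2T0_131 1005 [3, 6, 5, 2, 3, 2, 3, 0, 1, 2, 3, 6] lev2T0_132) 1013 [6, 3, 5, 4, 3, 2, 3, 0, 1, 2, 3, 6] (.node lev2T0_133 1021 [4, 3, 5, 6, 3, 2, 3, 0, 1, 2, 3, 6] lev2T0_134))))

def lev2T0_136 : WTree := (.node (.node (.node (.node .leaf 1030 [3, 4, 2, 3, 6, 2, 3, 0, 1, 2, 3, 6] .leaf) 1031 [5, 4, 2, 3, 6, 2, 3, 0, 1, 2, 3, 6] .leaf) 1032 [3, 5, 4, 3, 6, 2, 3, 0, 1, 2, 3, 6] (.node .leaf 1033 [3, 6, 5, 3, 6, 2, 3, 0, 1, 2, 3, 6] .leaf)) 1034 [3, 0, 1, 2, 3, 1, 2, 3, 1, 2, 3, 6] (.node (.node .leaf 1035 [2, 3, 1, 2, 3, 1, 2, 3, 1, 2, 3, 6] .leaf) 1036 [4, 3, 1, 2, 3, 1, 2, 3, 1, 2, 3, 6] (.node .leaf 1037 [6, 3, 1, 2, 3, 1, 2, 3, 1, 2, 3, 6] .leaf)))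

def lev2T0_137 : WTree := (.node (.node (.node .leaf 1039 [3, 6, 1, 2, 3, 1, 2, 3, 1, 2, 3, 6] .leaf) 1040 [3, 4, 3, 2, 3, 1, 2, 3, 1, 2, 3, 6] (.node .leaf 1041 [3, 6, 3, 2, 3, 1, 2, 3, 1, 2, 3, 6] .leaf)) 1042 [2, 3, 4, 2, 3, 1, 2, 3, 1, 2, 3, 6] (.node (.node .leaf 1043 [5, 3, 4, 2, 3, 1, 2, 3, 1, 2, 3, 6] .leaf) 1044 [6, 3, 4, 2, 3, 1, 2, 3, 1, 2, 3, 6] (.node .leaf 1045 [3, 5, 4, 2, 3, 1, 2, 3, 1, 2, 3, 6] .leaf)))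

def lev2T0_138 : WTree := (.node (.node (.node .leaf 1047 [4, 3, 6, 2, 3, 1, 2, 3, 1, 2, 3, 6] .leaf) 1048 [5, 3, 6, 2, 3, 1, 2, 3, 1, 2, 3, 6] (.node .leaf 1049 [3, 2, 3, 4, 3, 1, 2, 3, 1, 2, 3, 6] .leaf)) 1050 [6, 2, 3, 4, 3, 1, 2, 3, 1, 2, 3, 6] (.node (.node .leaf 1051 [3, 5, 3, 4, 3, 1, 2, 3, 1, 2, 3, 6] .leaf) 1052 [3, 6, 3, 4, 3, 1, 2, 3, 1, 2, 3, 6] (.node .leaf 1053 [2, 3, 5, 4, 3, 1, 2, 3, 1, 2, 3, 6] .leaf)))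

def lev2T0_139 : WTree := (.node (.node (.node .leaf 1055 [2, 3, 6, 4, 3, 1, 2, 3, 1, 2, 3, 6] .leaf) 1056 [5, 3, 6, 4, 3, 1, 2, 3, 1, 2, 3, 6] (.node .leaf 1057 [4, 3, 6, 5, 3, 1, 2, 3, 1, 2, 3, 6] .leaf)) 1058 [5, 3, 6, 5, 3, 1, 2, 3, 1, 2, 3, 6] (.node (.node .leaf 1059 [2, 3, 5, 6, 3, 1, 2, 3, 1, 2, 3, 6] .leaf) 1060 [4, 3, 5, 6, 3, 1, 2, 3, 1, 2, 3, 6] (.node .leaf 1061 [6, 3, 5, 6, 3, 1, 2, 3, 1, 2, 3, 6] .leaf)))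

def lev2T0_140 : WTree := (.node (.node (.node .leaf 1063 [4, 3, 2, 3, 4, 1, 2, 3, 1, 2, 3, 6] .leaf) 1064 [5, 3, 2, 3, 4, 1, 2, 3, 1, 2, 3, 6] (.node .leaf 1065 [3, 5, 2, 3, 4, 1, 2, 3, 1, 2, 3, 6] .leaf)) 1066 [3, 6, 5, 3, 4, 1, 2, 3, 1, 2, 3, 6] (.node (.node .leaf 1067 [5, 3, 0, 1, 2, 3, 2, 3, 1, 2, 3, 6] .leaf) 1068 [6, 3, 0, 1, 2, 3, 2, 3, 1, 2, 3, 6] (.node .leaf 1069 [3, 5, 0, 1, 2, 3, 2, 3, 1, 2, 3, 6] .leaf)))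

def lev2T0_141 : WTree := (.node (.node (.node .leaf 1071 [5, 2, 3, 1, 2, 3, 2, 3, 1, 2, 3, 6] .leaf) 1072 [6, 2, 3, 1, 2, 3, 2, 3, 1, 2, 3, 6] (.node .leaf 1073 [3, 4, 3, 1, 2, 3, 2, 3, 1, 2, 3, 6] .leaf)) 1074 [5, 4, 3, 1, 2, 3, 2, 3, 1, 2, 3, 6] (.node (.node .leaf 1075 [6, 4, 3, 1, 2, 3, 2, 3, 1, 2, 3, 6] .leaf) 1076 [3, 5, 3, 1, 2, 3, 2, 3, 1, 2, 3, 6] (.node .leaf 1077 [6, 5, 3, 1, 2, 3, 2, 3, 1, 2, 3, 6] .leaf)))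

def lev2T0_142 : WTree := (.node (.node (.node .leaf 1079 [5, 6, 3, 1, 2, 3, 2, 3, 1, 2, 3, 6] .leaf) 1080 [3, 5, 4, 1, 2, 3, 2, 3, 1, 2, 3, 6] (.node .leaf 1081 [2, 3, 5, 1, 2, 3, 2, 3, 1, 2, 3, 6] .leaf)) 1082 [4, 3, 5, 1, 2, 3, 2, 3, 1, 2, 3, 6] (.node (.node .leaf 1083 [6, 3, 5, 1, 2, 3, 2, 3, 1, 2, 3, 6] .leaf) 1084 [2, 3, 6, 1, 2, 3, 2, 3, 1, 2, 3, 6] (.node .leaf 1085 [5, 3, 4, 3, 2, 3, 2, 3, 1, 2, 3, 6] .leaf)))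

def lev2T0_143 : WTree := (.node (.node (.node .leaf 1087 [2, 3, 5, 3, 2, 3, 2, 3, 1, 2, 3, 6] .leaf) 1088 [4, 3, 5, 3, 2, 3, 2, 3, 1, 2, 3, 6] (.node .leaf 1089 [6, 3, 5, 3, 2, 3, 2, 3, 1, 2, 3, 6] .leaf)) 1090 [3, 5, 3, 4, 2, 3, 2, 3, 1, 2, 3, 6] (.node (.node .leaf 1091 [2, 3, 5, 4, 2, 3, 2, 3, 1, 2, 3, 6] .leaf) 1092 [4, 3, 5, 4, 2, 3, 2, 3, 1, 2, 3, 6] (.node .leaf 1093 [1, 2, 3, 5, 2, 3, 2, 3, 1, 2, 3, 6] .leaf)))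

def lev2T0_144 : WTree := (.node (.node (.node .leaf 1095 [6, 4, 3, 5, 2, 3, 2, 3, 1, 2, 3, 6] .leaf) 1096 [5, 6, 3, 5, 2, 3, 2, 3, 1, 2, 3, 6] (.node .leaf 1097 [4, 3, 6, 5, 2, 3, 2, 3, 1, 2, 3, 6] .leaf)) 1098 [1, 2, 3, 6, 2, 3, 2, 3, 1, 2, 3, 6] (.node (.node .leaf 1099 [3, 2, 3, 6, 2, 3, 2, 3, 1, 2, 3, 6] .leaf) 1100 [5, 3, 2, 3, 4, 3, 2, 3, 1, 2, 3, 6] (.node .leaf 1101 [6, 3, 2, 3, 4, 3, 2, 3, 1, 2, 3, 6] .leaf)))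

def lev2T0_145 : WTree := (.node (.node (.node .leaf 1103 [2, 3, 6, 3, 4, 3, 2, 3, 1, 2, 3, 6] .leaf) 1104 [5, 3, 6, 3, 4, 3, 2, 3, 1, 2, 3, 6] (.node .leaf 1105 [1, 2, 3, 5, 4, 3, 2, 3, 1, 2, 3, 6] .leaf)) 1106 [1, 2, 3, 6, 4, 3, 2, 3, 1, 2, 3, 6] (.node (.node .leaf 1107 [6, 5, 3, 6, 4, 3, 2, 3, 1, 2, 3, 6] .leaf) 1108 [5, 4, 3, 6, 5, 3, 2, 3, 1, 2, 3, 6] (.node .leaf 1109 [6, 5, 3, 6, 5, 3, 2, 3, 1, 2, 3, 6] .leaf)))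

def lev2T0_146 : WTree := (.node (.node (.node .leaf 1111 [3, 2, 3, 5, 6, 3, 2, 3, 1, 2, 3, 6] .leaf) 1112 [4, 2, 3, 5, 6, 3, 2, 3, 1, 2, 3, 6] (.node .leaf 1113 [6, 2, 3, 5, 6, 3, 2, 3, 1, 2, 3, 6] .leaf)) 1114 [6, 4, 3, 5, 6, 3, 2, 3, 1, 2, 3, 6] (.node (.node .leaf 1115 [5, 6, 3, 5, 6, 3, 2, 3, 1, 2, 3, 6] .leaf) 1116 [4, 3, 5, 2, 3, 4, 2, 3, 1, 2, 3, 6] (.node .leaf 1117 [2, 3, 6, 5, 3, 4, 2, 3, 1, 2, 3, 6] .leaf)))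

def lev2T0_147 : WTree := (.node (.node (.node .leaf 1119 [5, 3, 6, 5, 3, 4, 2, 3, 1, 2, 3, 6] .leaf) 1120 [4, 3, 5, 6, 3, 4, 2, 3, 1, 2, 3, 6] (.node .leaf 1121 [6, 3, 5, 6, 3, 4, 2, 3, 1, 2, 3, 6] .leaf)) 1122 [1, 2, 3, 2, 3, 6, 4, 3, 1, 2, 3, 6] (.node (.node .leaf 1123 [4, 2, 3, 2, 3, 6, 4, 3, 1, 2, 3, 6] .leaf) 1124 [5, 2, 3, 2, 3, 6, 4, 3, 1, 2, 3, 6] (.node .leaf 1125 [6, 4, 3, 2, 3, 6, 4, 3, 1, 2, 3, 6] .leaf)))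

def lev2T0_148 : WTree := (.node (.node (.node .leaf 1127 [1, 2, 3, 2, 3, 5, 6, 3, 1, 2, 3, 6] .leaf) 1128 [1, 2, 3, 5, 1, 2, 3, 0, 1, 2, 3, 2, 1] (.node .leaf 1129 [3, 2, 3, 5, 1, 2, 3, 0, 1, 2, 3, 2, 1] .leaf)) 1130 [4, 2, 3, 5, 1, 2, 3, 0, 1, 2, 3, 2, 1] (.node (.node .leaf 1131 [6, 2, 3, 5, 1, 2, 3, 0, 1, 2, 3, 2, 1] .leaf) 1132 [3, 2, 3, 6, 1, 2, 3, 0, 1, 2, 3, 2, 1] (.node .leaf 1133 [4, 2, 3, 6, 1, 2, 3, 0, 1, 2, 3, 2, 1] .leaf)))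

def lev2T0_149 : WTree := (.node (.node (.node .leaf 1135 [3, 1, 2, 3, 5, 2, 3, 0, 1, 2, 3, 2, 1] .leaf) 1136 [4, 1, 2, 3, 5, 2, 3, 0, 1, 2, 3, 2, 1] (.node .leaf 1137 [6, 1, 2, 3, 5, 2, 3, 0, 1, 2, 3, 2, 1] .leaf)) 1138 [4, 3, 2, 3, 5, 2, 3, 0, 1, 2, 3, 2, 1] (.node (.node .leaf 1139 [5, 3, 2, 3, 5, 2, 3, 0, 1, 2, 3, 2, 1] .leaf) 1140 [6, 3, 2, 3, 5, 2, 3, 0, 1, 2, 3, 2, 1] (.node .leaf 1141 [3, 4, 2, 3, 5, 2, 3, 0, 1, 2, 3, 2, 1] .leaf)))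

def lev2T0_150 : WTree := (.node (.node (.node .leaf 1143 [3, 6, 2, 3, 5, 2, 3, 0, 1, 2, 3, 2, 1] .leaf) 1144 [3, 6, 4, 3, 5, 2, 3, 0, 1, 2, 3, 2, 1] (.node .leaf 1145 [2, 3, 6, 3, 5, 2, 3, 0, 1, 2, 3, 2, 1] .leaf)) 1146 [4, 3, 6, 3, 5, 2, 3, 0, 1, 2, 3, 2, 1] (.node (.node .leaf 1147 [5, 3, 6, 3, 5, 2, 3, 0, 1, 2, 3, 2, 1] .leaf) 1148 [3, 5, 6, 3, 5, 2, 3, 0, 1, 2, 3, 2, 1] (.node .leaf 1149 [3, 2, 3, 6, 5, 2, 3, 0, 1, 2, 3, 2, 1] .leaf)))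

def lev2T0_151 : WTree := (.node (.node (.node .leaf 1151 [5, 4, 3, 6, 5, 2, 3, 0, 1, 2, 3, 2, 1] .leaf) 1152 [3, 4, 2, 3, 6, 2, 3, 0, 1, 2, 3, 2, 1] (.node .leaf 1153 [3, 5, 4, 3, 6, 2, 3, 0, 1, 2, 3, 2, 1] .leaf)) 1154 [2, 3, 5, 3, 6, 2, 3, 0, 1, 2, 3, 2, 1] (.node (.node .leaf 1155 [4, 3, 5, 3, 6, 2, 3, 0, 1, 2, 3, 2, 1] .leaf) 1156 [6, 3, 5, 3, 6, 2, 3, 0, 1, 2, 3, 2, 1] (.node .leaf 1157 [3, 6, 5, 3, 6, 2, 3, 0, 1, 2, 3, 2, 1] .leaf)))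

def lev2T0_152 : WTree := (.node (.node (.node (.node lev2T0_136 1038 [3, 4, 1, 2, 3, 1, 2, 3, 1, 2, 3, 6] lev2T0_137) 1046 [2, 3, 6, 2, 3, 1, 2, 3, 1, 2, 3, 6] (.node lev2T0_138 1054 [6, 3, 5, 4, 3, 1, 2, 3, 1, 2, 3, 6] lev2T0_139)) 1062 [3, 1, 2, 3, 4, 1, 2, 3, 1, 2, 3, 6] (.node (.node lev2T0_140 1070 [3, 6, 0, 1, 2, 3, 2, 3, 1, 2, 3, 6] lev2T0_141) 1078 [3, 6, 3, 1, 2, 3, 2, 3, 1, 2, 3, 6] (.node lev2T0_142 1086 [3, 5, 4, 3, 2, 3, 2, 3, 1, 2, 3, 6] lev2T0_143))) 1094 [4, 2, 3, 5, 2, 3, 2, 3, 1, 2, 3, 6] (.node (.node (.node lev2T0_144 1102 [3, 5, 2, 3, 4, 3, 2, 3, 1, 2, 3, 6] lev2T0_145) 1110 [1, 2, 3, 5, 6, 3, 2, 3, 1, 2, 3, 6] (.node lev2T0_146 1118 [4, 3, 6, 5, 3, 4, 2, 3, 1, 2, 3, 6] lev2T0_147)) 1126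 [6, 5, 3, 2, 3, 6, 4, 3, 1, 2, 3, 6] (.node (.node lev2T0_148 1134 [0, 1, 2, 3, 5, 2, 3, 0, 1, 2, 3, 2, 1] lev2T0_149) 1142 [6, 4, 2, 3, 5, 2, 3, 0, 1, 2, 3, 2, 1] (.node lev2T0_150 1150 [4, 2, 3, 6, 5, 2, 3, 0, 1, 2, 3, 2, 1] lev2T0_151))))

def lev2T0_153 : WTree := (.node (.node (.node (.node .leaf 1159 [4, 2, 3, 5, 6, 2, 3, 0, 1, 2, 3, 2, 1] .leaf) 1160 [6, 4, 3, 5, 6, 2, 3, 0, 1, 2, 3, 2, 1] .leaf) 1161 [3, 1, 2, 3, 5, 4, 3, 0, 1, 2, 3, 2, 1] (.node .leaf 1162 [2, 3, 2, 3, 5, 4, 3, 0, 1, 2, 3, 2, 1] .leaf)) 1163 [4, 3, 2, 3, 5, 4, 3, 0, 1, 2, 3, 2, 1] (.node (.node .leaf 1164 [5, 3, 2, 3, 5, 4, 3, 0, 1, 2, 3, 2, 1] .leaf) 1165 [6, 3, 2, 3, 5, 4, 3, 0, 1, 2, 3, 2, 1] (.node .leaf 1166 [3, 6, 2, 3, 5, 4,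 3, 0, 1, 2, 3, 2, 1] .leaf)))

def lev2T0_154 : WTree := (.node (.node (.node .leaf 1168 [4, 3, 2, 3, 6, 4, 3, 0, 1, 2, 3, 2, 1] .leaf) 1169 [5, 3, 2, 3, 6, 4, 3, 0, 1, 2, 3, 2, 1] (.node .leaf 1170 [6, 3, 2, 3, 6, 4, 3, 0, 1, 2, 3, 2, 1] .leaf)) 1171 [5, 4, 3, 2, 3, 5, 3, 0, 1, 2, 3, 2, 1] (.node (.node .leaf 1172 [2, 3, 2, 3, 5, 6, 3, 0, 1, 2, 3, 2, 1] .leaf) 1173 [4, 3, 2, 3, 5, 6, 3, 0, 1, 2, 3, 2, 1] (.node .leaf 1174 [5, 3, 2, 3, 5, 6, 3, 0, 1, 2, 3, 2, 1] .leaf)))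

def lev2T0_155 : WTree := (.node (.node (.node .leaf 1176 [3, 5, 2, 3, 2, 3, 5, 0, 1, 2, 3, 2, 1] .leaf) 1177 [3, 6, 2, 3, 2, 3, 5, 0, 1, 2, 3, 2, 1] (.node .leaf 1178 [3, 5, 4, 3, 2, 3, 5, 0, 1, 2, 3, 2, 1] .leaf)) 1179 [3, 6, 4, 3, 2, 3, 5, 0, 1, 2, 3, 2, 1] (.node (.node .leaf 1180 [3, 6, 5, 3, 2, 3, 5, 0, 1, 2, 3, 2, 1] .leaf) 1181 [3, 1, 2, 3, 5, 3, 2, 3, 1, 2, 3, 2, 1] (.node .leaf 1182 [6, 1, 2, 3, 5, 3, 2, 3, 1, 2, 3, 2, 1] .leaf)))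

def lev2T0_156 : WTree := (.node (.node (.node .leaf 1184 [4, 3, 2, 3, 5, 3, 2, 3, 1, 2, 3, 2, 1] .leaf) 1185 [5, 3, 2, 3, 5, 3, 2, 3, 1, 2, 3, 2, 1] (.node .leaf 1186 [6, 3, 2, 3, 5, 3, 2, 3, 1, 2, 3, 2, 1] .leaf)) 1187 [3, 6, 2, 3, 5, 3, 2, 3, 1, 2, 3, 2, 1] (.node (.node .leaf 1188 [3, 1, 2, 3, 6, 3, 2, 3, 1, 2, 3, 2, 1] .leaf) 1189 [2, 3, 2, 3, 6, 3, 2, 3, 1, 2, 3, 2, 1] (.node .leaf 1190 [4, 3, 2, 3, 6, 3, 2, 3, 1, 2, 3, 2, 1] .leaf)))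

def lev2T0_157 : WTree := (.node (.node (.node .leaf 1192 [6, 3, 2, 3, 6, 3, 2, 3, 1, 2, 3, 2, 1] .leaf) 1193 [3, 0, 1, 2, 3, 5, 2, 3, 1, 2, 3, 2, 1] (.node .leaf 1194 [6, 0, 1, 2, 3, 5, 2, 3, 1, 2, 3, 2, 1] .leaf)) 1195 [2, 3, 1, 2, 3, 5, 2, 3, 1, 2, 3, 2, 1] (.node (.node .leaf 1196 [4, 3, 1, 2, 3, 5, 2, 3, 1, 2, 3, 2, 1] .leaf) 1197 [5, 3, 1, 2, 3, 5, 2, 3, 1, 2, 3, 2, 1] (.node .leaf 1198 [3, 4, 1, 2, 3, 5, 2, 3, 1, 2, 3, 2, 1] .leaf)))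

def lev2T0_158 : WTree := (.node (.node (.node .leaf 1200 [1, 2, 3, 2, 3, 5, 2, 3, 1, 2, 3, 2, 1] .leaf) 1201 [4, 2, 3, 2, 3, 5, 2, 3, 1, 2, 3, 2, 1] (.node .leaf 1202 [6, 2, 3, 2, 3, 5, 2, 3, 1, 2, 3, 2, 1] .leaf)) 1203 [3, 4, 3, 2, 3, 5, 2, 3, 1, 2, 3, 2, 1] (.node (.node .leaf 1204 [5, 4, 3, 2, 3, 5, 2, 3, 1, 2, 3, 2, 1] .leaf) 1205 [6, 4, 3, 2, 3, 5, 2, 3, 1, 2, 3, 2, 1] (.node .leaf 1206 [6, 5, 3, 2, 3, 5, 2, 3, 1, 2, 3, 2, 1] .leaf)))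

def lev2T0_159 : WTree := (.node (.node (.node .leaf 1208 [2, 3, 4, 2, 3, 5, 2, 3, 1, 2, 3, 2, 1] .leaf) 1209 [5, 3, 4, 2, 3, 5, 2, 3, 1, 2, 3, 2, 1] (.node .leaf 1210 [6, 3, 4, 2, 3, 5, 2, 3, 1, 2, 3, 2, 1] .leaf)) 1211 [3, 6, 4, 2, 3, 5, 2, 3, 1, 2, 3, 2, 1] (.node (.node .leaf 1212 [4, 3, 6, 4, 3, 5, 2, 3, 1, 2, 3, 2, 1] .leaf) 1213 [3, 2, 3, 6, 3, 5, 2, 3, 1, 2, 3, 2, 1] (.node .leaf 1214 [3, 5, 3, 6, 3, 5, 2, 3, 1, 2, 3, 2, 1] .leaf)))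

def lev2T0_160 : WTree := (.node (.node (.node .leaf 1216 [4, 3, 5, 6, 3, 5, 2, 3, 1, 2, 3, 2, 1] .leaf) 1217 [4, 3, 2, 3, 6, 5, 2, 3, 1, 2, 3, 2, 1] (.node .leaf 1218 [5, 4, 2, 3, 6, 5, 2, 3, 1, 2, 3, 2, 1] .leaf)) 1219 [3, 5, 4, 3, 6, 5, 2, 3, 1, 2, 3, 2, 1] (.node (.node .leaf 1220 [3, 6, 5, 3, 6, 5, 2, 3, 1, 2, 3, 2, 1] .leaf) 1221 [4, 3, 1, 2, 3, 6, 2, 3, 1, 2, 3, 2, 1] (.node .leaf 1222 [6, 3, 1, 2, 3, 6, 2, 3, 1, 2, 3, 2, 1] .leaf)))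

def lev2T0_161 : WTree := (.node (.node (.node .leaf 1224 [3, 4, 3, 2, 3, 6, 2, 3, 1, 2, 3, 2, 1] .leaf) 1225 [5, 4, 3, 2, 3, 6, 2, 3, 1, 2, 3, 2, 1] (.node .leaf 1226 [5, 6, 3, 2, 3, 6, 2, 3, 1, 2, 3, 2, 1] .leaf)) 1227 [2, 3, 4, 2, 3, 6, 2, 3, 1, 2, 3, 2, 1] (.node (.node .leaf 1228 [5, 3, 4, 2, 3, 6, 2, 3, 1, 2, 3, 2, 1] .leaf) 1229 [6, 3, 4, 2, 3, 6, 2, 3, 1, 2, 3, 2, 1] (.node .leaf 1230 [2, 3, 5, 4, 3, 6, 2, 3, 1, 2, 3, 2, 1] .leaf)))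

def lev2T0_162 : WTree := (.node (.node (.node .leaf 1232 [3, 2, 3, 5, 3, 6, 2, 3, 1, 2, 3, 2, 1] .leaf) 1233 [3, 6, 3, 5, 3, 6, 2, 3, 1, 2, 3, 2, 1] (.node .leaf 1234 [2, 3, 6, 5, 3, 6, 2, 3, 1, 2, 3, 2, 1] .leaf)) 1235 [2, 3, 2, 3, 5, 6, 2, 3, 1, 2, 3, 2, 1] (.node (.node .leaf 1236 [4, 3, 2, 3, 5, 6, 2, 3, 1, 2, 3, 2, 1] .leaf) 1237 [5, 3, 2, 3, 5, 6, 2, 3, 1, 2, 3, 2, 1] (.node .leaf 1238 [3, 4, 2, 3, 5, 6, 2, 3, 1, 2, 3, 2, 1] .leaf)))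

def lev2T0_163 : WTree := (.node (.node (.node .leaf 1240 [4, 3, 1, 2, 3, 5, 4, 3, 1, 2, 3, 2, 1] .leaf) 1241 [5, 3, 1, 2, 3, 5, 4, 3, 1, 2, 3, 2, 1] (.node .leaf 1242 [3, 4, 1, 2, 3, 5, 4, 3, 1, 2, 3, 2, 1] .leaf)) 1243 [1, 2, 3, 2, 3, 5, 4, 3, 1, 2, 3, 2, 1] (.node (.node .leaf 1244 [3, 2, 3, 2, 3, 5, 4, 3, 1, 2, 3, 2, 1] .leaf) 1245 [4, 2, 3, 2, 3, 5, 4, 3, 1, 2, 3, 2, 1] (.node .leaf 1246 [5, 2, 3, 2, 3, 5, 4, 3, 1, 2, 3, 2, 1] .leaf)))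

def lev2T0_164 : WTree := (.node (.node (.node .leaf 1248 [3, 4, 3, 2, 3, 5, 4, 3, 1, 2, 3, 2, 1] .leaf) 1249 [5, 4, 3, 2, 3, 5, 4, 3, 1, 2, 3, 2, 1] (.node .leaf 1250 [6, 4, 3, 2, 3, 5, 4, 3, 1, 2, 3, 2, 1] .leaf)) 1251 [6, 5, 3, 2, 3, 5, 4, 3, 1, 2, 3, 2, 1] (.node (.node .leaf 1252 [2, 3, 4, 2, 3, 5, 4, 3, 1, 2, 3, 2, 1] .leaf) 1253 [5, 3, 4, 2, 3, 5, 4, 3, 1, 2, 3, 2, 1] (.node .leaf 1254 [6, 3, 4, 2, 3, 5, 4, 3, 1, 2, 3, 2, 1] .leaf)))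

def lev2T0_165 : WTree := (.node (.node (.node .leaf 1256 [2, 3, 1, 2, 3, 6, 4, 3, 1, 2, 3, 2, 1] .leaf) 1257 [4, 3, 1, 2, 3, 6, 4, 3, 1, 2, 3, 2, 1] (.node .leaf 1258 [5, 3, 1, 2, 3, 6, 4, 3, 1, 2, 3, 2, 1] .leaf)) 1259 [6, 3, 1, 2, 3, 6, 4, 3, 1, 2, 3, 2, 1] (.node (.node .leaf 1260 [1, 2, 3, 2, 3, 6, 4, 3, 1, 2, 3, 2, 1] .leaf) 1261 [3, 2, 3, 2, 3, 6, 4, 3, 1, 2, 3, 2, 1] (.node .leaf 1262 [4, 2, 3, 2, 3, 6, 4, 3, 1, 2, 3, 2, 1] .leaf)))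

def lev2T0_166 : WTree := (.node (.node (.node .leaf 1264 [6, 2, 3, 2, 3, 6, 4, 3, 1, 2, 3, 2, 1] .leaf) 1265 [5, 4, 3, 2, 3, 6, 4, 3, 1, 2, 3, 2, 1] (.node .leaf 1266 [6, 4, 3, 2, 3, 6, 4, 3, 1, 2, 3, 2, 1] .leaf)) 1267 [6, 5, 3, 2, 3, 6, 4, 3, 1, 2, 3, 2, 1] (.node (.node .leaf 1268 [5, 6, 3, 2, 3, 6, 4, 3, 1, 2, 3, 2, 1] .leaf) 1269 [4, 3, 2, 3, 2, 3, 5, 3, 1, 2, 3, 2, 1] (.node .leaf 1270 [6, 3, 2, 3, 2, 3, 5, 3, 1, 2, 3, 2, 1] .leaf)))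

def lev2T0_167 : WTree := (.node (.node (.node .leaf 1272 [3, 5, 4, 3, 2, 3, 5, 3, 1, 2, 3, 2, 1] .leaf) 1273 [3, 2, 3, 4, 2, 3, 5, 3, 1, 2, 3, 2, 1] (.node .leaf 1274 [2, 3, 1, 2, 3, 5, 6, 3, 1, 2, 3, 2, 1] .leaf)) 1275 [4, 3, 1, 2, 3, 5, 6, 3, 1, 2, 3, 2, 1] (.node (.node .leaf 1276 [1, 2, 3, 2, 3, 5, 6, 3, 1, 2, 3, 2, 1] .leaf) 1277 [3, 2, 3, 2, 3, 5, 6, 3, 1, 2, 3, 2, 1] (.node .leaf 1278 [4, 2, 3, 2, 3, 5, 6, 3, 1, 2, 3, 2, 1] .leaf)))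

def lev2T0_168 : WTree := (.node (.node (.node .leaf 1280 [6, 5, 3, 2, 3, 5, 6, 3, 1, 2, 3, 2, 1] .leaf) 1281 [4, 3, 2, 3, 1, 2, 3, 5, 1, 2, 3, 2, 1] (.node .leaf 1282 [6, 3, 2, 3, 1, 2, 3, 5, 1, 2, 3, 2, 1] .leaf)) 1283 [2, 3, 5, 2, 3, 2, 3, 5, 1, 2, 3, 2, 1] (.node (.node .leaf 1284 [2, 3, 6, 2, 3, 2, 3, 5, 1, 2, 3, 2, 1] .leaf) 1285 [5, 3, 6, 2, 3, 2, 3, 5, 1, 2, 3, 2, 1] (.node .leaf 1286 [3, 6, 3, 4, 3, 2, 3, 5, 1, 2, 3, 2, 1] .leaf)))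

def lev2T0_169 : WTree := (.node (.node (.node (.node lev2T0_153 1167 [2, 3, 2, 3, 6, 4, 3, 0, 1, 2, 3, 2, 1] lev2T0_154) 1175 [3, 4, 2, 3, 2, 3, 5, 0, 1, 2, 3, 2, 1] (.node lev2T0_155 1183 [2, 3, 2, 3, 5, 3, 2, 3, 1, 2, 3, 2, 1] lev2T0_156)) 1191 [5, 3, 2, 3, 6, 3, 2, 3, 1, 2, 3, 2, 1] (.node (.node lev2T0_157 1199 [6, 4, 1, 2, 3, 5, 2, 3, 1, 2, 3, 2, 1] lev2T0_158) 1207 [5, 6, 3, 2, 3, 5, 2, 3, 1, 2, 3, 2, 1] (.node lev2T0_159 1215 [2, 3, 5, 6, 3, 5, 2, 3, 1, 2, 3, 2, 1] lev2T0_160))) 1223 [3, 4, 1, 2, 3, 6, 2, 3, 1, 2, 3, 2, 1] (.node (.node (.node lev2T0_161 1231 [4, 3, 5, 4, 3, 6, 2, 3, 1, 2, 3, 2, 1] lev2T0_162) 1239 [2, 3, 1, 2, 3, 5, 4, 3, 1, 2, 3, 2, 1] (.node lev2T0_163 1247 [6, 2, 3, 2, 3, 5, 4,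 3, 1, 2, 3, 2, 1] lev2T0_164)) 1255 [3, 6, 4, 2, 3, 5, 4, 3, 1, 2, 3, 2, 1] (.node (.node lev2T0_165 1263 [5, 2, 3, 2, 3, 6, 4, 3, 1, 2, 3, 2, 1] lev2T0_166) 1271 [6, 3, 4, 3, 2, 3, 5, 3, 1, 2, 3, 2, 1] (.node lev2T0_167 1279 [5, 4, 3, 2, 3, 5, 6, 3, 1, 2, 3, 2, 1] lev2T0_168))))

def lev2T0_170 : WTree := (.node (.node (.node (.node .leaf 1288 [6, 3, 5, 4, 3, 2, 3, 5, 1, 2, 3, 2, 1] .leaf) 1289 [2, 3, 6, 4, 3, 2, 3, 5, 1, 2, 3, 2, 1] .leaf) 1290 [4, 3, 6, 4, 3, 2, 3, 5, 1, 2, 3, 2, 1] (.node .leaf 1291 [5, 3, 6, 4, 3, 2, 3, 5, 1, 2, 3, 2, 1] .leaf)) 1292 [2, 3, 6, 5, 3, 2, 3, 5, 1, 2, 3, 2, 1] (.node (.node .leaf 1293 [4, 3, 6, 5, 3, 2, 3, 5, 1, 2, 3, 2, 1] .leaf) 1294 [5, 3, 6, 5, 3, 2, 3, 5, 1, 2, 3, 2,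 1] (.node .leaf 1295 [2, 3, 5, 6, 3, 2, 3, 5, 1, 2, 3, 2, 1] .leaf)))

def lev2T0_171 : WTree := (.node (.node (.node .leaf 1297 [6, 3, 5, 6, 3, 2, 3, 5, 1, 2, 3, 2, 1] .leaf) 1298 [6, 3, 2, 3, 6, 2, 3, 5, 1, 2, 3, 2, 1] (.node .leaf 1299 [3, 5, 4, 3, 6, 2, 3, 5, 1, 2, 3, 2, 1] .leaf)) 1300 [2, 3, 2, 3, 5, 6, 3, 5, 1, 2, 3, 2, 1] (.node (.node .leaf 1301 [4, 3, 2, 3, 5, 6, 3, 5, 1, 2, 3, 2, 1] .leaf) 1302 [5, 3, 2, 3, 5, 6, 3, 5, 1, 2, 3, 2, 1] (.node .leaf 1303 [2, 3, 6, 2, 3, 1, 2, 3, 5, 4, 3, 2, 1] .leaf)))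

def lev2T0_172 : WTree := (.node (.node (.node .leaf 1305 [5, 3, 6, 2, 3, 1, 2, 3, 5, 4, 3, 2, 1] .leaf) 1306 [3, 5, 2, 3, 1, 2, 3, 0, 1, 2, 3, 6, 1] (.node .leaf 1307 [3, 5, 4, 3, 1, 2, 3, 0, 1, 2, 3, 6, 1] .leaf)) 1308 [3, 6, 4, 3, 1, 2, 3, 0, 1, 2, 3, 6, 1] (.node (.node .leaf 1309 [2, 3, 5, 3, 1, 2, 3, 0, 1, 2, 3, 6, 1] .leaf) 1310 [3, 6, 5, 3, 1, 2, 3, 0, 1, 2, 3, 6, 1] (.node .leaf 1311 [3, 5, 6, 3, 1, 2, 3, 0, 1, 2, 3, 6, 1] .leaf)))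

def lev2T0_173 : WTree := (.node (.node (.node .leaf 1313 [4, 2, 3, 5, 1, 2, 3, 0, 1, 2, 3, 6, 1] .leaf) 1314 [1, 2, 3, 6, 1, 2, 3, 0, 1, 2, 3, 6, 1] (.node .leaf 1315 [3, 2, 3, 6, 1, 2, 3, 0, 1, 2, 3, 6, 1] .leaf)) 1316 [4, 2, 3, 6, 1, 2, 3, 0, 1, 2, 3, 6, 1] (.node (.node .leaf 1317 [2, 3, 5, 4, 3, 2, 3, 0, 1, 2, 3, 6, 1] .leaf) 1318 [4, 3, 5, 4, 3, 2, 3, 0, 1, 2, 3, 6, 1] (.node .leaf 1319 [6, 3, 5, 4, 3, 2, 3, 0, 1, 2, 3, 6, 1] .leaf)))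

def lev2T0_174 : WTree := (.node (.node (.node .leaf 1321 [4, 3, 6, 4, 3, 2, 3, 0, 1, 2, 3, 6, 1] .leaf) 1322 [5, 3, 6, 4, 3, 2, 3, 0, 1, 2, 3, 6, 1] (.node .leaf 1323 [1, 2, 3, 5, 3, 2, 3, 0, 1, 2, 3, 6, 1] .leaf)) 1324 [3, 2, 3, 5, 3, 2, 3, 0, 1, 2, 3, 6, 1] (.node (.node .leaf 1325 [4, 2, 3, 5, 3, 2, 3, 0, 1, 2, 3, 6, 1] .leaf) 1326 [6, 2, 3, 5, 3, 2, 3, 0, 1, 2, 3, 6, 1] (.node .leaf 1327 [3, 6, 3, 5, 3, 2, 3, 0, 1, 2, 3, 6, 1] .leaf)))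

def lev2T0_175 : WTree := (.node (.node (.node .leaf 1329 [1, 2, 3, 6, 3, 2, 3, 0, 1, 2, 3, 6, 1] .leaf) 1330 [3, 2, 3, 6, 3, 2, 3, 0, 1, 2, 3, 6, 1] (.node .leaf 1331 [4, 2, 3, 6, 3, 2, 3, 0, 1, 2, 3, 6, 1] .leaf)) 1332 [5, 2, 3, 6, 3, 2, 3, 0, 1, 2, 3, 6, 1] (.node (.node .leaf 1333 [3, 5, 3, 6, 3, 2, 3, 0, 1, 2, 3, 6, 1] .leaf) 1334 [2, 3, 5, 6, 3, 2, 3, 0, 1, 2, 3, 6, 1] (.node .leaf 1335 [4, 3, 5, 6, 3, 2, 3, 0, 1, 2, 3, 6, 1] .leaf)))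

def lev2T0_176 : WTree := (.node (.node (.node .leaf 1337 [3, 1, 2, 3, 5, 2, 3, 0, 1, 2, 3, 6, 1] .leaf) 1338 [4, 1, 2, 3, 5, 2, 3, 0, 1, 2, 3, 6, 1] (.node .leaf 1339 [4, 3, 2, 3, 5, 2, 3, 0, 1, 2, 3, 6, 1] .leaf)) 1340 [5, 3, 2, 3, 5, 2, 3, 0, 1, 2, 3, 6, 1] (.node (.node .leaf 1341 [6, 3, 2, 3, 5, 2, 3, 0, 1, 2, 3, 6, 1] .leaf) 1342 [3, 4, 2, 3, 5, 2, 3, 0, 1, 2, 3, 6, 1] (.node .leaf 1343 [0, 1, 2, 3, 6, 2, 3, 0, 1, 2, 3, 6, 1] .leaf)))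

def lev2T0_177 : WTree := (.node (.node (.node .leaf 1345 [4, 1, 2, 3, 6, 2, 3, 0, 1, 2, 3, 6, 1] .leaf) 1346 [3, 4, 2, 3, 6, 2, 3, 0, 1, 2, 3, 6, 1] (.node .leaf 1347 [3, 5, 4, 3, 2, 3, 5, 0, 1, 2, 3, 6, 1] .leaf)) 1348 [3, 6, 4, 3, 2, 3, 5, 0, 1, 2, 3, 6, 1] (.node (.node .leaf 1349 [3, 6, 0, 1, 2, 3, 2, 3, 1, 2, 3, 6, 1] .leaf) 1350 [5, 6, 0, 1, 2, 3, 2, 3, 1, 2, 3, 6, 1] (.node .leaf 1351 [3, 5, 4, 1, 2, 3, 2, 3, 1, 2, 3, 6, 1] .leaf)))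

def lev2T0_178 : WTree := (.node (.node (.node .leaf 1353 [3, 5, 6, 1, 2, 3, 2, 3, 1, 2, 3, 6, 1] .leaf) 1354 [3, 5, 3, 4, 2, 3, 2, 3, 1, 2, 3, 6, 1] (.node .leaf 1355 [2, 3, 5, 4, 2, 3, 2, 3, 1, 2, 3, 6, 1] .leaf)) 1356 [4, 3, 5, 4, 2, 3, 2, 3, 1, 2, 3, 6, 1] (.node (.node .leaf 1357 [3, 2, 3, 5, 2, 3, 2, 3, 1, 2, 3, 6, 1] .leaf) 1358 [4, 2, 3, 5, 2, 3, 2, 3, 1, 2, 3, 6, 1] (.node .leaf 1359 [3, 5, 2, 3, 4, 3, 2, 3, 1, 2, 3, 6, 1] .leaf)))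

def lev2T0_179 : WTree := (.node (.node (.node .leaf 1361 [2, 3, 6, 3, 4, 3, 2, 3, 1, 2, 3, 6, 1] .leaf) 1362 [1, 2, 3, 5, 4, 3, 2, 3, 1, 2, 3, 6, 1] (.node .leaf 1363 [3, 2, 3, 5, 4, 3, 2, 3, 1, 2, 3, 6, 1] .leaf)) 1364 [4, 2, 3, 5, 4, 3, 2, 3, 1, 2, 3, 6, 1] (.node (.node .leaf 1365 [0, 1, 2, 3, 5, 3, 2, 3, 1, 2, 3, 6, 1] .leaf) 1366 [3, 1, 2, 3, 5, 3, 2, 3, 1, 2, 3, 6, 1] (.node .leaf 1367 [4, 1, 2, 3, 5, 3, 2, 3, 1, 2, 3, 6, 1] .leaf)))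

def lev2T0_180 : WTree := (.node (.node (.node .leaf 1369 [4, 3, 2, 3, 5, 3, 2, 3, 1, 2, 3, 6, 1] .leaf) 1370 [5, 3, 2, 3, 5, 3, 2, 3, 1, 2, 3, 6, 1] (.node .leaf 1371 [6, 3, 2, 3, 5, 3, 2, 3, 1, 2, 3, 6, 1] .leaf)) 1372 [2, 3, 6, 3, 5, 3, 2, 3, 1, 2, 3, 6, 1] (.node (.node .leaf 1373 [1, 2, 3, 6, 5, 3, 2, 3, 1, 2, 3, 6, 1] .leaf) 1374 [4, 2, 3, 6, 5, 3, 2, 3, 1, 2, 3, 6, 1] (.node .leaf 1375 [3, 1, 2, 3, 6, 3, 2, 3, 1, 2, 3, 6, 1] .leaf)))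

def lev2T0_181 : WTree := (.node (.node (.node .leaf 1377 [5, 3, 2, 3, 6, 3, 2, 3, 1, 2, 3, 6, 1] .leaf) 1378 [2, 3, 5, 3, 6, 3, 2, 3, 1, 2, 3, 6, 1] (.node .leaf 1379 [2, 3, 5, 2, 3, 4, 2, 3, 1, 2, 3, 6, 1] .leaf)) 1380 [4, 3, 5, 2, 3, 4, 2, 3, 1, 2, 3, 6, 1] (.node (.node .leaf 1381 [1, 2, 3, 5, 3, 4, 2, 3, 1, 2, 3, 6, 1] .leaf) 1382 [2, 3, 6, 5, 3, 4, 2, 3, 1, 2, 3, 6, 1] (.node .leaf 1383 [3, 1, 2, 3, 5, 4, 2, 3, 1, 2, 3, 6, 1] .leaf)))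

def lev2T0_182 : WTree := (.node (.node (.node .leaf 1385 [6, 3, 2, 3, 5, 4, 2, 3, 1, 2, 3, 6, 1] .leaf) 1386 [3, 4, 2, 3, 5, 4, 2, 3, 1, 2, 3, 6, 1] (.node .leaf 1387 [3, 1, 2, 3, 6, 4, 2, 3, 1, 2, 3, 6, 1] .leaf)) 1388 [2, 3, 2, 3, 6, 4, 2, 3, 1, 2, 3, 6, 1] (.node (.node .leaf 1389 [4, 3, 2, 3, 6, 4, 2, 3, 1, 2, 3, 6, 1] .leaf) 1390 [5, 3, 2, 3, 6, 4, 2, 3, 1, 2, 3, 6, 1] (.node .leaf 1391 [3, 4, 2, 3, 6, 4, 2, 3, 1, 2, 3, 6, 1] .leaf)))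

def lev2T0_183 : WTree := (.node (.node (.node .leaf 1393 [2, 3, 1, 2, 3, 5, 2, 3, 1, 2, 3, 6, 1] .leaf) 1394 [4, 3, 1, 2, 3, 5, 2, 3, 1, 2, 3, 6, 1] (.node .leaf 1395 [6, 3, 1, 2, 3, 5, 2, 3, 1, 2, 3, 6, 1] .leaf)) 1396 [3, 4, 1, 2, 3, 5, 2, 3, 1, 2, 3, 6, 1] (.node (.node .leaf 1397 [4, 2, 3, 2, 3, 5, 2, 3, 1, 2, 3, 6, 1] .leaf) 1398 [6, 2, 3, 2, 3, 5, 2, 3, 1, 2, 3, 6, 1] (.node .leaf 1399 [3, 4, 3, 2, 3, 5, 2, 3, 1, 2, 3, 6, 1] .leaf)))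

def lev2T0_184 : WTree := (.node (.node (.node .leaf 1401 [6, 5, 3, 2, 3, 5, 2, 3, 1, 2, 3, 6, 1] .leaf) 1402 [5, 6, 3, 2, 3, 5, 2, 3, 1, 2, 3, 6, 1] (.node .leaf 1403 [3, 0, 1, 2, 3, 6, 2, 3, 1, 2, 3, 6, 1] .leaf)) 1404 [2, 3, 1, 2, 3, 6, 2, 3, 1, 2, 3, 6, 1] (.node (.node .leaf 1405 [5, 3, 1, 2, 3, 6, 2, 3, 1, 2, 3, 6, 1] .leaf) 1406 [3, 4, 1, 2, 3, 6, 2, 3, 1, 2, 3, 6, 1] (.node .leaf 1407 [2, 3, 4, 2, 3, 6, 2, 3, 1, 2, 3, 6, 1] .leaf)))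

def lev2T0_185 : WTree := (.node (.node (.node .leaf 1409 [1, 2, 3, 2, 3, 6, 4, 3, 1, 2, 3, 6, 1] .leaf) 1410 [3, 2, 3, 2, 3, 6, 4, 3, 1, 2, 3, 6, 1] (.node .leaf 1411 [4, 2, 3, 2, 3, 6, 4, 3, 1, 2, 3, 6, 1] .leaf)) 1412 [6, 2, 3, 2, 3, 6, 4, 3, 1, 2, 3, 6, 1] (.node (.node .leaf 1413 [5, 4, 3, 2, 3, 6, 4, 3, 1, 2, 3, 6, 1] .leaf) 1414 [6, 4, 3, 2, 3, 6, 4, 3, 1, 2, 3, 6, 1] (.node .leaf 1415 [5, 6, 3, 2, 3, 6, 4, 3, 1, 2, 3, 6, 1] .leaf)))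

def lev2T0_186 : WTree := (.node (.node (.node (.node lev2T0_170 1296 [4, 3, 5, 6, 3, 2, 3, 5, 1, 2, 3, 2, 1] lev2T0_171) 1304 [4, 3, 6, 2, 3, 1, 2, 3, 5, 4, 3, 2, 1] (.node lev2T0_172 1312 [1, 2, 3, 5, 1, 2, 3, 0, 1, 2, 3, 6, 1] lev2T0_173)) 1320 [2, 3, 6, 4, 3, 2, 3, 0, 1, 2, 3, 6, 1] (.node (.node lev2T0_174 1328 [4, 3, 6, 5, 3, 2, 3, 0, 1, 2, 3, 6, 1] lev2T0_175) 1336 [0, 1, 2, 3, 5, 2, 3, 0, 1, 2, 3, 6, 1] (.node lev2T0_176 1344 [3, 1, 2, 3, 6, 2, 3, 0, 1, 2, 3, 6, 1] lev2T0_177))) 1352 [2, 3, 6, 1, 2, 3, 2, 3, 1, 2, 3, 6, 1] (.node (.node (.node lev2T0_178 1360 [2, 3, 5, 3, 4, 3, 2, 3, 1, 2, 3, 6, 1] lev2T0_179) 1368 [2, 3, 2, 3, 5, 3, 2, 3, 1, 2, 3, 6, 1] (.node lev2T0_180 1376 [2, 3, 2, 3, 6, 3, 2,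 3, 1, 2, 3, 6, 1] lev2T0_181)) 1384 [4, 3, 2, 3, 5, 4, 2, 3, 1, 2, 3, 6, 1] (.node (.node lev2T0_182 1392 [3, 0, 1, 2, 3, 5, 2, 3, 1, 2, 3, 6, 1] lev2T0_183) 1400 [6, 4, 3, 2, 3, 5, 2, 3, 1, 2, 3, 6, 1] (.node lev2T0_184 1408 [5, 3, 4, 2, 3, 6, 2, 3, 1, 2, 3, 6, 1] lev2T0_185))))

def lev2T0_187 : WTree := (.node (.node (.node .leaf 1417 [2, 3, 5, 4, 3, 2, 3, 5, 1, 2, 3, 6, 1] .leaf) 1418 [2, 3, 6, 4, 3, 2, 3, 5, 1, 2, 3, 6, 1] (.node .leaf 1419 [4, 3, 6, 4, 3, 2, 3, 5, 1, 2, 3, 6, 1] .leaf)) 1420 [4, 3, 6, 5, 3, 2, 3, 5, 1, 2, 3, 6, 1] (.node (.node .leaf 1421 [3, 5, 2, 3, 4, 2, 3, 5, 1, 2, 3, 6, 1] .leaf) 1422 [3, 6, 5, 3, 6, 2, 3, 5, 1, 2, 3, 6, 1] (.node .leaf 1423 [3, 4, 3, 2, 3, 1, 2, 3, 0, 1, 2, 3, 6]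 .leaf)))

def lev2T0_188 : WTree := (.node (.node (.node .leaf 1425 [6, 3, 4, 2, 3, 1, 2, 3, 0, 1, 2, 3, 6] .leaf) 1426 [2, 3, 5, 4, 3, 1, 2, 3, 0, 1, 2, 3, 6] (.node .leaf 1427 [6, 3, 5, 4, 3, 1, 2, 3, 0, 1, 2, 3, 6] .leaf)) 1428 [3, 5, 0, 1, 2, 3, 2, 3, 0, 1, 2, 3, 6] (.node (.node .leaf 1429 [2, 3, 5, 1, 2, 3, 2, 3, 0, 1, 2, 3, 6] .leaf) 1430 [3, 5, 3, 4, 2, 3, 2, 3, 0, 1, 2, 3, 6] (.node .leaf 1431 [4, 3, 5, 4, 2, 3, 2, 3, 0, 1, 2, 3, 6] .leaf)))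

def lev2T0_189 : WTree := (.node (.node (.node .leaf 1433 [1, 2, 3, 6, 2, 3, 2, 3, 0, 1, 2, 3, 6] .leaf) 1434 [5, 3, 6, 3, 4, 3, 2, 3, 0, 1, 2, 3, 6] (.node .leaf 1435 [5, 4, 3, 6, 4, 3, 2, 3, 0, 1, 2, 3, 6] .leaf)) 1436 [2, 3, 2, 3, 6, 3, 2, 3, 0, 1, 2, 3, 6] (.node (.node .leaf 1437 [5, 3, 2, 3, 6, 3, 2, 3, 0, 1, 2, 3, 6] .leaf) 1438 [2, 3, 5, 3, 6, 3, 2, 3, 0, 1, 2, 3, 6] (.node .leaf 1439 [4, 3, 5, 3, 6, 3, 2, 3, 0, 1, 2, 3, 6] .leaf)))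

def lev2T0_190 : WTree := (.node (.node (.node .leaf 1441 [1, 2, 3, 5, 6, 3, 2, 3, 0, 1, 2, 3, 6] .leaf) 1442 [3, 2, 3, 5, 6, 3, 2, 3, 0, 1, 2, 3, 6] (.node .leaf 1443 [4, 2, 3, 5, 6, 3, 2, 3, 0, 1, 2, 3, 6] .leaf)) 1444 [6, 2, 3, 5, 6, 3, 2, 3, 0, 1, 2, 3, 6] (.node (.node .leaf 1445 [6, 4, 3, 5, 6, 3, 2, 3, 0, 1, 2, 3, 6] .leaf) 1446 [5, 6, 3, 5, 6, 3, 2, 3, 0, 1, 2, 3, 6] (.node .leaf 1447 [4, 3, 5, 2, 3, 4, 2, 3, 0, 1, 2, 3, 6] .leaf)))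

def lev2T0_191 : WTree := (.node (.node (.node .leaf 1449 [4, 3, 5, 6, 3, 4, 2, 3, 0, 1, 2, 3, 6] .leaf) 1450 [2, 3, 1, 2, 3, 6, 2, 3, 0, 1, 2, 3, 6] (.node .leaf 1451 [4, 3, 1, 2, 3, 6, 2, 3, 0, 1, 2, 3, 6] .leaf)) 1452 [3, 4, 3, 2, 3, 6, 2, 3, 0, 1, 2, 3, 6] (.node (.node .leaf 1453 [2, 3, 4, 2, 3, 6, 2, 3, 0, 1, 2, 3, 6] .leaf) 1454 [5, 3, 4, 2, 3, 6, 2, 3, 0, 1, 2, 3, 6] (.node .leaf 1455 [3, 5, 4, 2, 3, 6, 2, 3, 0, 1, 2, 3, 6] .leaf)))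

def lev2T0_192 : WTree := (.node (.node (.node .leaf 1457 [4, 3, 6, 5, 3, 6, 2, 3, 0, 1, 2, 3, 6] .leaf) 1458 [5, 3, 6, 5, 3, 6, 2, 3, 0, 1, 2, 3, 6] (.node .leaf 1459 [2, 3, 0, 1, 2, 3, 1, 2, 3, 1, 2, 3, 6] .leaf)) 1460 [4, 3, 0, 1, 2, 3, 1, 2, 3, 1, 2, 3, 6] (.node (.node .leaf 1461 [6, 3, 0, 1, 2, 3, 1, 2, 3, 1, 2, 3, 6] .leaf) 1462 [3, 2, 3, 1, 2, 3, 1, 2, 3, 1, 2, 3, 6] (.node .leaf 1463 [4, 2, 3, 1, 2, 3, 1, 2, 3, 1, 2, 3, 6] .leaf)))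

def lev2T0_193 : WTree := (.node (.node (.node .leaf 1465 [3, 4, 3, 1, 2, 3, 1, 2, 3, 1, 2, 3, 6] .leaf) 1466 [3, 6, 3, 1, 2, 3, 1, 2, 3, 1, 2, 3, 6] (.node .leaf 1467 [2, 3, 4, 1, 2, 3, 1, 2, 3, 1, 2, 3, 6] .leaf)) 1468 [5, 3, 4, 1, 2, 3, 1, 2, 3, 1, 2, 3, 6] (.node (.node .leaf 1469 [6, 3, 4, 1, 2, 3, 1, 2, 3, 1, 2, 3, 6] .leaf) 1470 [2, 3, 6, 1, 2, 3, 1, 2, 3, 1, 2, 3, 6] (.node .leaf 1471 [4, 3, 6, 1, 2, 3, 1, 2, 3, 1, 2, 3, 6] .leaf)))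

def lev2T0_194 : WTree := (.node (.node (.node .leaf 1473 [5, 3, 4, 3, 2, 3, 1, 2, 3, 1, 2, 3, 6] .leaf) 1474 [2, 3, 6, 3, 2, 3, 1, 2, 3, 1, 2, 3, 6] (.node .leaf 1475 [6, 2, 3, 4, 2, 3, 1, 2, 3, 1, 2, 3, 6] .leaf)) 1476 [3, 5, 3, 4, 2, 3, 1, 2, 3, 1, 2, 3, 6] (.node (.node .leaf 1477 [5, 6, 3, 4, 2, 3, 1, 2, 3, 1, 2, 3, 6] .leaf) 1478 [1, 2, 3, 6, 2, 3, 1, 2, 3, 1, 2, 3, 6] (.node .leaf 1479 [4, 2, 3, 6, 2, 3, 1, 2, 3, 1, 2, 3, 6] .leaf)))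

def lev2T0_195 : WTree := (.node (.node (.node .leaf 1481 [2, 3, 2, 3, 4, 3, 1, 2, 3, 1, 2, 3, 6] .leaf) 1482 [6, 3, 2, 3, 4, 3, 1, 2, 3, 1, 2, 3, 6] (.node .leaf 1483 [2, 3, 5, 3, 4, 3, 1, 2, 3, 1, 2, 3, 6] .leaf)) 1484 [1, 2, 3, 5, 4, 3, 1, 2, 3, 1, 2, 3, 6] (.node (.node .leaf 1485 [6, 2, 3, 5, 4, 3, 1, 2, 3, 1, 2, 3, 6] .leaf) 1486 [1, 2, 3, 6, 4, 3, 1, 2, 3, 1, 2, 3, 6] (.node .leaf 1487 [3, 2, 3, 6, 4, 3, 1, 2, 3, 1, 2, 3, 6] .leaf)))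

def lev2T0_196 : WTree := (.node (.node (.node .leaf 1489 [6, 2, 3, 5, 6, 3, 1, 2, 3, 1, 2, 3, 6] .leaf) 1490 [2, 3, 1, 2, 3, 4, 1, 2, 3, 1, 2, 3, 6] (.node .leaf 1491 [4, 3, 1, 2, 3, 4, 1, 2, 3, 1, 2, 3, 6] .leaf)) 1492 [5, 3, 1, 2, 3, 4, 1, 2, 3, 1, 2, 3, 6] (.node (.node .leaf 1493 [5, 4, 3, 2, 3, 4, 1, 2, 3, 1, 2, 3, 6] .leaf) 1494 [3, 5, 3, 2, 3, 4, 1, 2, 3, 1, 2, 3, 6] (.node .leaf 1495 [6, 5, 3, 2, 3, 4, 1, 2, 3, 1, 2, 3, 6] .leaf)))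

def lev2T0_197 : WTree := (.node (.node (.node .leaf 1497 [2, 3, 5, 0, 1, 2, 3, 2, 3, 1, 2, 3, 6] .leaf) 1498 [4, 3, 5, 0, 1, 2, 3, 2, 3, 1, 2, 3, 6] (.node .leaf 1499 [6, 3, 5, 0, 1, 2, 3, 2, 3, 1, 2, 3, 6] .leaf)) 1500 [2, 3, 6, 0, 1, 2, 3, 2, 3, 1, 2, 3, 6] (.node (.node .leaf 1501 [3, 5, 4, 3, 1, 2, 3, 2, 3, 1, 2, 3, 6] .leaf) 1502 [2, 3, 5, 3, 1, 2, 3, 2, 3, 1, 2, 3, 6] (.node .leaf 1503 [4, 3, 5, 3, 1, 2, 3, 2, 3, 1, 2, 3, 6] .leaf)))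

def lev2T0_198 : WTree := (.node (.node (.node .leaf 1505 [1, 2, 3, 5, 1, 2, 3, 2, 3, 1, 2, 3, 6] .leaf) 1506 [3, 2, 3, 5, 1, 2, 3, 2, 3, 1, 2, 3, 6] (.node .leaf 1507 [4, 2, 3, 5, 1, 2, 3, 2, 3, 1, 2, 3, 6] .leaf)) 1508 [6, 2, 3, 5, 1, 2, 3, 2, 3, 1, 2, 3, 6] (.node (.node .leaf 1509 [1, 2, 3, 6, 1, 2, 3, 2, 3, 1, 2, 3, 6] .leaf) 1510 [3, 2, 3, 6, 1, 2, 3, 2, 3, 1, 2, 3, 6] (.node .leaf 1511 [3, 5, 3, 4, 3, 2, 3, 2, 3, 1, 2, 3, 6] .leaf)))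

def lev2T0_199 : WTree := (.node (.node (.node .leaf 1513 [4, 3, 5, 4, 3, 2, 3, 2, 3, 1, 2, 3, 6] .leaf) 1514 [1, 2, 3, 5, 3, 2, 3, 2, 3, 1, 2, 3, 6] (.node .leaf 1515 [3, 2, 3, 5, 3, 2, 3, 2, 3, 1, 2, 3, 6] .leaf)) 1516 [4, 1, 2, 3, 5, 2, 3, 2, 3, 1, 2, 3, 6] (.node (.node .leaf 1517 [3, 5, 6, 3, 5, 2, 3, 2, 3, 1, 2, 3, 6] .leaf) 1518 [2, 3, 2, 3, 6, 2, 3, 2, 3, 1, 2, 3, 6] (.node .leaf 1519 [4, 3, 2, 3, 6, 2, 3, 2, 3, 1, 2, 3, 6] .leaf)))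

def lev2T0_200 : WTree := (.node (.node (.node .leaf 1521 [3, 5, 3, 2, 3, 4, 3, 2, 3, 1, 2, 3, 6] .leaf) 1522 [4, 3, 5, 2, 3, 4, 3, 2, 3, 1, 2, 3, 6] (.node .leaf 1523 [6, 3, 5, 2, 3, 4, 3, 2, 3, 1, 2, 3, 6] .leaf)) 1524 [1, 2, 3, 6, 3, 4, 3, 2, 3, 1, 2, 3, 6] (.node (.node .leaf 1525 [3, 2, 3, 6, 3, 4, 3, 2, 3, 1, 2, 3, 6] .leaf) 1526 [0, 1, 2, 3, 5, 6, 3, 2, 3, 1, 2, 3, 6] (.node .leaf 1527 [4, 1, 2, 3, 5, 6, 3, 2, 3, 1, 2, 3, 6] .leaf)))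

def lev2T0_201 : WTree := (.node (.node (.node .leaf 1529 [6, 4, 2, 3, 5, 6, 3, 2, 3, 1, 2, 3, 6] .leaf) 1530 [3, 6, 2, 3, 5, 6, 3, 2, 3, 1, 2, 3, 6] (.node .leaf 1531 [5, 6, 2, 3, 5, 6, 3, 2, 3, 1, 2, 3, 6] .leaf)) 1532 [5, 2, 3, 6, 5, 3, 4, 2, 3, 1, 2, 3, 6] (.node (.node .leaf 1533 [5, 4, 3, 6, 5, 3, 4, 2, 3, 1, 2, 3, 6] .leaf) 1534 [6, 4, 3, 5, 6, 3, 4, 2, 3, 1, 2, 3, 6] (.node .leaf 1535 [5, 6, 3, 5, 6, 3, 4, 2, 3, 1, 2, 3, 6] .leaf)))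

def lev2T0_202 : WTree := (.node (.node (.node .leaf 1537 [3, 6, 4, 3, 2, 3, 6, 4, 3, 1, 2, 3, 6] .leaf) 1538 [3, 6, 5, 3, 2, 3, 6, 4, 3, 1, 2, 3, 6] (.node .leaf 1539 [3, 1, 2, 3, 5, 1, 2, 3, 0, 1, 2, 3, 2, 1] .leaf)) 1540 [6, 1, 2, 3, 5, 1, 2, 3, 0, 1, 2, 3, 2, 1] (.node (.node .leaf 1541 [4, 3, 2, 3, 5, 1, 2, 3, 0, 1, 2, 3, 2, 1] .leaf) 1542 [5, 3, 2, 3, 5, 1, 2, 3, 0, 1, 2, 3, 2, 1] (.node .leaf 1543 [6, 3, 2, 3, 5, 1, 2, 3, 0, 1, 2, 3, 2, 1] .leaf)))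

def lev2T0_203 : WTree := (.node (.node (.node (.node lev2T0_187 1424 [3, 5, 3, 2, 3, 1, 2, 3, 0, 1, 2, 3, 6] lev2T0_188) 1432 [4, 3, 6, 5, 2, 3, 2, 3, 0, 1, 2, 3, 6] (.node lev2T0_189 1440 [6, 3, 5, 3, 6, 3, 2, 3, 0, 1, 2, 3, 6] lev2T0_190)) 1448 [5, 3, 6, 5, 3, 4, 2, 3, 0, 1, 2, 3, 6] (.node (.node lev2T0_191 1456 [2, 3, 5, 4, 3, 6, 2, 3, 0, 1, 2, 3, 6] lev2T0_192) 1464 [6, 2, 3, 1, 2, 3, 1, 2, 3, 1, 2, 3, 6] (.node lev2T0_193 1472 [2, 3, 4, 3, 2, 3, 1, 2, 3, 1, 2, 3, 6] lev2T0_194))) 1480 [5, 2, 3, 6, 2, 3, 1, 2, 3, 1, 2, 3, 6] (.node (.node (.node lev2T0_195 1488 [1, 2, 3, 5, 6, 3, 1, 2, 3, 1, 2, 3, 6] lev2T0_196) 1496 [5, 3, 6, 5, 3, 4, 1, 2, 3, 1, 2, 3, 6] (.node lev2T0_197 1504 [2, 3, 6, 3, 1, 2, 3,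 2, 3, 1, 2, 3, 6] lev2T0_198)) 1512 [2, 3, 5, 4, 3, 2, 3, 2, 3, 1, 2, 3, 6] (.node (.node lev2T0_199 1520 [5, 3, 2, 3, 6, 2, 3, 2, 3, 1, 2, 3, 6] lev2T0_200) 1528 [6, 1, 2, 3, 5, 6, 3, 2, 3, 1, 2, 3, 6] (.node lev2T0_201 1536 [0, 1, 2, 3, 2, 3, 6, 4, 3, 1, 2, 3, 6] lev2T0_202))))

def lev2T0_204 : WTree := (.node (.node (.node (.node .leaf 1545 [3, 0, 1, 2, 3, 5, 2, 3, 0, 1, 2, 3, 2, 1] .leaf) 1546 [6, 0, 1, 2, 3, 5, 2, 3, 0, 1, 2, 3, 2, 1] .leaf) 1547 [4, 3, 1, 2, 3, 5, 2, 3, 0, 1, 2, 3, 2, 1] (.node .leaf 1548 [5, 3, 1, 2, 3, 5, 2, 3, 0, 1, 2, 3, 2, 1] .leaf)) 1549 [3, 4, 1, 2, 3, 5, 2, 3, 0, 1, 2, 3, 2, 1] (.node (.node .leaf 1550 [6, 4, 1, 2, 3, 5, 2, 3, 0, 1, 2, 3, 2, 1] .leaf) 1551 [3, 4, 3, 2, 3, 5,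 2, 3, 0, 1, 2, 3, 2, 1] (.node .leaf 1552 [5, 4, 3, 2, 3, 5, 2, 3, 0, 1, 2, 3, 2, 1] .leaf)))

def lev2T0_205 : WTree := (.node (.node (.node .leaf 1554 [5, 6, 3, 2, 3, 5, 2, 3, 0, 1, 2, 3, 2, 1] .leaf) 1555 [2, 3, 4, 2, 3, 5, 2, 3, 0, 1, 2, 3, 2, 1] (.node .leaf 1556 [5, 3, 4, 2, 3, 5, 2, 3, 0, 1, 2, 3, 2, 1] .leaf)) 1557 [6, 3, 4, 2, 3, 5, 2, 3, 0, 1, 2, 3, 2, 1] (.node (.node .leaf 1558 [3, 6, 4, 2, 3, 5, 2, 3, 0, 1, 2, 3, 2, 1] .leaf) 1559 [4, 3, 6, 4, 3, 5, 2, 3, 0, 1, 2, 3, 2, 1] (.node .leaf 1560 [4, 3, 5, 6, 3, 5, 2, 3, 0, 1, 2, 3, 2, 1] .leaf)))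

def lev2T0_206 : WTree := (.node (.node (.node .leaf 1562 [2, 3, 4, 2, 3, 6, 2, 3, 0, 1, 2, 3, 2, 1] .leaf) 1563 [4, 3, 5, 4, 3, 6, 2, 3, 0, 1, 2, 3, 2, 1] (.node .leaf 1564 [3, 2, 3, 5, 3, 6, 2, 3, 0, 1, 2, 3, 2, 1] .leaf)) 1565 [3, 6, 3, 5, 3, 6, 2, 3, 0, 1, 2, 3, 2, 1] (.node (.node .leaf 1566 [2, 3, 6, 5, 3, 6, 2, 3, 0, 1, 2, 3, 2, 1] .leaf) 1567 [4, 3, 2, 3, 5, 6, 2, 3, 0, 1, 2, 3, 2, 1] (.node .leaf 1568 [5, 3, 2, 3, 5, 6, 2, 3, 0, 1, 2, 3, 2, 1] .leaf)))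

def lev2T0_207 : WTree := (.node (.node (.node .leaf 1570 [1, 2, 3, 2, 3, 5, 4, 3, 0, 1, 2, 3, 2, 1] .leaf) 1571 [4, 2, 3, 2, 3, 5, 4, 3, 0, 1, 2, 3, 2, 1] (.node .leaf 1572 [5, 2, 3, 2, 3, 5, 4, 3, 0, 1, 2, 3, 2, 1] .leaf)) 1573 [6, 2, 3, 2, 3, 5, 4, 3, 0, 1, 2, 3, 2, 1] (.node (.node .leaf 1574 [5, 4, 3, 2, 3, 5, 4, 3, 0, 1, 2, 3, 2, 1] .leaf) 1575 [6, 4, 3, 2, 3, 5, 4, 3, 0, 1, 2, 3, 2, 1] (.node .leaf 1576 [6, 5, 3, 2, 3, 5, 4, 3, 0, 1, 2, 3, 2, 1] .leaf)))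

def lev2T0_208 : WTree := (.node (.node (.node .leaf 1578 [4, 2, 3, 2, 3, 6, 4, 3, 0, 1, 2, 3, 2, 1] .leaf) 1579 [5, 2, 3, 2, 3, 6, 4, 3, 0, 1, 2, 3, 2, 1] (.node .leaf 1580 [6, 2, 3, 2, 3, 6, 4, 3, 0, 1, 2, 3, 2, 1] .leaf)) 1581 [5, 4, 3, 2, 3, 6, 4, 3, 0, 1, 2, 3, 2, 1] (.node (.node .leaf 1582 [6, 4, 3, 2, 3, 6, 4, 3, 0, 1, 2, 3, 2, 1] .leaf) 1583 [6, 5, 3, 2, 3, 6, 4, 3, 0, 1, 2, 3, 2, 1] (.node .leaf 1584 [5, 6, 3, 2, 3, 6, 4, 3, 0, 1, 2, 3, 2, 1] .leaf)))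

def lev2T0_209 : WTree := (.node (.node (.node .leaf 1586 [1, 2, 3, 2, 3, 5, 6, 3, 0, 1, 2, 3, 2, 1] .leaf) 1587 [4, 2, 3, 2, 3, 5, 6, 3, 0, 1, 2, 3, 2, 1] (.node .leaf 1588 [5, 2, 3, 2, 3, 5, 6, 3, 0, 1, 2, 3, 2, 1] .leaf)) 1589 [2, 3, 5, 2, 3, 2, 3, 5, 0, 1, 2, 3, 2, 1] (.node (.node .leaf 1590 [2, 3, 6, 2, 3, 2, 3, 5, 0, 1, 2, 3, 2, 1] .leaf) 1591 [2, 3, 5, 4, 3, 2, 3, 5, 0, 1, 2, 3, 2, 1] (.node .leaf 1592 [6, 3, 5, 4, 3, 2, 3, 5, 0, 1, 2, 3, 2, 1] .leaf)))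

def lev2T0_210 : WTree := (.node (.node (.node .leaf 1594 [5, 3, 6, 4, 3, 2, 3, 5, 0, 1, 2, 3, 2, 1] .leaf) 1595 [2, 3, 6, 5, 3, 2, 3, 5, 0, 1, 2, 3, 2, 1] (.node .leaf 1596 [4, 3, 6, 5, 3, 2, 3, 5, 0, 1, 2, 3, 2, 1] .leaf)) 1597 [5, 3, 6, 5, 3, 2, 3, 5, 0, 1, 2, 3, 2, 1] (.node (.node .leaf 1598 [2, 3, 1, 2, 3, 5, 3, 2, 3, 1, 2, 3, 2, 1] .leaf) 1599 [4, 3, 1, 2, 3, 5, 3, 2, 3, 1, 2, 3, 2, 1] (.node .leaf 1600 [5, 3, 1, 2, 3, 5, 3, 2, 3, 1, 2, 3, 2, 1] .leaf)))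

def lev2T0_211 : WTree := (.node (.node (.node .leaf 1602 [1, 2, 3, 2, 3, 5, 3, 2, 3, 1, 2, 3, 2, 1] .leaf) 1603 [4, 2, 3, 2, 3, 5, 3, 2, 3, 1, 2, 3, 2, 1] (.node .leaf 1604 [5, 2, 3, 2, 3, 5, 3, 2, 3, 1, 2, 3, 2, 1] .leaf)) 1605 [5, 4, 3, 2, 3, 5, 3, 2, 3, 1, 2, 3, 2, 1] (.node (.node .leaf 1606 [6, 4, 3, 2, 3, 5, 3, 2, 3, 1, 2, 3, 2, 1] .leaf) 1607 [6, 5, 3, 2, 3, 5, 3, 2, 3, 1, 2, 3, 2, 1] (.node .leaf 1608 [3, 6, 3, 2, 3, 5, 3, 2, 3, 1, 2, 3, 2, 1] .leaf)))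

def lev2T0_212 : WTree := (.node (.node (.node .leaf 1610 [2, 3, 1, 2, 3, 6, 3, 2, 3, 1, 2, 3, 2, 1] .leaf) 1611 [6, 3, 1, 2, 3, 6, 3, 2, 3, 1, 2, 3, 2, 1] (.node .leaf 1612 [1, 2, 3, 2, 3, 6, 3, 2, 3, 1, 2, 3, 2, 1] .leaf)) 1613 [4, 2, 3, 2, 3, 6, 3, 2, 3, 1, 2, 3, 2, 1] (.node (.node .leaf 1614 [5, 2, 3, 2, 3, 6, 3, 2, 3, 1, 2, 3, 2, 1] .leaf) 1615 [6, 2, 3, 2, 3, 6, 3, 2, 3, 1, 2, 3, 2, 1] (.node .leaf 1616 [5, 4, 3, 2, 3, 6, 3, 2, 3, 1, 2, 3, 2, 1] .leaf)))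

def lev2T0_213 : WTree := (.node (.node (.node .leaf 1618 [5, 3, 0, 1, 2, 3, 5, 2, 3, 1, 2, 3, 2, 1] .leaf) 1619 [5, 2, 3, 1, 2, 3, 5, 2, 3, 1, 2, 3, 2, 1] (.node .leaf 1620 [3, 4, 3, 1, 2, 3, 5, 2, 3, 1, 2, 3, 2, 1] .leaf)) 1621 [5, 4, 3, 1, 2, 3, 5, 2, 3, 1, 2, 3, 2, 1] (.node (.node .leaf 1622 [2, 3, 4, 1, 2, 3, 5, 2, 3, 1, 2, 3, 2, 1] .leaf) 1623 [5, 3, 4, 1, 2, 3, 5, 2, 3, 1, 2, 3, 2, 1] (.node .leaf 1624 [3, 6, 4, 1, 2, 3, 5, 2, 3, 1, 2, 3, 2, 1] .leaf)))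

def lev2T0_214 : WTree := (.node (.node (.node .leaf 1626 [3, 6, 2, 3, 2, 3, 5, 2, 3, 1, 2, 3, 2, 1] .leaf) 1627 [2, 3, 4, 3, 2, 3, 5, 2, 3, 1, 2, 3, 2, 1] (.node .leaf 1628 [5, 3, 4, 3, 2, 3, 5, 2, 3, 1, 2, 3, 2, 1] .leaf)) 1629 [6, 3, 4, 3, 2, 3, 5, 2, 3, 1, 2, 3, 2, 1] (.node (.node .leaf 1630 [3, 6, 5, 3, 2, 3, 5, 2, 3, 1, 2, 3, 2, 1] .leaf) 1631 [1, 2, 3, 4, 2, 3, 5, 2, 3, 1, 2, 3, 2, 1] (.node .leaf 1632 [3, 2, 3, 4, 2, 3, 5, 2, 3, 1, 2, 3, 2, 1] .leaf)))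

def lev2T0_215 : WTree := (.node (.node (.node .leaf 1634 [6, 5, 3, 4, 2, 3, 5, 2, 3, 1, 2, 3, 2, 1] .leaf) 1635 [5, 6, 3, 4, 2, 3, 5, 2, 3, 1, 2, 3, 2, 1] (.node .leaf 1636 [5, 3, 6, 4, 2, 3, 5, 2, 3, 1, 2, 3, 2, 1] .leaf)) 1637 [1, 2, 3, 5, 6, 3, 5, 2, 3, 1, 2, 3, 2, 1] (.node (.node .leaf 1638 [3, 2, 3, 5, 6, 3, 5, 2, 3, 1, 2, 3, 2, 1] .leaf) 1639 [3, 5, 4, 2, 3, 6, 5, 2, 3, 1, 2, 3, 2, 1] (.node .leaf 1640 [2, 3, 5, 4, 3, 6, 5, 2, 3, 1, 2, 3, 2, 1] .leaf)))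

def lev2T0_216 : WTree := (.node (.node (.node .leaf 1642 [2, 3, 6, 5, 3, 6, 5, 2, 3, 1, 2, 3, 2, 1] .leaf) 1643 [4, 3, 6, 5, 3, 6, 5, 2, 3, 1, 2, 3, 2, 1] (.node .leaf 1644 [3, 4, 3, 1, 2, 3, 6, 2, 3, 1, 2, 3, 2, 1] .leaf)) 1645 [2, 3, 4, 1, 2, 3, 6, 2, 3, 1, 2, 3, 2, 1] (.node (.node .leaf 1646 [2, 3, 4, 3, 2, 3, 6, 2, 3, 1, 2, 3, 2, 1] .leaf) 1647 [5, 3, 4, 3, 2, 3, 6, 2, 3, 1, 2, 3, 2, 1] (.node .leaf 1648 [1, 2, 3, 4, 2, 3, 6, 2, 3, 1, 2, 3, 2, 1] .leaf)))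

def lev2T0_217 : WTree := (.node (.node (.node .leaf 1650 [5, 2, 3, 4, 2, 3, 6, 2, 3, 1, 2, 3, 2, 1] .leaf) 1651 [5, 6, 3, 4, 2, 3, 6, 2, 3, 1, 2, 3, 2, 1] (.node .leaf 1652 [1, 2, 3, 5, 4, 3, 6, 2, 3, 1, 2, 3, 2, 1] .leaf)) 1653 [4, 2, 3, 5, 4, 3, 6, 2, 3, 1, 2, 3, 2, 1] (.node (.node .leaf 1654 [2, 3, 2, 3, 5, 3, 6, 2, 3, 1, 2, 3, 2, 1] .leaf) 1655 [5, 3, 2, 3, 5, 3, 6, 2, 3, 1, 2, 3, 2, 1] (.node .leaf 1656 [6, 3, 2, 3, 5, 3, 6, 2, 3, 1, 2, 3, 2, 1] .leaf)))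

def lev2T0_218 : WTree := (.node (.node (.node .leaf 1658 [1, 2, 3, 6, 5, 3, 6, 2, 3, 1, 2, 3, 2, 1] .leaf) 1659 [3, 2, 3, 6, 5, 3, 6, 2, 3, 1, 2, 3, 2, 1] (.node .leaf 1660 [4, 2, 3, 2, 3, 5, 6, 2, 3, 1, 2, 3, 2, 1] .leaf)) 1661 [5, 2, 3, 2, 3, 5, 6, 2, 3, 1, 2, 3, 2, 1] (.node (.node .leaf 1662 [3, 4, 3, 2, 3, 5, 6, 2, 3, 1, 2, 3, 2, 1] .leaf) 1663 [5, 4, 3, 2, 3, 5, 6, 2, 3, 1, 2, 3, 2, 1] (.node .leaf 1664 [6, 5, 3, 2, 3, 5, 6, 2, 3, 1, 2, 3, 2, 1] .leaf)))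

def lev2T0_219 : WTree := (.node (.node (.node .leaf 1666 [0, 1, 2, 3, 2, 3, 5, 4, 3, 1, 2, 3, 2, 1] .leaf) 1667 [3, 1, 2, 3, 2, 3, 5, 4, 3, 1, 2, 3, 2, 1] (.node .leaf 1668 [4, 1, 2, 3, 2, 3, 5, 4, 3, 1, 2, 3, 2, 1] .leaf)) 1669 [5, 1, 2, 3, 2, 3, 5, 4, 3, 1, 2, 3, 2, 1] (.node (.node .leaf 1670 [4, 3, 2, 3, 2, 3, 5, 4, 3, 1, 2, 3, 2, 1] .leaf) 1671 [5, 3, 2, 3, 2, 3, 5, 4, 3, 1, 2, 3, 2, 1] (.node .leaf 1672 [6, 3, 2, 3, 2, 3, 5, 4, 3, 1, 2, 3, 2, 1] .leaf)))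

def lev2T0_220 : WTree := (.node (.node (.node (.node lev2T0_204 1553 [6, 4, 3, 2, 3, 5, 2, 3, 0, 1, 2, 3, 2, 1] lev2T0_205) 1561 [3, 5, 4, 3, 6, 5, 2, 3, 0, 1, 2, 3, 2, 1] (.node lev2T0_206 1569 [3, 4, 2, 3, 5, 6, 2, 3, 0, 1, 2, 3, 2, 1] lev2T0_207)) 1577 [1, 2, 3, 2, 3, 6, 4, 3, 0, 1, 2, 3, 2, 1] (.node (.node lev2T0_208 1585 [3, 5, 4, 3, 2, 3, 5, 3, 0, 1, 2, 3, 2, 1] lev2T0_209) 1593 [2, 3, 6, 4, 3, 2, 3, 5, 0, 1, 2, 3, 2, 1] (.node lev2T0_210 1601 [3, 6, 1, 2, 3, 5, 3, 2, 3, 1, 2, 3, 2, 1] lev2T0_211))) 1609 [5, 6, 3, 2, 3, 5, 3, 2, 3, 1, 2, 3, 2, 1] (.node (.node (.node lev2T0_212 1617 [5, 6, 3, 2, 3, 6, 3, 2, 3, 1, 2, 3, 2, 1] lev2T0_213) 1625 [3, 4, 2, 3, 2, 3, 5, 2, 3, 1, 2, 3, 2, 1] (.node lev2T0_214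 1633 [5, 2, 3, 4, 2, 3, 5, 2, 3, 1, 2, 3, 2, 1] lev2T0_215)) 1641 [6, 3, 5, 4, 3, 6, 5, 2, 3, 1, 2, 3, 2, 1] (.node (.node lev2T0_216 1649 [3, 2, 3, 4, 2, 3, 6, 2, 3, 1, 2, 3, 2, 1] lev2T0_217) 1657 [2, 3, 6, 3, 5, 3, 6, 2, 3, 1, 2, 3, 2, 1] (.node lev2T0_218 1665 [3, 4, 3, 1, 2, 3, 5, 4, 3, 1, 2, 3, 2, 1] lev2T0_219))))

def lev2T0_221 : WTree := (.node (.node (.node .leaf 1674 [5, 4, 2, 3, 2, 3, 5, 4, 3, 1, 2, 3, 2, 1] .leaf) 1675 [6, 4, 2, 3, 2, 3, 5, 4, 3, 1, 2, 3, 2, 1] (.node .leaf 1676 [3, 5, 2, 3, 2, 3, 5, 4, 3, 1, 2, 3, 2, 1] .leaf)) 1677 [3, 6, 2, 3, 2, 3, 5, 4, 3, 1, 2, 3, 2, 1] (.node (.node .leaf 1678 [2, 3, 4, 3, 2, 3, 5, 4, 3, 1, 2, 3, 2, 1] .leaf) 1679 [6, 3, 4, 3, 2, 3, 5, 4, 3, 1, 2, 3, 2,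 1] (.node .leaf 1680 [1, 2, 3, 4, 2, 3, 5, 4, 3, 1, 2, 3, 2, 1] .leaf)))

def lev2T0_222 : WTree := (.node (.node (.node .leaf 1682 [6, 2, 3, 4, 2, 3, 5, 4, 3, 1, 2, 3, 2, 1] .leaf) 1683 [1, 2, 3, 1, 2, 3, 6, 4, 3, 1, 2, 3, 2, 1] (.node .leaf 1684 [4, 2, 3, 1, 2, 3, 6, 4, 3, 1, 2, 3, 2, 1] .leaf)) 1685 [5, 2, 3, 1, 2, 3, 6, 4, 3, 1, 2, 3, 2, 1] (.node (.node .leaf 1686 [6, 2, 3, 1, 2, 3, 6, 4, 3, 1, 2, 3, 2, 1] .leaf) 1687 [5, 4, 3, 1, 2, 3, 6, 4, 3, 1, 2, 3, 2, 1] (.node .leaf 1688 [6, 4, 3, 1, 2, 3, 6, 4, 3, 1, 2, 3, 2, 1] .leaf)))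

def lev2T0_223 : WTree := (.node (.node (.node .leaf 1690 [5, 6, 3, 1, 2, 3, 6, 4, 3, 1, 2, 3, 2, 1] .leaf) 1691 [0, 1, 2, 3, 2, 3, 6, 4, 3, 1, 2, 3, 2, 1] (.node .leaf 1692 [3, 1, 2, 3, 2, 3, 6, 4, 3, 1, 2, 3, 2, 1] .leaf)) 1693 [5, 1, 2, 3, 2, 3, 6, 4, 3, 1, 2, 3, 2, 1] (.node (.node .leaf 1694 [6, 1, 2, 3, 2, 3, 6, 4, 3, 1, 2, 3, 2, 1] .leaf) 1695 [5, 3, 2, 3, 2, 3, 6, 4, 3, 1, 2, 3, 2, 1] (.node .leaf 1696 [3, 5, 4, 3, 2, 3, 6, 4, 3, 1, 2, 3, 2, 1] .leaf)))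

def lev2T0_224 : WTree := (.node (.node (.node .leaf 1698 [3, 6, 5, 3, 2, 3, 6, 4, 3, 1, 2, 3, 2, 1] .leaf) 1699 [2, 3, 5, 4, 3, 2, 3, 5, 3, 1, 2, 3, 2, 1] (.node .leaf 1700 [6, 3, 5, 4, 3, 2, 3, 5, 3, 1, 2, 3, 2, 1] .leaf)) 1701 [2, 3, 2, 3, 4, 2, 3, 5, 3, 1, 2, 3, 2, 1] (.node (.node .leaf 1702 [4, 2, 3, 1, 2, 3, 5, 6, 3, 1, 2, 3, 2, 1] .leaf) 1703 [3, 1, 2, 3, 2, 3, 5, 6, 3, 1, 2, 3, 2, 1] (.node .leaf 1704 [4, 1, 2, 3, 2, 3, 5, 6, 3, 1, 2, 3, 2, 1] .leaf)))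

def lev2T0_225 : WTree := (.node (.node (.node .leaf 1706 [5, 3, 2, 3, 2, 3, 5, 6, 3, 1, 2, 3, 2, 1] .leaf) 1707 [3, 4, 2, 3, 2, 3, 5, 6, 3, 1, 2, 3, 2, 1] (.node .leaf 1708 [3, 5, 4, 3, 2, 3, 5, 6, 3, 1, 2, 3, 2, 1] .leaf)) 1709 [3, 6, 5, 3, 2, 3, 5, 6, 3, 1, 2, 3, 2, 1] (.node (.node .leaf 1710 [1, 2, 3, 5, 2, 3, 2, 3, 5, 1, 2, 3, 2, 1] .leaf) 1711 [2, 3, 6, 3, 4, 3, 2, 3, 5, 1, 2, 3, 2, 1] (.node .leaf 1712 [5, 3, 6, 3, 4, 3, 2, 3, 5, 1, 2, 3, 2, 1] .leaf)))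

def lev2T0_226 : WTree := (.node (.node (.node .leaf 1714 [6, 2, 3, 5, 4, 3, 2, 3, 5, 1, 2, 3, 2, 1] .leaf) 1715 [3, 2, 3, 6, 4, 3, 2, 3, 5, 1, 2, 3, 2, 1] (.node .leaf 1716 [4, 2, 3, 6, 4, 3, 2, 3, 5, 1, 2, 3, 2, 1] .leaf)) 1717 [5, 2, 3, 6, 4, 3, 2, 3, 5, 1, 2, 3, 2, 1] (.node (.node .leaf 1718 [5, 4, 3, 6, 4, 3, 2, 3, 5, 1, 2, 3, 2, 1] .leaf) 1719 [1, 2, 3, 5, 6, 3, 2, 3, 5, 1, 2, 3, 2, 1] (.node .leaf 1720 [3, 2, 3, 5, 6, 3, 2, 3, 5, 1, 2, 3, 2, 1] .leaf)))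

def lev2T0_227 : WTree := (.node (.node (.node .leaf 1722 [6, 4, 3, 5, 6, 3, 2, 3, 5, 1, 2, 3, 2, 1] .leaf) 1723 [2, 3, 5, 4, 3, 6, 2, 3, 5, 1, 2, 3, 2, 1] (.node .leaf 1724 [6, 3, 5, 4, 3, 6, 2, 3, 5, 1, 2, 3, 2, 1] .leaf)) 1725 [1, 2, 3, 2, 3, 5, 6, 3, 5, 1, 2, 3, 2, 1] (.node (.node .leaf 1726 [4, 2, 3, 2, 3, 5, 6, 3, 5, 1, 2, 3, 2, 1] .leaf) 1727 [5, 2, 3, 2, 3, 5, 6, 3, 5, 1, 2, 3, 2, 1] (.node .leaf 1728 [3, 2, 3, 6, 2, 3, 1, 2, 3, 5, 4, 3, 2, 1] .leaf)))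

def lev2T0_228 : WTree := (.node (.node (.node .leaf 1730 [4, 3, 5, 2, 3, 1, 2, 3, 0, 1, 2, 3, 6, 1] .leaf) 1731 [2, 3, 5, 4, 3, 1, 2, 3, 0, 1, 2, 3, 6, 1] (.node .leaf 1732 [1, 2, 3, 5, 3, 1, 2, 3, 0, 1, 2, 3, 6, 1] .leaf)) 1733 [3, 4, 2, 3, 5, 1, 2, 3, 0, 1, 2, 3, 6, 1] (.node (.node .leaf 1734 [3, 4, 2, 3, 6, 1, 2, 3, 0, 1, 2, 3, 6, 1] .leaf) 1735 [1, 2, 3, 5, 4, 3, 2, 3, 0, 1, 2, 3, 6, 1] (.node .leaf 1736 [4, 2, 3, 5, 4, 3, 2, 3, 0, 1, 2, 3, 6, 1] .leaf)))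

def lev2T0_229 : WTree := (.node (.node (.node .leaf 1738 [3, 1, 2, 3, 5, 3, 2, 3, 0, 1, 2, 3, 6, 1] .leaf) 1739 [4, 1, 2, 3, 5, 3, 2, 3, 0, 1, 2, 3, 6, 1] (.node .leaf 1740 [4, 3, 2, 3, 5, 3, 2, 3, 0, 1, 2, 3, 6, 1] .leaf)) 1741 [5, 3, 2, 3, 5, 3, 2, 3, 0, 1, 2, 3, 6, 1] (.node (.node .leaf 1742 [5, 3, 2, 3, 6, 3, 2, 3, 0, 1, 2, 3, 6, 1] .leaf) 1743 [2, 3, 5, 3, 6, 3, 2, 3, 0, 1, 2, 3, 6, 1] (.node .leaf 1744 [3, 0, 1, 2, 3, 5, 2, 3, 0, 1, 2, 3, 6, 1] .leaf)))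

def lev2T0_230 : WTree := (.node (.node (.node .leaf 1746 [5, 3, 1, 2, 3, 5, 2, 3, 0, 1, 2, 3, 6, 1] .leaf) 1747 [6, 3, 1, 2, 3, 5, 2, 3, 0, 1, 2, 3, 6, 1] (.node .leaf 1748 [3, 4, 1, 2, 3, 5, 2, 3, 0, 1, 2, 3, 6, 1] .leaf)) 1749 [6, 4, 3, 2, 3, 5, 2, 3, 0, 1, 2, 3, 6, 1] (.node (.node .leaf 1750 [5, 6, 3, 2, 3, 5, 2, 3, 0, 1, 2, 3, 6, 1] .leaf) 1751 [2, 3, 1, 2, 3, 6, 2, 3, 0, 1, 2, 3, 6, 1] (.node .leaf 1752 [3, 4, 1, 2, 3, 6, 2, 3, 0, 1, 2, 3, 6, 1] .leaf)))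

def lev2T0_231 : WTree := (.node (.node (.node .leaf 1754 [2, 3, 5, 4, 3, 2, 3, 5, 0, 1, 2, 3, 6, 1] .leaf) 1755 [2, 3, 6, 4, 3, 2, 3, 5, 0, 1, 2, 3, 6, 1] (.node .leaf 1756 [2, 3, 6, 0, 1, 2, 3, 2, 3, 1, 2, 3, 6, 1] .leaf)) 1757 [3, 2, 3, 6, 1, 2, 3, 2, 3, 1, 2, 3, 6, 1] (.node (.node .leaf 1758 [2, 3, 5, 3, 4, 2, 3, 2, 3, 1, 2, 3, 6, 1] .leaf) 1759 [1, 2, 3, 5, 4, 2, 3, 2, 3, 1, 2, 3, 6, 1] (.node .leaf 1760 [4, 2, 3, 5, 4, 2, 3, 2, 3, 1, 2, 3, 6, 1] .leaf)))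

def lev2T0_232 : WTree := (.node (.node (.node .leaf 1762 [4, 3, 2, 3, 5, 2, 3, 2, 3, 1, 2, 3, 6, 1] .leaf) 1763 [4, 3, 5, 2, 3, 4, 3, 2, 3, 1, 2, 3, 6, 1] (.node .leaf 1764 [1, 2, 3, 5, 3, 4, 3, 2, 3, 1, 2, 3, 6, 1] .leaf)) 1765 [0, 1, 2, 3, 5, 4, 3, 2, 3, 1, 2, 3, 6, 1] (.node (.node .leaf 1766 [3, 1, 2, 3, 5, 4, 3, 2, 3, 1, 2, 3, 6, 1] .leaf) 1767 [4, 1, 2, 3, 5, 4, 3, 2, 3, 1, 2, 3, 6, 1] (.node .leaf 1768 [4, 3, 2, 3, 5, 4, 3, 2, 3, 1, 2, 3, 6, 1] .leaf)))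

def lev2T0_233 : WTree := (.node (.node (.node .leaf 1770 [2, 3, 1, 2, 3, 5, 3, 2, 3, 1, 2, 3, 6, 1] .leaf) 1771 [5, 3, 1, 2, 3, 5, 3, 2, 3, 1, 2, 3, 6, 1] (.node .leaf 1772 [6, 3, 1, 2, 3, 5, 3, 2, 3, 1, 2, 3, 6, 1] .leaf)) 1773 [3, 2, 3, 2, 3, 5, 3, 2, 3, 1, 2, 3, 6, 1] (.node (.node .leaf 1774 [6, 4, 3, 2, 3, 5, 3, 2, 3, 1, 2, 3, 6, 1] .leaf) 1775 [4, 1, 2, 3, 6, 5, 3, 2, 3, 1, 2, 3, 6, 1] (.node .leaf 1776 [5, 3, 1, 2, 3, 6, 3, 2, 3, 1, 2, 3, 6, 1] .leaf)))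

def lev2T0_234 : WTree := (.node (.node (.node .leaf 1778 [4, 2, 3, 5, 2, 3, 4, 2, 3, 1, 2, 3, 6, 1] .leaf) 1779 [1, 2, 3, 6, 5, 3, 4, 2, 3, 1, 2, 3, 6, 1] (.node .leaf 1780 [2, 3, 1, 2, 3, 5, 4, 2, 3, 1, 2, 3, 6, 1] .leaf)) 1781 [4, 3, 1, 2, 3, 5, 4, 2, 3, 1, 2, 3, 6, 1] (.node (.node .leaf 1782 [6, 3, 1, 2, 3, 5, 4, 2, 3, 1, 2, 3, 6, 1] .leaf) 1783 [2, 3, 1, 2, 3, 6, 4, 2, 3, 1, 2, 3, 6, 1] (.node .leaf 1784 [1, 2, 3, 2, 3, 6, 4, 2, 3, 1, 2, 3, 6, 1] .leaf)))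

def lev2T0_235 : WTree := (.node (.node (.node .leaf 1786 [5, 2, 3, 2, 3, 6, 4, 2, 3, 1, 2, 3, 6, 1] .leaf) 1787 [6, 3, 0, 1, 2, 3, 5, 2, 3, 1, 2, 3, 6, 1] (.node .leaf 1788 [6, 2, 3, 1, 2, 3, 5, 2, 3, 1, 2, 3, 6, 1] .leaf)) 1789 [6, 4, 3, 1, 2, 3, 5, 2, 3, 1, 2, 3, 6, 1] (.node (.node .leaf 1790 [5, 6, 3, 1, 2, 3, 5, 2, 3, 1, 2, 3, 6, 1] .leaf) 1791 [2, 3, 0, 1, 2, 3, 6, 2, 3, 1, 2, 3, 6, 1] (.node .leaf 1792 [3, 2, 3, 1, 2, 3, 6, 2, 3, 1, 2, 3, 6, 1] .leaf)))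

def lev2T0_236 : WTree := (.node (.node (.node .leaf 1794 [2, 3, 4, 1, 2, 3, 6, 2, 3, 1, 2, 3, 6, 1] .leaf) 1795 [1, 2, 3, 4, 2, 3, 6, 2, 3, 1, 2, 3, 6, 1] (.node .leaf 1796 [3, 2, 3, 4, 2, 3, 6, 2, 3, 1, 2, 3, 6, 1] .leaf)) 1797 [0, 1, 2, 3, 2, 3, 6, 4, 3, 1, 2, 3, 6, 1] (.node (.node .leaf 1798 [3, 1, 2, 3, 2, 3, 6, 4, 3, 1, 2, 3, 6, 1] .leaf) 1799 [6, 1, 2, 3, 2, 3, 6, 4, 3, 1, 2, 3, 6, 1] (.node .leaf 1800 [3, 5, 4, 3, 2, 3, 6, 4, 3, 1, 2, 3, 6, 1] .leaf)))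

def lev2T0_237 : WTree := (.node (.node (.node (.node lev2T0_221 1681 [5, 2, 3, 4, 2, 3, 5, 4, 3, 1, 2, 3, 2, 1] lev2T0_222) 1689 [6, 5, 3, 1, 2, 3, 6, 4, 3, 1, 2, 3, 2, 1] (.node lev2T0_223 1697 [3, 6, 4, 3, 2, 3, 6, 4, 3, 1, 2, 3, 2, 1] lev2T0_224)) 1705 [4, 3, 2, 3, 2, 3, 5, 6, 3, 1, 2, 3, 2, 1] (.node (.node lev2T0_225 1713 [1, 2, 3, 5, 4, 3, 2, 3, 5, 1, 2, 3, 2, 1] lev2T0_226) 1721 [6, 2, 3, 5, 6, 3, 2, 3, 5, 1, 2, 3, 2, 1] (.node lev2T0_227 1729 [2, 3, 5, 2, 3, 1, 2, 3, 0, 1, 2, 3, 6, 1] lev2T0_228))) 1737 [0, 1, 2, 3, 5, 3, 2, 3, 0, 1, 2, 3, 6, 1] (.node (.node (.node lev2T0_229 1745 [4, 3, 1, 2, 3, 5, 2, 3, 0, 1, 2, 3, 6, 1] lev2T0_230) 1753 [2, 3, 4, 2, 3, 6, 2, 3, 0, 1, 2, 3, 6, 1] (.node lev2T0_231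 1761 [2, 3, 2, 3, 5, 2, 3, 2, 3, 1, 2, 3, 6, 1] lev2T0_232)) 1769 [3, 0, 1, 2, 3, 5, 3, 2, 3, 1, 2, 3, 6, 1] (.node (.node lev2T0_233 1777 [1, 2, 3, 5, 2, 3, 4, 2, 3, 1, 2, 3, 6, 1] lev2T0_234) 1785 [4, 2, 3, 2, 3, 6, 4, 2, 3, 1, 2, 3, 6, 1] (.node lev2T0_235 1793 [5, 2, 3, 1, 2, 3, 6, 2, 3, 1, 2, 3, 6, 1] lev2T0_236))))

def lev2T0_238 : WTree := (.node (.node (.node (.node .leaf 1802 [2, 3, 6, 3, 4, 3, 2, 3, 5, 1, 2, 3, 6, 1] .leaf) 1803 [5, 3, 6, 3, 4, 3, 2, 3, 5, 1, 2, 3, 6, 1] .leaf) 1804 [1, 2, 3, 5, 4, 3, 2, 3, 5, 1, 2, 3, 6, 1] (.node .leaf 1805 [1, 2, 3, 6, 4, 3, 2, 3, 5, 1, 2, 3, 6, 1] .leaf)) 1806 [3, 2, 3, 6, 4, 3, 2, 3, 5, 1, 2, 3, 6, 1] (.node (.node .leaf 1807 [4, 2, 3, 6, 4, 3, 2, 3, 5, 1, 2,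 3, 6, 1] .leaf) 1808 [2, 3, 5, 2, 3, 4, 2, 3, 5, 1, 2, 3, 6, 1] (.node .leaf 1809 [5, 3, 6, 5, 3, 6, 2, 3, 5, 1, 2, 3, 6, 1] .leaf)))

def lev2T0_239 : WTree := (.node (.node (.node .leaf 1811 [3, 2, 3, 5, 4, 3, 1, 2, 3, 0, 1, 2, 3, 6] .leaf) 1812 [6, 2, 3, 5, 4, 3, 1, 2, 3, 0, 1, 2, 3, 6] (.node .leaf 1813 [2, 3, 5, 0, 1, 2, 3, 2, 3, 0, 1, 2, 3, 6] .leaf)) 1814 [1, 2, 3, 2, 3, 6, 3, 2, 3, 0, 1, 2, 3, 6] (.node (.node .leaf 1815 [5, 2, 3, 2, 3, 6, 3, 2, 3, 0, 1, 2, 3, 6] .leaf) 1816 [1, 2, 3, 5, 3, 6, 3, 2, 3, 0, 1, 2, 3, 6] (.node .leaf 1817 [0, 1, 2, 3, 5, 6, 3, 2, 3, 0, 1, 2, 3, 6] .leaf)))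

def lev2T0_240 : WTree := (.node (.node (.node .leaf 1819 [6, 1, 2, 3, 5, 6, 3, 2, 3, 0, 1, 2, 3, 6] .leaf) 1820 [6, 4, 2, 3, 5, 6, 3, 2, 3, 0, 1, 2, 3, 6] (.node .leaf 1821 [3, 6, 2, 3, 5, 6, 3, 2, 3, 0, 1, 2, 3, 6] .leaf)) 1822 [3, 2, 3, 1, 2, 3, 6, 2, 3, 0, 1, 2, 3, 6] (.node (.node .leaf 1823 [4, 2, 3, 1, 2, 3, 6, 2, 3, 0, 1, 2, 3, 6] .leaf) 1824 [5, 3, 4, 3, 2, 3, 6, 2, 3, 0, 1, 2, 3, 6] (.node .leaf 1825 [1, 2, 3, 0, 1, 2, 3, 1, 2, 3, 1, 2, 3, 6] .leaf)))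

def lev2T0_241 : WTree := (.node (.node (.node .leaf 1827 [4, 3, 2, 3, 1, 2, 3, 1, 2, 3, 1, 2, 3, 6] .leaf) 1828 [3, 4, 2, 3, 1, 2, 3, 1, 2, 3, 1, 2, 3, 6] (.node .leaf 1829 [2, 3, 4, 3, 1, 2, 3, 1, 2, 3, 1, 2, 3, 6] .leaf)) 1830 [5, 3, 4, 3, 1, 2, 3, 1, 2, 3, 1, 2, 3, 6] (.node (.node .leaf 1831 [2, 3, 6, 3, 1, 2, 3, 1, 2, 3, 1, 2, 3, 6] .leaf) 1832 [6, 2, 3, 4, 1, 2, 3, 1, 2, 3, 1, 2, 3, 6] (.node .leaf 1833 [5, 6, 3, 4, 1, 2, 3, 1, 2, 3, 1, 2, 3, 6] .leaf)))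

def lev2T0_242 : WTree := (.node (.node (.node .leaf 1835 [3, 2, 3, 6, 1, 2, 3, 1, 2, 3, 1, 2, 3, 6] .leaf) 1836 [1, 2, 3, 6, 3, 2, 3, 1, 2, 3, 1, 2, 3, 6] (.node .leaf 1837 [4, 1, 2, 3, 6, 2, 3, 1, 2, 3, 1, 2, 3, 6] .leaf)) 1838 [5, 1, 2, 3, 6, 2, 3, 1, 2, 3, 1, 2, 3, 6] (.node (.node .leaf 1839 [3, 4, 2, 3, 6, 2, 3, 1, 2, 3, 1, 2, 3, 6] .leaf) 1840 [3, 5, 2, 3, 6, 2, 3, 1, 2, 3, 1, 2, 3, 6] (.node .leaf 1841 [3, 2, 3, 5, 3, 4, 3, 1, 2, 3, 1, 2, 3, 6] .leaf)))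

def lev2T0_243 : WTree := (.node (.node (.node .leaf 1843 [6, 1, 2, 3, 5, 6, 3, 1, 2, 3, 1, 2, 3, 6] .leaf) 1844 [3, 2, 3, 1, 2, 3, 4, 1, 2, 3, 1, 2, 3, 6] (.node .leaf 1845 [4, 2, 3, 1, 2, 3, 4, 1, 2, 3, 1, 2, 3, 6] .leaf)) 1846 [5, 2, 3, 1, 2, 3, 4, 1, 2, 3, 1, 2, 3, 6] (.node (.node .leaf 1847 [5, 4, 3, 1, 2, 3, 4, 1, 2, 3, 1, 2, 3, 6] .leaf) 1848 [6, 5, 3, 1, 2, 3, 4, 1, 2, 3, 1, 2, 3, 6] (.node .leaf 1849 [3, 2, 3, 5, 0, 1, 2, 3, 2, 3, 1, 2, 3, 6] .leaf)))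

def lev2T0_244 : WTree := (.node (.node (.node .leaf 1851 [3, 2, 3, 6, 0, 1, 2, 3, 2, 3, 1, 2, 3, 6] .leaf) 1852 [2, 3, 5, 4, 3, 1, 2, 3, 2, 3, 1, 2, 3, 6] (.node .leaf 1853 [1, 2, 3, 5, 3, 1, 2, 3, 2, 3, 1, 2, 3, 6] .leaf)) 1854 [4, 2, 3, 5, 3, 1, 2, 3, 2, 3, 1, 2, 3, 6] (.node (.node .leaf 1855 [4, 1, 2, 3, 5, 1, 2, 3, 2, 3, 1, 2, 3, 6] .leaf) 1856 [3, 6, 2, 3, 5, 1, 2, 3, 2, 3, 1, 2, 3, 6] (.node .leaf 1857 [3, 1, 2, 3, 6, 1, 2, 3, 2, 3, 1, 2, 3, 6] .leaf)))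

def lev2T0_245 : WTree := (.node (.node (.node .leaf 1859 [4, 3, 2, 3, 6, 1, 2, 3, 2, 3, 1, 2, 3, 6] .leaf) 1860 [5, 3, 2, 3, 6, 1, 2, 3, 2, 3, 1, 2, 3, 6] (.node .leaf 1861 [1, 2, 3, 5, 4, 3, 2, 3, 2, 3, 1, 2, 3, 6] .leaf)) 1862 [4, 2, 3, 5, 4, 3, 2, 3, 2, 3, 1, 2, 3, 6] (.node (.node .leaf 1863 [3, 1, 2, 3, 5, 3, 2, 3, 2, 3, 1, 2, 3, 6] .leaf) 1864 [1, 2, 3, 2, 3, 6, 2, 3, 2, 3, 1, 2, 3, 6] (.node .leaf 1865 [4, 3, 5, 3, 2, 3, 4, 3, 2, 3, 1, 2, 3, 6] .leaf)))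

def lev2T0_246 : WTree := (.node (.node (.node .leaf 1867 [3, 6, 1, 2, 3, 5, 6, 3, 2, 3, 1, 2, 3, 6] .leaf) 1868 [5, 3, 6, 4, 3, 2, 3, 6, 4, 3, 1, 2, 3, 6] (.node .leaf 1869 [2, 3, 6, 5, 3, 2, 3, 6, 4, 3, 1, 2, 3, 6] .leaf)) 1870 [5, 3, 6, 5, 3, 2, 3, 6, 4, 3, 1, 2, 3, 6] (.node (.node .leaf 1871 [2, 3, 1, 2, 3, 5, 1, 2, 3, 0, 1, 2, 3, 2, 1] .leaf) 1872 [4, 3, 1, 2, 3, 5, 1, 2, 3, 0, 1, 2, 3, 2, 1] (.node .leaf 1873 [5, 3, 1, 2, 3, 5, 1, 2, 3, 0, 1, 2, 3, 2, 1] .leaf)))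

def lev2T0_247 : WTree := (.node (.node (.node .leaf 1875 [3, 6, 1, 2, 3, 5, 1, 2, 3, 0, 1, 2, 3, 2, 1] .leaf) 1876 [5, 4, 3, 2, 3, 5, 1, 2, 3, 0, 1, 2, 3, 2, 1] (.node .leaf 1877 [6, 4, 3, 2, 3, 5, 1, 2, 3, 0, 1, 2, 3, 2, 1] .leaf)) 1878 [6, 5, 3, 2, 3, 5, 1, 2, 3, 0, 1, 2, 3, 2, 1] (.node (.node .leaf 1879 [3, 6, 3, 2, 3, 5, 1, 2, 3, 0, 1, 2, 3, 2, 1] .leaf) 1880 [5, 6, 3, 2, 3, 5, 1, 2, 3, 0, 1, 2, 3, 2, 1] (.node .leaf 1881 [4, 3, 0, 1, 2, 3, 5, 2, 3, 0, 1, 2, 3, 2, 1] .leaf)))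

def lev2T0_248 : WTree := (.node (.node (.node .leaf 1883 [3, 4, 3, 1, 2, 3, 5, 2, 3, 0, 1, 2, 3, 2, 1] .leaf) 1884 [5, 4, 3, 1, 2, 3, 5, 2, 3, 0, 1, 2, 3, 2, 1] (.node .leaf 1885 [2, 3, 4, 1, 2, 3, 5, 2, 3, 0, 1, 2, 3, 2, 1] .leaf)) 1886 [5, 3, 4, 1, 2, 3, 5, 2, 3, 0, 1, 2, 3, 2, 1] (.node (.node .leaf 1887 [6, 3, 4, 1, 2, 3, 5, 2, 3, 0, 1, 2, 3, 2, 1] .leaf) 1888 [2, 3, 4, 3, 2, 3, 5, 2, 3, 0, 1, 2, 3, 2, 1] (.node .leaf 1889 [6, 3, 4, 3, 2, 3, 5, 2, 3, 0, 1, 2, 3, 2, 1] .leaf)))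

def lev2T0_249 : WTree := (.node (.node (.node .leaf 1891 [3, 2, 3, 4, 2, 3, 5, 2, 3, 0, 1, 2, 3, 2, 1] .leaf) 1892 [5, 2, 3, 4, 2, 3, 5, 2, 3, 0, 1, 2, 3, 2, 1] (.node .leaf 1893 [6, 2, 3, 4, 2, 3, 5, 2, 3, 0, 1, 2, 3, 2, 1] .leaf)) 1894 [6, 5, 3, 4, 2, 3, 5, 2, 3, 0, 1, 2, 3, 2, 1] (.node (.node .leaf 1895 [5, 6, 3, 4, 2, 3, 5, 2, 3, 0, 1, 2, 3, 2, 1] .leaf) 1896 [5, 3, 6, 4, 2, 3, 5, 2, 3, 0, 1, 2, 3, 2, 1] (.node .leaf 1897 [2, 3, 5, 4, 3, 6, 5, 2, 3, 0, 1, 2, 3, 2, 1] .leaf)))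

def lev2T0_250 : WTree := (.node (.node (.node .leaf 1899 [5, 3, 2, 3, 5, 3, 6, 2, 3, 0, 1, 2, 3, 2, 1] .leaf) 1900 [2, 3, 6, 3, 5, 3, 6, 2, 3, 0, 1, 2, 3, 2, 1] (.node .leaf 1901 [1, 2, 3, 6, 5, 3, 6, 2, 3, 0, 1, 2, 3, 2, 1] .leaf)) 1902 [5, 4, 3, 2, 3, 5, 6, 2, 3, 0, 1, 2, 3, 2, 1] (.node (.node .leaf 1903 [6, 5, 3, 2, 3, 5, 6, 2, 3, 0, 1, 2, 3, 2, 1] .leaf) 1904 [4, 1, 2, 3, 2, 3, 5, 4, 3, 0, 1, 2, 3, 2, 1] (.node .leaf 1905 [6, 1, 2, 3, 2, 3, 5, 4, 3, 0, 1, 2, 3, 2, 1] .leaf)))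

def lev2T0_251 : WTree := (.node (.node (.node .leaf 1907 [5, 4, 2, 3, 2, 3, 5, 4, 3, 0, 1, 2, 3, 2, 1] .leaf) 1908 [6, 4, 2, 3, 2, 3, 5, 4, 3, 0, 1, 2, 3, 2, 1] (.node .leaf 1909 [3, 5, 2, 3, 2, 3, 5, 4, 3, 0, 1, 2, 3, 2, 1] .leaf)) 1910 [0, 1, 2, 3, 2, 3, 6, 4, 3, 0, 1, 2, 3, 2, 1] (.node (.node .leaf 1911 [5, 1, 2, 3, 2, 3, 6, 4, 3, 0, 1, 2, 3, 2, 1] .leaf) 1912 [6, 1, 2, 3, 2, 3, 6, 4, 3, 0, 1, 2, 3, 2, 1] (.node .leaf 1913 [3, 5, 4, 3, 2, 3, 6, 4, 3, 0, 1, 2, 3, 2, 1] .leaf)))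

def lev2T0_252 : WTree := (.node (.node (.node .leaf 1915 [2, 3, 5, 4, 3, 2, 3, 5, 3, 0, 1, 2, 3, 2, 1] .leaf) 1916 [1, 2, 3, 5, 4, 3, 2, 3, 5, 0, 1, 2, 3, 2, 1] (.node .leaf 1917 [6, 2, 3, 5, 4, 3, 2, 3, 5, 0, 1, 2, 3, 2, 1] .leaf)) 1918 [3, 2, 3, 6, 4, 3, 2, 3, 5, 0, 1, 2, 3, 2, 1] (.node (.node .leaf 1919 [5, 2, 3, 6, 4, 3, 2, 3, 5, 0, 1, 2, 3, 2, 1] .leaf) 1920 [4, 2, 3, 6, 5, 3, 2, 3, 5, 0, 1, 2, 3, 2, 1] (.node .leaf 1921 [3, 2, 3, 1, 2, 3, 5, 3, 2, 3, 1, 2, 3, 2, 1] .leaf)))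

def lev2T0_253 : WTree := (.node (.node (.node .leaf 1923 [5, 2, 3, 1, 2, 3, 5, 3, 2, 3, 1, 2, 3, 2, 1] .leaf) 1924 [5, 4, 3, 1, 2, 3, 5, 3, 2, 3, 1, 2, 3, 2, 1] (.node .leaf 1925 [6, 5, 3, 1, 2, 3, 5, 3, 2, 3, 1, 2, 3, 2, 1] .leaf)) 1926 [2, 3, 6, 1, 2, 3, 5, 3, 2, 3, 1, 2, 3, 2, 1] (.node (.node .leaf 1927 [4, 1, 2, 3, 2, 3, 5, 3, 2, 3, 1, 2, 3, 2, 1] .leaf) 1928 [5, 1, 2, 3, 2, 3, 5, 3, 2, 3, 1, 2, 3, 2, 1] (.node .leaf 1929 [5, 4, 2, 3, 2, 3, 5, 3, 2, 3, 1, 2, 3, 2, 1] .leaf)))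

def lev2T0_254 : WTree := (.node (.node (.node (.node lev2T0_238 1810 [6, 3, 5, 3, 2, 3, 1, 2, 3, 0, 1, 2, 3, 6] lev2T0_239) 1818 [4, 1, 2, 3, 5, 6, 3, 2, 3, 0, 1, 2, 3, 6] (.node lev2T0_240 1826 [6, 2, 3, 0, 1, 2, 3, 1, 2, 3, 1, 2, 3, 6] lev2T0_241)) 1834 [1, 2, 3, 6, 1, 2, 3, 1, 2, 3, 1, 2, 3, 6] (.node (.node lev2T0_242 1842 [3, 6, 2, 3, 5, 4, 3, 1, 2, 3, 1, 2, 3, 6] lev2T0_243) 1850 [6, 2, 3, 5, 0, 1, 2, 3, 2, 3, 1, 2, 3, 6] (.node lev2T0_244 1858 [2, 3, 2, 3, 6, 1, 2, 3, 2, 3, 1, 2, 3, 6] lev2T0_245))) 1866 [6, 4, 1, 2, 3, 5, 6, 3, 2, 3, 1, 2, 3, 6] (.node (.node (.node lev2T0_246 1874 [6, 3, 1, 2, 3, 5, 1, 2, 3, 0, 1, 2, 3, 2, 1] lev2T0_247) 1882 [5, 3, 0, 1, 2, 3, 5, 2, 3, 0, 1, 2, 3, 2, 1] (.node lev2T0_248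 1890 [1, 2, 3, 4, 2, 3, 5, 2, 3, 0, 1, 2, 3, 2, 1] lev2T0_249)) 1898 [1, 2, 3, 4, 2, 3, 6, 2, 3, 0, 1, 2, 3, 2, 1] (.node (.node lev2T0_250 1906 [3, 4, 2, 3, 2, 3, 5, 4, 3, 0, 1, 2, 3, 2, 1] lev2T0_251) 1914 [3, 6, 4, 3, 2, 3, 6, 4, 3, 0, 1, 2, 3, 2, 1] (.node lev2T0_252 1922 [4, 2, 3, 1, 2, 3, 5, 3, 2, 3, 1, 2, 3, 2, 1] lev2T0_253))))

def lev2T0_255 : WTree := (.node (.node (.node .leaf 1931 [6, 5, 2, 3, 2, 3, 5, 3, 2, 3, 1, 2, 3, 2, 1] .leaf) 1932 [3, 5, 6, 3, 2, 3, 5, 3, 2, 3, 1, 2, 3, 2, 1] (.node .leaf 1933 [1, 2, 3, 1, 2, 3, 6, 3, 2, 3, 1, 2, 3, 2, 1] .leaf)) 1934 [0, 1, 2, 3, 2, 3, 6, 3, 2, 3, 1, 2, 3, 2, 1] (.node (.node .leaf 1935 [4, 1, 2, 3, 2, 3, 6, 3, 2, 3, 1, 2, 3, 2, 1] .leaf) 1936 [5, 1, 2,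 3, 2, 3, 6, 3, 2, 3, 1, 2, 3, 2, 1] (.node .leaf 1937 [5, 4, 2, 3, 2, 3, 6, 3, 2, 3, 1, 2, 3, 2, 1] .leaf)))

def lev2T0_256 : WTree := (.node (.node (.node .leaf 1939 [3, 5, 2, 3, 1, 2, 3, 5, 2, 3, 1, 2, 3, 2, 1] .leaf) 1940 [2, 3, 4, 3, 1, 2, 3, 5, 2, 3, 1, 2, 3, 2, 1] (.node .leaf 1941 [5, 3, 4, 3, 1, 2, 3, 5, 2, 3, 1, 2, 3, 2, 1] .leaf)) 1942 [5, 2, 3, 4, 1, 2, 3, 5, 2, 3, 1, 2, 3, 2, 1] (.node (.node .leaf 1943 [6, 5, 3, 4, 1, 2, 3, 5, 2, 3, 1, 2, 3, 2, 1] .leaf) 1944 [5, 3, 6, 4, 1, 2, 3, 5, 2, 3, 1, 2, 3, 2, 1] (.node .leaf 1945 [1, 2, 3, 4, 3, 2, 3, 5, 2, 3, 1, 2, 3, 2, 1] .leaf)))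

def lev2T0_257 : WTree := (.node (.node (.node .leaf 1947 [3, 1, 2, 3, 4, 2, 3, 5, 2, 3, 1, 2, 3, 2, 1] .leaf) 1948 [5, 1, 2, 3, 4, 2, 3, 5, 2, 3, 1, 2, 3, 2, 1] (.node .leaf 1949 [3, 5, 2, 3, 4, 2, 3, 5, 2, 3, 1, 2, 3, 2, 1] .leaf)) 1950 [6, 5, 2, 3, 4, 2, 3, 5, 2, 3, 1, 2, 3, 2, 1] (.node (.node .leaf 1951 [3, 1, 2, 3, 5, 6, 3, 5, 2, 3, 1, 2, 3, 2, 1] .leaf) 1952 [2, 3, 5, 4, 2, 3, 6, 5, 2, 3, 1, 2, 3, 2, 1] (.node .leaf 1953 [1, 2, 3, 6, 5, 3, 6, 5, 2, 3, 1, 2, 3, 2, 1] .leaf)))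

def lev2T0_258 : WTree := (.node (.node (.node .leaf 1955 [1, 2, 3, 4, 1, 2, 3, 6, 2, 3, 1, 2, 3, 2, 1] .leaf) 1956 [1, 2, 3, 4, 3, 2, 3, 6, 2, 3, 1, 2, 3, 2, 1] (.node .leaf 1957 [0, 1, 2, 3, 4, 2, 3, 6, 2, 3, 1, 2, 3, 2, 1] .leaf)) 1958 [5, 1, 2, 3, 4, 2, 3, 6, 2, 3, 1, 2, 3, 2, 1] (.node (.node .leaf 1959 [5, 3, 2, 3, 4, 2, 3, 6, 2, 3, 1, 2, 3, 2, 1] .leaf) 1960 [3, 5, 2, 3, 4, 2, 3, 6, 2, 3, 1, 2, 3, 2, 1] (.node .leaf 1961 [4, 1, 2, 3, 5, 4, 3, 6, 2, 3, 1, 2, 3, 2, 1] .leaf)))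

def lev2T0_259 : WTree := (.node (.node (.node .leaf 1963 [6, 2, 3, 2, 3, 5, 3, 6, 2, 3, 1, 2, 3, 2, 1] .leaf) 1964 [5, 6, 3, 2, 3, 5, 3, 6, 2, 3, 1, 2, 3, 2, 1] (.node .leaf 1965 [1, 2, 3, 6, 3, 5, 3, 6, 2, 3, 1, 2, 3, 2, 1] .leaf)) 1966 [6, 3, 2, 3, 6, 5, 3, 6, 2, 3, 1, 2, 3, 2, 1] (.node (.node .leaf 1967 [5, 3, 1, 2, 3, 2, 3, 5, 4, 3, 1, 2, 3, 2, 1] .leaf) 1968 [3, 4, 1, 2, 3, 2, 3, 5, 4, 3, 1, 2, 3, 2, 1] (.node .leaf 1969 [3, 5, 3, 2, 3, 2, 3, 5, 4, 3, 1, 2, 3, 2, 1] .leaf)))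

def lev2T0_260 : WTree := (.node (.node (.node .leaf 1971 [5, 6, 3, 2, 3, 2, 3, 5, 4, 3, 1, 2, 3, 2, 1] .leaf) 1972 [2, 3, 5, 2, 3, 2, 3, 5, 4, 3, 1, 2, 3, 2, 1] (.node .leaf 1973 [4, 3, 5, 2, 3, 2, 3, 5, 4, 3, 1, 2, 3, 2, 1] .leaf)) 1974 [6, 2, 3, 4, 3, 2, 3, 5, 4, 3, 1, 2, 3, 2, 1] (.node (.node .leaf 1975 [6, 1, 2, 3, 4, 2, 3, 5, 4, 3, 1, 2, 3, 2, 1] .leaf) 1976 [0, 1, 2, 3, 1, 2, 3, 6, 4, 3, 1, 2, 3, 2, 1] (.node .leaf 1977 [5, 1, 2, 3, 1, 2, 3, 6, 4, 3, 1, 2, 3, 2, 1] .leaf)))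

def lev2T0_261 : WTree := (.node (.node (.node .leaf 1979 [5, 4, 2, 3, 1, 2, 3, 6, 4, 3, 1, 2, 3, 2, 1] .leaf) 1980 [3, 5, 4, 3, 1, 2, 3, 6, 4, 3, 1, 2, 3, 2, 1] (.node .leaf 1981 [2, 3, 1, 2, 3, 2, 3, 6, 4, 3, 1, 2, 3, 2, 1] .leaf)) 1982 [5, 3, 1, 2, 3, 2, 3, 6, 4, 3, 1, 2, 3, 2, 1] (.node (.node .leaf 1983 [2, 3, 5, 4, 3, 2, 3, 6, 4, 3, 1, 2, 3, 2, 1] .leaf) 1984 [6, 3, 5, 4, 3, 2, 3, 6, 4, 3, 1, 2, 3, 2, 1] (.node .leaf 1985 [5, 3, 6, 4, 3, 2, 3, 6, 4, 3, 1, 2, 3, 2, 1] .leaf)))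

def lev2T0_262 : WTree := (.node (.node (.node .leaf 1987 [6, 2, 3, 5, 4, 3, 2, 3, 5, 3, 1, 2, 3, 2, 1] .leaf) 1988 [1, 2, 3, 2, 3, 4, 2, 3, 5, 3, 1, 2, 3, 2, 1] (.node .leaf 1989 [3, 4, 2, 3, 1, 2, 3, 5, 6, 3, 1, 2, 3, 2, 1] .leaf)) 1990 [5, 2, 3, 6, 3, 4, 3, 2, 3, 5, 1, 2, 3, 2, 1] (.node (.node .leaf 1991 [6, 1, 2, 3, 5, 4, 3, 2, 3, 5, 1, 2, 3, 2, 1] .leaf) 1992 [5, 4, 2, 3, 6, 4, 3, 2, 3, 5, 1, 2, 3, 2, 1] (.node .leaf 1993 [6, 1, 2, 3, 5, 6, 3, 2, 3, 5, 1, 2, 3, 2, 1] .leaf)))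

def lev2T0_263 : WTree := (.node (.node (.node .leaf 1995 [3, 6, 2, 3, 5, 6, 3, 2, 3, 5, 1, 2, 3, 2, 1] .leaf) 1996 [1, 2, 3, 5, 4, 3, 6, 2, 3, 5, 1, 2, 3, 2, 1] (.node .leaf 1997 [1, 2, 3, 5, 2, 3, 1, 2, 3, 0, 1, 2, 3, 6, 1] .leaf)) 1998 [4, 2, 3, 5, 2, 3, 1, 2, 3, 0, 1, 2, 3, 6, 1] (.node (.node .leaf 1999 [1, 2, 3, 5, 4, 3, 1, 2, 3, 0, 1, 2, 3, 6, 1] .leaf) 2000 [4, 1, 2, 3, 5, 4, 3, 2, 3, 0, 1, 2, 3, 6, 1] (.node .leaf 2001 [5, 3, 1, 2, 3, 5, 3, 2, 3, 0, 1, 2, 3, 6, 1] .leaf)))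

def lev2T0_264 : WTree := (.node (.node (.node .leaf 2003 [5, 6, 3, 1, 2, 3, 5, 2, 3, 0, 1, 2, 3, 6, 1] .leaf) 2004 [2, 3, 4, 1, 2, 3, 6, 2, 3, 0, 1, 2, 3, 6, 1] (.node .leaf 2005 [1, 2, 3, 4, 2, 3, 6, 2, 3, 0, 1, 2, 3, 6, 1] .leaf)) 2006 [1, 2, 3, 5, 4, 3, 2, 3, 5, 0, 1, 2, 3, 6, 1] (.node (.node .leaf 2007 [3, 2, 3, 6, 4, 3, 2, 3, 5, 0, 1, 2, 3, 6, 1] .leaf) 2008 [2, 3, 2, 3, 6, 1, 2, 3, 2, 3, 1, 2, 3, 6, 1] (.node .leaf 2009 [0, 1, 2, 3, 5, 4, 2, 3, 2, 3, 1, 2, 3, 6, 1] .leaf)))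

def lev2T0_265 : WTree := (.node (.node (.node .leaf 2011 [4, 3, 1, 2, 3, 5, 4, 3, 2, 3, 1, 2, 3, 6, 1] .leaf) 2012 [6, 3, 0, 1, 2, 3, 5, 3, 2, 3, 1, 2, 3, 6, 1] (.node .leaf 2013 [5, 2, 3, 1, 2, 3, 5, 3, 2, 3, 1, 2, 3, 6, 1] .leaf)) 2014 [0, 1, 2, 3, 5, 2, 3, 4, 2, 3, 1, 2, 3, 6, 1] (.node (.node .leaf 2015 [4, 1, 2, 3, 5, 2, 3, 4, 2, 3, 1, 2, 3, 6, 1] .leaf) 2016 [1, 2, 3, 1, 2, 3, 6, 4, 2, 3, 1, 2, 3, 6, 1] (.node .leaf 2017 [0, 1, 2, 3, 2, 3, 6, 4, 2, 3, 1, 2, 3, 6, 1] .leaf)))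

def lev2T0_266 : WTree := (.node (.node (.node .leaf 2019 [1, 2, 3, 4, 1, 2, 3, 6, 2, 3, 1, 2, 3, 6, 1] .leaf) 2020 [0, 1, 2, 3, 4, 2, 3, 6, 2, 3, 1, 2, 3, 6, 1] (.node .leaf 2021 [2, 3, 1, 2, 3, 2, 3, 6, 4, 3, 1, 2, 3, 6, 1] .leaf)) 2022 [4, 1, 2, 3, 6, 4, 3, 2, 3, 5, 1, 2, 3, 6, 1] (.node (.node .leaf 2023 [1, 2, 3, 5, 2, 3, 4, 2, 3, 5, 1, 2, 3, 6, 1] .leaf) 2024 [5, 1, 2, 3, 2, 3, 6, 3, 2, 3, 0, 1, 2, 3, 6] (.node .leaf 2025 [6, 4, 1, 2, 3, 5, 6, 3, 2, 3, 0, 1, 2, 3, 6] .leaf)))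

def lev2T0_267 : WTree := (.node (.node (.node .leaf 2027 [1, 2, 3, 6, 3, 1, 2, 3, 1, 2, 3, 1, 2, 3, 6] .leaf) 2028 [3, 1, 2, 3, 6, 1, 2, 3, 1, 2, 3, 1, 2, 3, 6] (.node .leaf 2029 [2, 3, 2, 3, 6, 1, 2, 3, 1, 2, 3, 1, 2, 3, 6] .leaf)) 2030 [3, 4, 1, 2, 3, 6, 2, 3, 1, 2, 3, 1, 2, 3, 6] (.node (.node .leaf 2031 [3, 5, 1, 2, 3, 6, 2, 3, 1, 2, 3, 1, 2, 3, 6] .leaf) 2032 [5, 3, 2, 3, 1, 2, 3, 4, 1, 2, 3, 1, 2, 3, 6] (.node .leaf 2033 [2, 3, 2, 3, 6, 0, 1, 2, 3, 2, 3, 1, 2, 3, 6] .leaf)))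

def lev2T0_268 : WTree := (.node (.node (.node .leaf 2035 [1, 2, 3, 2, 3, 6, 1, 2, 3, 2, 3, 1, 2, 3, 6] .leaf) 2036 [2, 3, 1, 2, 3, 5, 3, 2, 3, 2, 3, 1, 2, 3, 6] (.node .leaf 2037 [5, 2, 3, 1, 2, 3, 5, 1, 2, 3, 0, 1, 2, 3, 2, 1] .leaf)) 2038 [5, 4, 3, 1, 2, 3, 5, 1, 2, 3, 0, 1, 2, 3, 2, 1] (.node (.node .leaf 2039 [6, 5, 3, 1, 2, 3, 5, 1, 2, 3, 0, 1, 2, 3, 2, 1] .leaf) 2040 [3, 6, 3, 1, 2, 3, 5, 1, 2, 3, 0, 1, 2, 3, 2, 1] (.node .leaf 2041 [5, 6, 3, 1, 2, 3, 5, 1, 2, 3, 0, 1, 2, 3, 2, 1] .leaf)))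

def lev2T0_269 : WTree := (.node (.node (.node .leaf 2043 [5, 6, 2, 3, 4, 2, 3, 5, 2, 3, 0, 1, 2, 3, 2, 1] .leaf) 2044 [1, 2, 3, 6, 3, 5, 3, 6, 2, 3, 0, 1, 2, 3, 2, 1] (.node .leaf 2045 [2, 3, 5, 4, 3, 2, 3, 6, 4, 3, 0, 1, 2, 3, 2, 1] .leaf)) 2046 [5, 3, 6, 4, 3, 2, 3, 6, 4, 3, 0, 1, 2, 3, 2, 1] (.node (.node .leaf 2047 [1, 2, 3, 5, 4, 3, 2, 3, 5, 3, 0, 1, 2, 3, 2, 1] .leaf) 2048 [6, 1, 2, 3, 5, 4, 3, 2, 3, 5, 0, 1, 2, 3, 2, 1] (.node .leaf 2049 [2, 3, 2, 3, 1, 2, 3, 5, 3, 2, 3, 1, 2, 3, 2, 1] .leaf)))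

def lev2T0_270 : WTree := (.node (.node (.node .leaf 2051 [5, 0, 1, 2, 3, 2, 3, 6, 3, 2, 3, 1, 2, 3, 2, 1] .leaf) 2052 [5, 4, 1, 2, 3, 2, 3, 6, 3, 2, 3, 1, 2, 3, 2, 1] (.node .leaf 2053 [1, 2, 3, 4, 3, 1, 2, 3, 6, 2, 3, 1, 2, 3, 2, 1] .leaf)) 2054 [5, 0, 1, 2, 3, 4, 2, 3, 6, 2, 3, 1, 2, 3, 2, 1] (.node (.node .leaf 2055 [3, 5, 1, 2, 3, 4, 2, 3, 6, 2, 3, 1, 2, 3, 2, 1] .leaf) 2056 [6, 2, 3, 5, 4, 3, 2, 3, 6, 4, 3, 1, 2, 3, 2, 1] (.node .leaf 2057 [1, 2, 3, 4, 1, 2, 3, 6, 2, 3, 0, 1, 2, 3, 6, 1] .leaf)))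

def lev2T0_271 : WTree := (.node (.node (.node (.node lev2T0_255 1938 [5, 6, 2, 3, 2, 3, 6, 3, 2, 3, 1, 2, 3, 2, 1] lev2T0_256) 1946 [5, 2, 3, 4, 3, 2, 3, 5, 2, 3, 1, 2, 3, 2, 1] (.node lev2T0_257 1954 [2, 3, 4, 3, 1, 2, 3, 6, 2, 3, 1, 2, 3, 2, 1] lev2T0_258)) 1962 [5, 2, 3, 2, 3, 5, 3, 6, 2, 3, 1, 2, 3, 2, 1] (.node (.node lev2T0_259 1970 [6, 5, 3, 2, 3, 2, 3, 5, 4, 3, 1, 2, 3, 2, 1] lev2T0_260) 1978 [6, 1, 2, 3, 1, 2, 3, 6, 4, 3, 1, 2, 3, 2, 1] (.node lev2T0_261 1986 [1, 2, 3, 5, 4, 3, 2, 3, 5, 3, 1, 2, 3, 2, 1] lev2T0_262))) 1994 [6, 3, 2, 3, 5, 6, 3, 2, 3, 5, 1, 2, 3, 2, 1] (.node (.node (.node lev2T0_263 2002 [6, 4, 3, 1, 2, 3, 5, 2, 3, 0, 1, 2, 3, 6, 1] lev2T0_264) 2010 [4, 1, 2, 3, 5, 4, 2, 3, 2, 3,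 1, 2, 3, 6, 1] (.node lev2T0_265 2018 [4, 1, 2, 3, 2, 3, 6, 4, 2, 3, 1, 2, 3, 6, 1] lev2T0_266)) 2026 [3, 6, 1, 2, 3, 5, 6, 3, 2, 3, 0, 1, 2, 3, 6] (.node (.node lev2T0_267 2034 [1, 2, 3, 5, 4, 3, 1, 2, 3, 2, 3, 1, 2, 3, 6] lev2T0_268) 2042 [5, 6, 3, 4, 1, 2, 3, 5, 2, 3, 0, 1, 2, 3, 2, 1] (.node lev2T0_269 2050 [3, 5, 2, 3, 1, 2, 3, 5, 3, 2, 3, 1, 2, 3, 2, 1] lev2T0_270))))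

def lev2T0 : WTree := (.node (.node (.node (.node lev2T0_16 128 [3, 5, 3, 1, 2, 3, 2, 1] lev2T0_33) 257 [3, 5, 3, 4, 3, 2, 3, 6, 1] (.node lev2T0_50 386 [6, 3, 2, 3, 5, 1, 2, 3, 6, 1] lev2T0_67)) 514 [3, 2, 3, 5, 6, 3, 1, 2, 3, 2, 1] (.node (.node lev2T0_84 643 [3, 6, 4, 3, 2, 3, 0, 1, 2, 3, 6] lev2T0_101) 772 [6, 3, 2, 3, 5, 3, 0, 1, 2, 3, 2, 1] (.node lev2T0_118 901 [5, 3, 6, 3, 2, 3, 0, 1, 2, 3, 6, 1] lev2T0_135))) 1029 [4, 3, 2, 3, 6, 2, 3, 0, 1, 2, 3, 6] (.node (.node (.node lev2T0_152 1158 [3, 2, 3, 5, 6, 2, 3, 0, 1, 2, 3, 2, 1] lev2T0_169) 1287 [2, 3, 5, 4, 3, 2, 3, 5, 1, 2, 3, 2, 1] (.node lev2T0_186 1416 [3, 6, 3, 4, 3, 2, 3, 5, 1, 2, 3, 6, 1] lev2T0_203)) 1544 [3, 6, 2, 3, 5, 1, 2, 3, 0, 1, 2, 3,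 2, 1] (.node (.node lev2T0_220 1673 [3, 4, 2, 3, 2, 3, 5, 4, 3, 1, 2, 3, 2, 1] lev2T0_237) 1801 [3, 6, 4, 3, 2, 3, 6, 4, 3, 1, 2, 3, 6, 1] (.node lev2T0_254 1930 [3, 5, 2, 3, 2, 3, 5, 3, 2, 3, 1, 2, 3, 2, 1] lev2T0_271))))

def lev2T1_0 : WTree := (.node (.node (.node .leaf 1 [1, 2, 3, 6, 3, 5, 3, 2, 3, 1, 2, 3, 4, 2, 3, 1, 2, 3, 2, 1] .leaf) 3 [3, 2, 3, 6, 3, 5, 1, 2, 3, 2, 3, 5, 3, 2, 3, 1, 2, 3, 5, 1] .leaf) 4 [1, 2, 3, 2, 3, 1, 2, 3, 1, 2, 3, 1, 2, 3, 6, 4, 2, 3, 2, 1, 0] (.node (.node .leaf 6 [2, 3, 6, 3, 5, 1, 2, 3, 2, 3, 5, 3, 2, 3, 1, 2, 3, 5, 1] .leaf) 7 [1, 2, 3, 2, 3, 1, 2, 3, 4, 2, 3, 0, 1, 2, 3, 6, 4, 3, 2, 1, 0] .leaf))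

def lev2T1_1 : WTree := (.node (.node (.node .leaf 12 [3, 6, 3, 5, 1, 2, 3, 2, 3, 5, 3, 2, 3, 1, 2, 3, 5, 1] .leaf) 13 [6, 2, 3, 5, 4, 1, 2, 3, 6, 4, 3, 5, 2, 3, 6, 1, 2, 3, 2] .leaf) 14 [2, 3, 6, 1, 2, 3, 5, 4, 3, 6, 4, 2, 3, 5, 1, 2, 3, 2] (.node .leaf 15 [3, 1, 2, 3, 2, 3, 4, 1, 2, 3, 2, 3, 6, 1, 2, 3, 4, 2, 1] .leaf))

def lev2T1_2 : WTree := (.node (.node (.node .leaf 17 [4, 3, 1, 2, 3, 6, 2, 3, 1, 2, 3, 4, 2, 3, 1, 2, 3, 2, 1] .leaf) 18 [5, 1, 2, 3, 2, 3, 1, 2, 3, 4, 2, 3, 1, 2, 3, 2, 1] .leaf) 24 [6, 3, 5, 1, 2, 3, 2, 3, 5, 3, 2, 3, 1, 2, 3, 5, 1] (.node (.node .leaf 25 [6, 3, 5, 4, 1, 2, 3, 6, 4, 3, 5, 2, 3, 6, 1, 2, 3, 2] .leaf) 26 [3, 6, 1, 2, 3, 5, 4, 3, 6, 4, 2, 3, 5, 1, 2, 3, 2] .leaf))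

def lev2T1_3 : WTree := (.node (.node (.node .leaf 28 [3, 2, 3, 5, 2, 3, 1, 2, 3, 6, 3, 1, 2, 3, 4, 0, 1] .leaf) 29 [1, 2, 3, 2, 3, 4, 1, 2, 3, 2, 3, 6, 1, 2, 3, 4, 2, 1] .leaf) 30 [1, 2, 3, 2, 3, 4, 1, 2, 3, 1, 2, 3, 6, 1, 2, 3, 4, 2, 1] (.node .leaf 31 [3, 6, 4, 1, 2, 3, 5, 4, 3, 6, 1, 2, 3, 5, 1, 2, 3, 2] .leaf))

def lev2T1_4 : WTree := (.node (.node (.node .leaf 33 [3, 2, 3, 5, 2, 3, 2, 3, 1, 2, 3, 6, 3, 5, 2, 3, 1] .leaf) 34 [2, 3, 5, 2, 3, 2, 3, 4, 1, 2, 3, 6, 3, 2, 3, 1] .leaf) 35 [1, 2, 3, 2, 3, 1, 2, 3, 4, 2, 3, 1, 2, 3, 2, 1] (.node (.node .leaf 44 [6, 3, 5, 1, 2, 3, 2, 3, 5, 3, 2, 3, 1, 2, 3, 5, 1, 0] .leaf) 45 [3, 6, 4, 1, 2, 3, 5, 4, 3, 6, 2, 3, 5, 1, 2, 3, 2] .leaf))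

def lev2T1_5 : WTree := (.node (.node (.node .leaf 48 [1, 2, 3, 5, 2, 3, 6, 4, 3, 5, 4, 2, 3, 1, 2, 3, 5, 1] .leaf) 49 [6, 1, 2, 3, 5, 4, 3, 6, 4, 2, 3, 5, 1, 2, 3, 2] .leaf) 50 [3, 1, 2, 3, 5, 1, 2, 3, 6, 4, 3, 5, 4, 2, 3, 1, 2, 3, 5, 1] (.node .leaf 51 [3, 5, 4, 3, 2, 3, 1, 2, 3, 6, 3, 2, 3, 1, 2, 3, 5, 0] .leaf))

def lev2T1_6 : WTree := (.node (.node (.node .leaf 53 [1, 2, 3, 2, 3, 1, 2, 3, 4, 2, 3, 1, 2, 3, 1, 2, 1] .leaf) 54 [1, 2, 3, 2, 3, 4, 1, 2, 3, 2, 3, 6, 1, 2, 3, 2, 1, 0] .leaf) 55 [3, 6, 1, 2, 3, 5, 4, 3, 6, 4, 1, 2, 3, 5, 1, 2, 3, 2] (.node .leaf 57 [1, 2, 3, 2, 3, 1, 2, 3, 4, 2, 3, 6, 1, 2, 3, 4, 2, 0, 1] .leaf))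

def lev2T1_7 : WTree := (.node (.node (.node .leaf 59 [6, 4, 1, 2, 3, 5, 4, 3, 6, 1, 2, 3, 5, 1, 2, 3, 2] .leaf) 60 [1, 2, 3, 6, 2, 3, 1, 2, 3, 4, 2, 3, 1, 2, 3, 2, 1] .leaf) 61 [2, 3, 5, 2, 3, 2, 3, 1, 2, 3, 6, 3, 5, 2, 3, 1] (.node .leaf 62 [6, 3, 2, 3, 6, 2, 3, 2, 3, 1, 2, 3, 6, 4, 2, 0, 1] .leaf))

def lev2T1_8 : WTree := (.node (.node (.node .leaf 64 [2, 3, 0, 1, 2, 3, 6, 3, 1, 2, 3, 5, 1, 2, 3, 4] .leaf) 75 [4, 2, 3, 5, 4, 3, 2, 3, 1, 2, 3, 6, 3, 2, 1] .leaf) 77 [6, 3, 5, 1, 2, 3, 2, 3, 5, 3, 2, 3, 0, 1, 2, 3, 5, 1, 0] (.node (.node .leaf 78 [3, 1, 2, 3, 6, 3, 2, 3, 2, 3, 6, 3, 1, 2, 3, 4, 0, 1] .leaf) 80 [6, 4, 1, 2, 3, 5, 4, 3, 6, 2, 3, 5, 1, 2, 3, 2] .leaf))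

def lev2T1_9 : WTree := (.node (.node (.node .leaf 85 [6, 1, 2, 3, 5, 4, 3, 6, 4, 2, 3, 5, 0, 1, 2, 3, 2] .leaf) 86 [6, 1, 2, 3, 5, 4, 3, 6, 4, 1, 2, 3, 5, 1, 2, 3, 2] .leaf) 87 [6, 1, 2, 3, 5, 4, 3, 6, 2, 3, 5, 1, 2, 3, 4] (.node .leaf 88 [6, 1, 2, 3, 5, 4, 3, 6, 2, 3, 5, 0, 1, 2, 3, 4] .leaf))

def lev2T1_10 : WTree := (.node (.node (.node .leaf 90 [5, 4, 3, 2, 3, 1, 2, 3, 6, 3, 2, 3, 1, 2, 3, 5, 0] .leaf) 91 [6, 2, 3, 2, 3, 6, 2, 3, 2, 3, 1, 2, 3, 6, 4, 2, 0, 1] .leaf) 92 [3, 5, 2, 3, 1, 2, 3, 6, 3, 1, 2, 3, 4, 0, 1] (.node (.node .leaf 93 [5, 3, 2, 3, 0, 1, 2, 3, 6, 3, 2, 3, 1, 2, 3, 5, 0] .leaf) 94 [4, 3, 2, 3, 0, 1, 2, 3, 6, 3, 2, 3, 1, 2, 3, 5, 0] .leaf))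

def lev2T1_11 : WTree := (.node (.node (.node .leaf 97 [1, 2, 3, 2, 3, 1, 2, 3, 4, 2, 3, 6, 1, 2, 3, 2, 0, 1, 0] .leaf) 98 [5, 1, 2, 3, 2, 3, 4, 1, 2, 3, 2, 3, 6, 1, 2, 3, 2, 1, 0] .leaf) 102 [3, 6, 1, 2, 3, 5, 4, 3, 6, 1, 2, 3, 5, 0, 1, 2, 3, 4] (.node .leaf 104 [6, 1, 2, 3, 5, 4, 3, 6, 1, 2, 3, 5, 0, 1, 2, 3, 2] .leaf))

def lev2T1_12 : WTree := (.node (.node (.node .leaf 106 [6, 1, 2, 3, 5, 4, 3, 6, 0, 1, 2, 3, 5, 1, 2, 3, 2] .leaf) 107 [1, 2, 3, 6, 2, 3, 1, 2, 3, 4, 2, 3, 1, 2, 3, 1, 2, 1] .leaf) 108 [3, 5, 2, 3, 2, 3, 1, 2, 3, 6, 3, 5, 2, 3, 1] (.node (.node .leaf 109 [2, 3, 1, 2, 3, 6, 3, 1, 2, 3, 5, 1, 2, 3, 4] .leaf) 112 [5, 2, 3, 2, 3, 4, 1, 2, 3, 6, 3, 2, 3, 1] .leaf))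

def lev2T1_13 : WTree := (.node (.node (.node .leaf 121 [2, 3, 5, 4, 3, 1, 2, 3, 6, 3, 1, 2, 3, 1, 2] .leaf) 125 [4, 3, 5, 4, 3, 2, 3, 1, 2, 3, 6, 3, 2, 1] .leaf) 127 [2, 3, 5, 4, 3, 2, 3, 1, 2, 3, 6, 3, 2, 1] (.node .leaf 129 [2, 3, 1, 2, 3, 6, 3, 2, 3, 5, 1, 2, 3, 2] .leaf))

def lev2T1_14 : WTree := (.node (.node (.node .leaf 134 [3, 1, 2, 3, 6, 2, 3, 2, 3, 6, 2, 3, 1, 2, 3, 4, 0, 1] .leaf) 136 [1, 2, 3, 6, 3, 2, 3, 2, 3, 6, 3, 1, 2, 3, 4, 0, 1] .leaf) 138 [6, 1, 2, 3, 5, 4, 3, 6, 2, 3, 5, 1, 2, 3, 2] (.node .leaf 139 [1, 2, 3, 6, 3, 2, 3, 2, 3, 6, 3, 1, 2, 3, 4, 3, 1] .leaf))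

def lev2T1_15 : WTree := (.node (.node (.node .leaf 144 [4, 3, 2, 3, 1, 2, 3, 6, 3, 2, 3, 0, 1, 2, 3, 5, 0] .leaf) 145 [6, 1, 2, 3, 5, 4, 3, 6, 1, 2, 3, 5, 1, 2, 3, 4] .leaf) 146 [6, 1, 2, 3, 5, 4, 3, 6, 1, 2, 3, 5, 0, 1, 2, 3, 4] (.node .leaf 147 [6, 1, 2, 3, 5, 4, 3, 6, 2, 3, 5, 0, 1, 2, 3, 2] .leaf))

def lev2T1_16 : WTree := (.node (.node (.node (.node lev2T1_0 8 [1, 2, 3, 2, 3, 1, 2, 3, 2, 3, 1, 2, 3, 6, 4, 2, 3, 2, 1, 0] lev2T1_1) 16 [5, 3, 1, 2, 3, 6, 2, 3, 1, 2, 3, 4, 2, 3, 1, 2, 3, 2, 1] (.node lev2T1_2 27 [1, 2, 3, 5, 1, 2, 3, 6, 4, 3, 5, 4, 2, 3, 1, 2, 3, 5, 1] lev2T1_3)) 32 [3, 1, 2, 3, 6, 2, 3, 1, 2, 3, 4, 2, 3, 1, 2, 3, 2, 1] (.node (.node lev2T1_4 47 [6, 3, 5, 1, 2, 3, 2, 3, 5, 3, 2, 3, 0, 1,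 2, 3, 5, 1] lev2T1_5) 52 [2, 3, 5, 2, 3, 1, 2, 3, 6, 3, 1, 2, 3, 4, 0, 1] (.node lev2T1_6 58 [3, 6, 1, 2, 3, 5, 4, 3, 6, 1, 2, 3, 5, 0, 1, 2, 3, 2] lev2T1_7))) 63 [3, 5, 2, 3, 2, 3, 4, 1, 2, 3, 6, 3, 2, 3, 1] (.node (.node (.node lev2T1_8 83 [3, 1, 2, 3, 6, 3, 2, 3, 2, 3, 6, 3, 1, 2, 3, 4, 3, 1] lev2T1_9) 89 [6, 3, 1, 2, 3, 6, 5, 3, 1, 2, 3, 5, 6, 3, 1, 2, 3, 6, 1, 2] (.node lev2T1_10 96 [6, 4, 2, 3, 2, 3, 6, 2, 3, 2, 3, 1, 2, 3, 6, 2, 1, 0] lev2T1_11)) 105 [6, 1, 2, 3, 5, 4, 3, 6, 1, 2, 3, 5, 1, 2, 3, 2] (.node (.node lev2T1_12 113 [3, 0, 1, 2, 3, 6, 3, 1, 2, 3, 5, 1, 2, 3, 4] lev2T1_13) 130 [2, 3, 5, 4, 3, 2, 3, 1, 2, 3, 6, 3, 2, 0, 1] (.node lev2T1_14 143 [6, 1, 2, 3, 5, 4, 3, 6, 0, 1, 2, 3, 5, 1, 2, 3,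 4] lev2T1_15))))

def lev2T1_17 : WTree := (.node (.node (.node .leaf 150 [3, 5, 2, 3, 0, 1, 2, 3, 6, 3, 1, 2, 3, 4, 0, 1] .leaf) 151 [5, 3, 2, 3, 1, 2, 3, 6, 3, 2, 3, 1, 2, 3, 5, 0] .leaf) 152 [4, 3, 2, 3, 1, 2, 3, 6, 3, 2, 3, 1, 2, 3, 5, 0] (.node (.node .leaf 154 [6, 4, 3, 2, 3, 6, 2, 3, 2, 3, 1, 2, 3, 6, 2, 0, 1, 0] .leaf) 155 [5, 2, 3, 1, 2, 3, 6, 3, 1, 2, 3, 4, 0, 1] .leaf))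

def lev2T1_18 : WTree := (.node (.node (.node .leaf 157 [3, 5, 3, 2, 3, 1, 2, 3, 6, 3, 1, 2, 3, 4, 0, 1] .leaf) 159 [3, 2, 3, 0, 1, 2, 3, 6, 3, 2, 3, 1, 2, 3, 5, 0] .leaf) 163 [6, 4, 3, 2, 3, 6, 2, 3, 2, 3, 1, 2, 3, 6, 2, 1, 0] (.node .leaf 164 [6, 2, 3, 2, 3, 6, 2, 3, 2, 3, 1, 2, 3, 6, 2, 1, 0] .leaf))

def lev2T1_19 : WTree := (.node (.node (.node .leaf 166 [2, 3, 6, 1, 2, 3, 5, 4, 3, 6, 1, 2, 3, 5, 0, 1, 2, 3, 4] .leaf) 168 [4, 3, 6, 1, 2, 3, 5, 4, 3, 6, 1, 2, 3, 5, 1, 2, 3, 4] .leaf) 173 [3, 1, 2, 3, 6, 2, 3, 1, 2, 3, 4, 2, 3, 1, 2, 3, 1, 2, 1] (.node (.node .leaf 175 [5, 2, 3, 2, 3, 1, 2, 3, 6, 3, 5, 2, 3, 1] .leaf) 176 [3, 1, 2, 3, 6, 3, 1, 2, 3, 5, 1, 2, 3, 4] .leaf))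

def lev2T1_20 : WTree := (.node (.node (.node .leaf 181 [5, 4, 2, 3, 2, 3, 4, 1, 2, 3, 6, 3, 2, 3, 1] .leaf) 182 [2, 3, 2, 3, 4, 1, 2, 3, 6, 3, 2, 3, 1] .leaf) 183 [4, 3, 0, 1, 2, 3, 6, 3, 2, 3, 4, 1, 2, 3, 5, 2] (.node .leaf 184 [0, 1, 2, 3, 6, 3, 1, 2, 3, 5, 1, 2, 3, 4] .leaf))

def lev2T1_21 : WTree := (.node (.node (.node .leaf 191 [2, 3, 1, 2, 3, 6, 3, 5, 2, 3, 1, 2, 3, 5] .leaf) 193 [2, 3, 0, 1, 2, 3, 6, 3, 2, 3, 5, 1, 2, 3, 2] .leaf) 194 [2, 3, 1, 2, 3, 6, 3, 2, 3, 5, 0, 1, 2, 3, 2] (.node (.node .leaf 197 [3, 5, 4, 3, 2, 3, 1, 2, 3, 6, 3, 2, 1] .leaf) 199 [3, 1, 2, 3, 6, 3, 2, 3, 5, 1, 2, 3, 2] .leaf))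

def lev2T1_22 : WTree := (.node (.node (.node .leaf 201 [3, 5, 4, 3, 2, 3, 1, 2, 3, 6, 3, 2, 0, 1] .leaf) 203 [3, 2, 3, 5, 4, 3, 2, 3, 1, 2, 3, 6, 3, 2, 1] .leaf) 206 [3, 2, 3, 5, 4, 3, 2, 3, 1, 2, 3, 6, 3, 2, 0, 1] (.node .leaf 207 [3, 6, 4, 1, 2, 3, 5, 4, 3, 6, 2, 3, 1, 2, 3, 5] .leaf))

def lev2T1_23 : WTree := (.node (.node (.node .leaf 214 [1, 2, 3, 6, 3, 1, 2, 3, 2, 3, 6, 3, 1, 2, 3, 4, 0, 1] .leaf) 215 [3, 6, 1, 2, 3, 5, 4, 3, 6, 2, 3, 5, 1, 2, 3, 2] .leaf) 216 [4, 2, 3, 6, 1, 2, 3, 5, 4, 3, 6, 1, 2, 3, 5, 1, 2, 3, 4] (.node .leaf 220 [3, 4, 2, 3, 6, 1, 2, 3, 5, 4, 3, 6, 1, 2, 3, 5, 1, 2, 3, 4] .leaf))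

def lev2T1_24 : WTree := (.node (.node (.node .leaf 222 [3, 6, 1, 2, 3, 5, 4, 3, 6, 0, 1, 2, 3, 5, 1, 2, 3, 4] .leaf) 223 [3, 4, 3, 2, 3, 1, 2, 3, 6, 3, 2, 3, 1, 2, 3, 5, 0] .leaf) 224 [3, 2, 3, 1, 2, 3, 6, 3, 2, 3, 0, 1, 2, 3, 5, 0] (.node .leaf 225 [3, 6, 1, 2, 3, 5, 4, 3, 6, 1, 2, 3, 5, 1, 2, 3, 4] .leaf))

def lev2T1_25 : WTree := (.node (.node (.node .leaf 228 [3, 2, 3, 6, 1, 2, 3, 5, 4, 3, 6, 0, 1, 2, 3, 5, 1, 2, 3, 4] .leaf) 229 [6, 4, 3, 5, 2, 3, 1, 2, 3, 6, 4, 3, 2, 3, 6, 5, 1, 2, 3, 6, 2] .leaf) 231 [3, 5, 2, 3, 4, 3, 1, 2, 3, 6, 3, 1, 2, 3, 4, 1] (.node (.node .leaf 232 [5, 2, 3, 0, 1, 2, 3, 6, 3, 1, 2, 3, 4, 0, 1] .leaf) 233 [4, 2, 3, 2, 3, 1, 2, 3, 6, 3, 2, 3, 1, 2, 3, 5, 0] .leaf))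

def lev2T1_26 : WTree := (.node (.node (.node .leaf 239 [6, 4, 3, 2, 3, 6, 2, 3, 2, 3, 0, 1, 2, 3, 6, 2, 1, 0] .leaf) 240 [5, 3, 1, 2, 3, 6, 3, 1, 2, 3, 4, 0, 1] .leaf) 241 [5, 4, 2, 3, 1, 2, 3, 6, 3, 1, 2, 3, 4, 0, 1] (.node .leaf 242 [2, 3, 1, 2, 3, 6, 3, 1, 2, 3, 4, 0, 1] .leaf))

def lev2T1_27 : WTree := (.node (.node (.node .leaf 244 [5, 4, 2, 3, 1, 2, 3, 6, 3, 1, 2, 3, 5, 3, 1] .leaf) 245 [2, 3, 2, 3, 0, 1, 2, 3, 6, 3, 2, 3, 1, 2, 3, 5, 0] .leaf) 247 [5, 3, 2, 3, 1, 2, 3, 6, 3, 1, 2, 3, 4, 0, 1] (.node .leaf 251 [2, 3, 0, 1, 2, 3, 6, 3, 2, 3, 1, 2, 3, 5, 0] .leaf))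

def lev2T1_28 : WTree := (.node (.node (.node .leaf 255 [6, 3, 2, 3, 6, 2, 3, 2, 3, 1, 2, 3, 6, 2, 1, 0] .leaf) 256 [6, 3, 2, 3, 6, 2, 3, 2, 3, 0, 1, 2, 3, 6, 2, 1, 0] .leaf) 257 [1, 2, 3, 6, 3, 2, 3, 2, 3, 6, 3, 1, 2, 3, 1, 2, 3, 4, 3] (.node .leaf 260 [3, 1, 2, 3, 6, 3, 1, 2, 3, 2, 3, 6, 3, 1, 2, 3, 4, 0, 1] .leaf))

def lev2T1_29 : WTree := (.node (.node (.node .leaf 262 [2, 3, 1, 2, 3, 6, 3, 1, 2, 3, 2, 3, 6, 3, 1, 2, 3, 4, 0, 1] .leaf) 265 [5, 3, 2, 3, 1, 2, 3, 6, 3, 5, 2, 3, 1] .leaf) 266 [1, 2, 3, 6, 3, 1, 2, 3, 5, 0, 1, 2, 3, 4] (.node (.node .leaf 267 [2, 3, 2, 3, 1, 2, 3, 6, 3, 5, 2, 3, 1] .leaf) 268 [4, 3, 1, 2, 3, 6, 3, 2, 3, 4, 1, 2, 3, 5, 2] .leaf))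

def lev2T1_30 : WTree := (.node (.node (.node .leaf 274 [4, 3, 6, 1, 2, 3, 5, 6, 1, 2, 3, 1, 2, 3, 5] .leaf) 276 [2, 3, 5, 2, 3, 4, 1, 2, 3, 6, 3, 2, 1] .leaf) 277 [5, 3, 0, 1, 2, 3, 6, 3, 1, 2, 3, 4, 0, 1] (.node .leaf 278 [5, 4, 3, 2, 3, 4, 1, 2, 3, 6, 3, 2, 3, 1] .leaf))

def lev2T1_31 : WTree := (.node (.node (.node .leaf 280 [4, 2, 3, 0, 1, 2, 3, 6, 3, 2, 3, 4, 1, 2, 3, 5, 2] .leaf) 281 [5, 2, 3, 6, 5, 1, 2, 3, 6, 1, 2, 3, 4, 1] .leaf) 282 [4, 2, 3, 2, 3, 4, 1, 2, 3, 6, 3, 2, 3, 1] (.node .leaf 283 [3, 0, 1, 2, 3, 6, 3, 2, 3, 4, 1, 2, 3, 5, 2] .leaf))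

def lev2T1_32 : WTree := (.node (.node (.node .leaf 285 [3, 5, 4, 3, 1, 2, 3, 6, 3, 2, 3, 1, 2, 3, 5, 2] .leaf) 286 [0, 1, 2, 3, 6, 3, 2, 3, 5, 1, 2, 3, 4] .leaf) 287 [4, 2, 3, 6, 5, 1, 2, 3, 6, 1, 2, 3, 4, 1] (.node .leaf 288 [4, 3, 1, 2, 3, 6, 3, 2, 3, 4, 0, 1, 2, 3, 5, 2] .leaf))

def lev2T1_33 : WTree := (.node (.node (.node (.node lev2T1_17 156 [4, 3, 5, 2, 3, 1, 2, 3, 6, 3, 1, 2, 3, 4, 0, 1] lev2T1_18) 165 [6, 3, 2, 3, 6, 2, 3, 2, 3, 1, 2, 3, 6, 2, 0, 1, 0] (.node lev2T1_19 180 [5, 3, 2, 3, 4, 1, 2, 3, 6, 3, 2, 3, 1] lev2T1_20)) 189 [3, 5, 4, 3, 1, 2, 3, 6, 3, 1, 2, 3, 1, 2] (.node (.node lev2T1_21 200 [4, 3, 5, 3, 2, 3, 1, 2, 3, 6, 3, 2, 1] lev2T1_22) 212 [1, 2, 3, 6, 2, 3, 2, 3, 6, 2, 3, 1, 2, 3, 4,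 0, 1] (.node lev2T1_23 221 [3, 4, 2, 3, 1, 2, 3, 6, 3, 2, 3, 1, 2, 3, 5, 0] lev2T1_24))) 226 [3, 6, 1, 2, 3, 5, 4, 3, 6, 2, 3, 5, 0, 1, 2, 3, 2] (.node (.node (.node lev2T1_25 235 [3, 2, 3, 1, 2, 3, 6, 3, 2, 3, 1, 2, 3, 5, 0] lev2T1_26) 243 [3, 4, 2, 3, 1, 2, 3, 6, 3, 2, 3, 0, 1] (.node lev2T1_27 254 [5, 3, 6, 1, 2, 3, 5, 4, 3, 6, 4, 2, 3, 1, 2, 3, 5] lev2T1_28)) 261 [3, 2, 3, 6, 1, 2, 3, 5, 4, 3, 6, 2, 3, 5, 0, 1, 2, 3, 2] (.node (.node lev2T1_29 269 [1, 2, 3, 6, 3, 1, 2, 3, 5, 1, 2, 3, 4] lev2T1_30) 279 [3, 2, 3, 4, 1, 2, 3, 6, 3, 2, 3, 1] (.node lev2T1_31 284 [3, 1, 2, 3, 6, 3, 2, 3, 4, 1, 2, 3, 2, 3, 5, 0] lev2T1_32))))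

def lev2T1_34 : WTree := (.node (.node (.node .leaf 294 [3, 0, 1, 2, 3, 6, 3, 2, 3, 5, 1, 2, 3, 2] .leaf) 295 [5, 4, 3, 1, 2, 3, 6, 3, 1, 2, 3, 1, 2] .leaf) 296 [3, 1, 2, 3, 6, 3, 2, 3, 5, 0, 1, 2, 3, 2] (.node (.node .leaf 298 [3, 2, 3, 1, 2, 3, 6, 3, 5, 2, 3, 1, 2, 3, 5] .leaf) 300 [3, 2, 3, 1, 2, 3, 6, 3, 2, 3, 5, 0, 1, 2, 3, 2] .leaf))

def lev2T1_35 : WTree := (.node (.node (.node .leaf 304 [5, 4, 3, 2, 3, 1, 2, 3, 6, 3, 2, 1] .leaf) 308 [1, 2, 3, 6, 3, 2, 3, 5, 1, 2, 3, 2] .leaf) 309 [4, 2, 3, 5, 3, 2, 3, 1, 2, 3, 6, 3, 2, 1] (.node .leaf 310 [3, 5, 3, 2, 3, 1, 2, 3, 6, 3, 2, 1] .leaf))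

def lev2T1_36 : WTree := (.node (.node (.node .leaf 312 [5, 4, 3, 2, 3, 1, 2, 3, 6, 3, 2, 0, 1] .leaf) 316 [2, 3, 2, 3, 5, 4, 3, 2, 3, 1, 2, 3, 6, 3, 2, 1] .leaf) 319 [2, 3, 2, 3, 5, 4, 3, 2, 3, 1, 2, 3, 6, 3, 2, 0, 1] (.node (.node .leaf 321 [3, 6, 1, 2, 3, 5, 4, 3, 6, 4, 2, 3, 1, 2, 3, 5, 0] .leaf) 322 [6, 4, 1, 2, 3, 5, 4, 3, 6, 2, 3, 1, 2, 3, 5] .leaf))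

def lev2T1_37 : WTree := (.node (.node (.node .leaf 327 [5, 3, 2, 3, 1, 2, 3, 6, 3, 1, 2, 1] .leaf) 332 [1, 2, 3, 6, 1, 2, 3, 2, 3, 6, 2, 3, 1, 2, 3, 4, 0, 1] .leaf) 333 [2, 3, 6, 1, 2, 3, 5, 4, 3, 6, 0, 1, 2, 3, 5, 1, 2, 3, 4] (.node .leaf 335 [2, 3, 6, 1, 2, 3, 5, 4, 3, 6, 2, 3, 5, 1, 2, 3, 2] .leaf))

def lev2T1_38 : WTree := (.node (.node (.node .leaf 337 [3, 2, 3, 6, 1, 2, 3, 5, 4, 3, 6, 1, 2, 3, 5, 1, 2, 3, 4] .leaf) 341 [4, 2, 3, 1, 2, 3, 6, 3, 2, 3, 1, 2, 3, 5, 0] .leaf) 342 [2, 3, 1, 2, 3, 6, 3, 2, 3, 0, 1, 2, 3, 5, 0] (.node (.node .leaf 343 [2, 3, 6, 1, 2, 3, 5, 4, 3, 6, 2, 3, 5, 0, 1, 2, 3, 2] .leaf) 348 [5, 2, 3, 4, 3, 1, 2, 3, 6, 3, 1, 2, 3, 4, 1] .leaf))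

def lev2T1_39 : WTree := (.node (.node (.node .leaf 351 [3, 5, 2, 3, 4, 1, 2, 3, 6, 3, 1, 2, 3, 4, 1] .leaf) 352 [2, 3, 0, 1, 2, 3, 6, 3, 1, 2, 3, 4, 0, 1] .leaf) 353 [3, 4, 2, 3, 6, 1, 2, 3, 5, 6, 2, 1] (.node .leaf 354 [5, 3, 2, 3, 0, 1, 2, 3, 6, 3, 1, 2, 3, 4, 0, 1] .leaf))

def lev2T1_40 : WTree := (.node (.node (.node .leaf 360 [1, 2, 3, 2, 3, 4, 1, 2, 3, 2, 3, 1, 2, 3, 4, 2, 1] .leaf) 361 [3, 4, 2, 3, 2, 3, 1, 2, 3, 6, 3, 1, 2, 1] .leaf) 362 [5, 4, 3, 1, 2, 3, 6, 3, 1, 2, 3, 4, 0, 1] (.node .leaf 363 [3, 1, 2, 3, 6, 3, 1, 2, 3, 4, 0, 1] .leaf))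

def lev2T1_41 : WTree := (.node (.node (.node .leaf 365 [5, 2, 3, 1, 2, 3, 6, 3, 1, 2, 3, 5, 3, 1] .leaf) 366 [4, 2, 3, 1, 2, 3, 6, 3, 1, 2, 3, 4, 0, 1] .leaf) 367 [3, 4, 3, 2, 3, 1, 2, 3, 6, 3, 2, 3, 0, 1] (.node .leaf 368 [3, 2, 3, 1, 2, 3, 6, 3, 1, 2, 3, 4, 0, 1] .leaf))

def lev2T1_42 : WTree := (.node (.node (.node .leaf 370 [4, 2, 3, 1, 2, 3, 6, 3, 2, 3, 0, 1] .leaf) 371 [1, 2, 3, 6, 3, 4, 1, 2, 3, 1, 2, 3, 5] .leaf) 372 [5, 4, 3, 1, 2, 3, 6, 3, 1, 2, 3, 5, 3, 1] (.node (.node .leaf 373 [4, 2, 3, 1, 2, 3, 6, 3, 1, 2, 3, 5, 3, 1] .leaf) 374 [3, 2, 3, 1, 2, 3, 6, 3, 2, 3, 1] .leaf))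

def lev2T1_43 : WTree := (.node (.node (.node .leaf 377 [5, 3, 2, 3, 1, 2, 3, 6, 3, 4, 1, 2, 3, 5, 1] .leaf) 378 [5, 4, 3, 2, 3, 1, 2, 3, 6, 3, 1, 2, 3, 4, 0, 1] .leaf) 381 [3, 0, 1, 2, 3, 6, 3, 2, 3, 1, 2, 3, 5, 0] (.node .leaf 384 [1, 2, 3, 2, 3, 4, 1, 2, 3, 2, 3, 1, 2, 3, 2, 1, 0] .leaf))

def lev2T1_44 : WTree := (.node (.node (.node .leaf 386 [1, 2, 3, 6, 3, 2, 0, 1, 0] .leaf) 387 [6, 3, 2, 3, 6, 3, 2, 3, 2, 3, 1, 2, 3, 6, 2, 1, 0] .leaf) 388 [6, 3, 2, 3, 6, 2, 3, 2, 3, 1, 2, 3, 6, 4, 2, 1] (.node .leaf 394 [4, 3, 6, 1, 2, 3, 5, 6, 0, 1, 2, 3, 1, 2, 3, 5] .leaf))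

def lev2T1_45 : WTree := (.node (.node (.node .leaf 396 [1, 2, 3, 6, 3, 2, 3, 5, 0, 1, 2, 3, 4] .leaf) 397 [3, 2, 3, 1, 2, 3, 6, 3, 5, 2, 3, 1] .leaf) 398 [4, 2, 3, 1, 2, 3, 6, 3, 2, 3, 4, 1, 2, 3, 5, 2] (.node .leaf 399 [4, 1, 2, 3, 6, 3, 1, 2, 3, 5, 1, 2, 3, 4] .leaf))

def lev2T1_46 : WTree := (.node (.node (.node .leaf 401 [3, 1, 2, 3, 6, 3, 2, 3, 4, 1, 2, 3, 5, 2] .leaf) 402 [5, 3, 1, 2, 3, 6, 3, 2, 3, 4, 1, 2, 3, 5, 2] .leaf) 403 [4, 3, 5, 2, 3, 2, 3, 6, 5, 1, 2, 3, 6, 2, 1, 0] (.node (.node .leaf 404 [5, 4, 3, 1, 2, 3, 6, 3, 2, 3, 4, 1, 2, 3, 5, 2] .leaf) 405 [1, 2, 3, 6, 3, 2, 3, 5, 1, 2, 3, 4] .leaf))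

def lev2T1_47 : WTree := (.node (.node (.node .leaf 407 [4, 3, 5, 2, 3, 2, 3, 4, 3, 1, 2, 3, 6, 3, 2, 3, 1] .leaf) 411 [3, 5, 2, 3, 4, 1, 2, 3, 6, 3, 2, 1] .leaf) 415 [6, 1, 2, 3, 5, 4, 3, 6, 2, 3, 0, 1, 2, 3, 5, 0] (.node .leaf 418 [3, 6, 1, 2, 3, 5, 6, 1, 2, 3, 1, 2, 3, 5] .leaf))

def lev2T1_48 : WTree := (.node (.node (.node .leaf 420 [3, 4, 3, 1, 2, 3, 6, 3, 2, 3, 1, 2, 3, 5, 2] .leaf) 423 [6, 4, 1, 2, 3, 5, 4, 3, 6, 1, 2, 3, 1, 2, 3, 5, 0] .leaf) 424 [2, 3, 5, 2, 3, 1, 2, 3, 6, 3, 1, 2, 1] (.node .leaf 425 [2, 3, 2, 3, 5, 2, 3, 1, 2, 3, 6, 3, 2, 1] .leaf))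

def lev2T1_49 : WTree := (.node (.node (.node .leaf 427 [2, 3, 5, 3, 2, 3, 4, 1, 2, 3, 6, 3, 2, 1] .leaf) 429 [5, 4, 3, 0, 1, 2, 3, 6, 3, 1, 2, 3, 4, 0, 1] .leaf) 430 [3, 0, 1, 2, 3, 6, 3, 1, 2, 3, 4, 0, 1] (.node .leaf 431 [6, 5, 1, 2, 3, 6, 2, 3, 1, 2, 3, 5, 0] .leaf))

def lev2T1_50 : WTree := (.node (.node (.node (.node lev2T1_34 301 [3, 2, 3, 5, 2, 3, 2, 3, 6, 1, 2, 3, 5, 6, 2, 1] lev2T1_35) 311 [4, 3, 5, 2, 3, 1, 2, 3, 6, 3, 2, 1] (.node lev2T1_36 323 [3, 2, 3, 4, 1, 2, 3, 6, 3, 2, 3, 1, 2, 3, 5, 2] lev2T1_37)) 336 [2, 3, 6, 1, 2, 3, 5, 4, 3, 6, 1, 2, 3, 5, 1, 2, 3, 4] (.node (.node lev2T1_38 349 [2, 3, 2, 3, 1, 2, 3, 6, 3, 2, 3, 1, 2, 3, 5, 0] lev2T1_39) 358 [2, 3, 1, 2, 3, 6, 3, 2, 3, 1, 2, 3, 5, 0]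 (.node lev2T1_40 364 [5, 1, 2, 3, 6, 3, 4, 2, 3, 1, 2, 3, 5] lev2T1_41))) 369 [0, 1, 2, 3, 6, 3, 1, 2, 3, 1, 2, 3, 5, 0] (.node (.node (.node lev2T1_42 375 [5, 3, 4, 2, 3, 1, 2, 3, 6, 3, 1, 2, 3, 5, 3, 1] lev2T1_43) 385 [3, 6, 1, 2, 3, 5, 4, 3, 6, 4, 2, 3, 1, 2, 3, 5] (.node lev2T1_44 395 [4, 2, 3, 2, 3, 1, 2, 3, 6, 3, 1, 2, 1] lev2T1_45)) 400 [4, 2, 3, 2, 3, 1, 2, 3, 6, 3, 5, 2, 3, 1] (.node (.node lev2T1_46 406 [5, 1, 2, 3, 6, 3, 1, 2, 3, 5, 1, 2, 3, 4] lev2T1_47) 419 [3, 4, 1, 2, 3, 6, 3, 2, 3, 1, 2, 3, 5, 2] (.node lev2T1_48 426 [4, 2, 3, 5, 2, 3, 4, 1, 2, 3, 6, 3, 2, 1] lev2T1_49))))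

def lev2T1_51 : WTree := (.node (.node (.node .leaf 433 [4, 3, 2, 3, 4, 1, 2, 3, 6, 3, 2, 3, 1] .leaf) 434 [2, 3, 0, 1, 2, 3, 6, 3, 2, 3, 4, 1, 2, 3, 5, 2] .leaf) 435 [2, 3, 4, 1, 2, 3, 6, 3, 2, 3, 1] (.node (.node .leaf 436 [2, 3, 1, 2, 3, 6, 3, 2, 3, 4, 1, 2, 3, 2, 3, 5, 0] .leaf) 437 [5, 3, 2, 3, 1, 2, 3, 6, 3, 2, 3, 4, 0, 1, 2, 3, 5, 2] .leaf))

def lev2T1_52 : WTree := (.node (.node (.node .leaf 439 [5, 3, 6, 5, 1, 2, 3, 6, 1, 2, 3, 4, 1] .leaf) 440 [2, 3, 6, 5, 1, 2, 3, 6, 1, 2, 3, 4, 1] .leaf) 441 [3, 1, 2, 3, 6, 3, 2, 3, 4, 0, 1, 2, 3, 5, 2] (.node .leaf 442 [0, 1, 2, 3, 6, 3, 1, 2, 3, 4, 1, 2, 3, 2] .leaf))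

def lev2T1_53 : WTree := (.node (.node (.node .leaf 444 [1, 2, 3, 6, 3, 2, 3, 4, 1, 2, 3, 2, 3, 5, 0] .leaf) 445 [5, 4, 3, 1, 2, 3, 6, 3, 2, 3, 1, 2, 3, 5, 2] .leaf) 446 [4, 2, 3, 5, 2, 3, 1, 2, 3, 6, 3, 1, 2, 1] (.node (.node .leaf 447 [3, 0, 1, 2, 3, 6, 3, 2, 3, 5, 1, 2, 3, 4] .leaf) 448 [4, 3, 6, 5, 1, 2, 3, 6, 1, 2, 3, 4, 1] .leaf))

def lev2T1_54 : WTree := (.node (.node (.node .leaf 450 [5, 3, 1, 2, 3, 6, 3, 2, 3, 4, 0, 1, 2, 3, 5, 2] .leaf) 451 [3, 2, 3, 5, 2, 3, 1, 2, 3, 6, 3, 4, 1, 2, 3, 5, 1] .leaf) 455 [1, 2, 3, 6, 3, 5, 2, 3, 1, 2, 3, 5] (.node .leaf 459 [0, 1, 2, 3, 6, 3, 2, 3, 5, 1, 2, 3, 2] .leaf))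

def lev2T1_55 : WTree := (.node (.node (.node .leaf 461 [5, 3, 1, 2, 3, 6, 3, 1, 2, 3, 1, 2] .leaf) 462 [4, 3, 1, 2, 3, 6, 3, 1, 2, 3, 1, 2] .leaf) 463 [1, 2, 3, 6, 3, 2, 3, 5, 0, 1, 2, 3, 2] (.node (.node .leaf 466 [2, 3, 2, 3, 1, 2, 3, 6, 3, 5, 2, 3, 1, 2, 3, 5] .leaf) 468 [2, 3, 2, 3, 1, 2, 3, 6, 3, 2, 3, 5, 0, 1, 2, 3, 2] .leaf))

def lev2T1_56 : WTree := (.node (.node (.node .leaf 473 [5, 3, 2, 3, 4, 1, 2, 3, 6, 3, 2, 1] .leaf) 477 [5, 4, 2, 3, 2, 3, 1, 2, 3, 6, 3, 2, 1] .leaf) 478 [5, 3, 2, 3, 1, 2, 3, 6, 3, 2, 1] (.node .leaf 479 [4, 3, 2, 3, 1, 2, 3, 6, 3, 2, 1] .leaf))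

def lev2T1_57 : WTree := (.node (.node (.node .leaf 487 [1, 2, 3, 6, 3, 1, 2, 3, 5, 1, 2, 3, 2] .leaf) 488 [5, 3, 4, 2, 3, 1, 2, 3, 6, 3, 2, 1] .leaf) 489 [3, 4, 3, 2, 3, 1, 2, 3, 6, 3, 2, 1] (.node .leaf 490 [3, 1, 2, 3, 6, 3, 5, 2, 3, 1, 2, 3, 5, 0] .leaf))

def lev2T1_58 : WTree := (.node (.node (.node .leaf 492 [2, 3, 5, 3, 2, 3, 1, 2, 3, 6, 3, 2, 1] .leaf) 493 [4, 2, 3, 5, 2, 3, 1, 2, 3, 6, 3, 2, 1] .leaf) 494 [3, 5, 2, 3, 1, 2, 3, 6, 3, 2, 1] (.node .leaf 495 [4, 3, 2, 3, 1, 2, 3, 6, 3, 2, 0, 1] .leaf))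

def lev2T1_59 : WTree := (.node (.node (.node .leaf 497 [5, 4, 2, 3, 2, 3, 1, 2, 3, 6, 3, 2, 0, 1] .leaf) 498 [5, 3, 2, 3, 1, 2, 3, 6, 3, 2, 0, 1] .leaf) 507 [6, 3, 5, 4, 3, 2, 3, 6, 5, 3, 1, 2, 3, 6, 2, 1] (.node (.node .leaf 511 [2, 3, 2, 3, 1, 2, 3, 6, 3, 2, 0, 1] .leaf) 514 [3, 2, 3, 2, 3, 5, 4, 3, 2, 3, 1, 2, 3, 6, 3, 2, 0, 1] .leaf))

def lev2T1_60 : WTree := (.node (.node (.node .leaf 517 [3, 4, 3, 1, 2, 3, 6, 3, 2, 3, 0, 1, 2, 3, 5, 2] .leaf) 518 [6, 1, 2, 3, 5, 4, 3, 6, 2, 3, 1, 2, 3, 5] .leaf) 519 [6, 1, 2, 3, 5, 4, 3, 6, 4, 2, 3, 1, 2, 3, 5] (.node .leaf 521 [2, 3, 4, 1, 2, 3, 6, 3, 2, 3, 1, 2, 3, 5, 2] .leaf))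

def lev2T1_61 : WTree := (.node (.node (.node .leaf 525 [5, 2, 3, 2, 3, 1, 2, 3, 6, 3, 1, 2, 1] .leaf) 528 [5, 4, 3, 2, 3, 1, 2, 3, 6, 3, 1, 2, 1] .leaf) 529 [4, 3, 2, 3, 1, 2, 3, 6, 3, 1, 2, 1] (.node .leaf 530 [3, 5, 3, 2, 3, 1, 2, 3, 6, 3, 1, 2, 1] .leaf))

def lev2T1_62 : WTree := (.node (.node (.node .leaf 534 [3, 5, 3, 2, 3, 4, 1, 2, 3, 6, 3, 2, 1] .leaf) 546 [4, 3, 1, 2, 3, 6, 3, 2, 3, 1, 2, 3, 5, 0] .leaf) 547 [3, 1, 2, 3, 6, 3, 2, 3, 0, 1, 2, 3, 5, 0] (.node .leaf 551 [5, 3, 4, 3, 1, 2, 3, 6, 3, 1, 2, 3, 4, 1] .leaf))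

def lev2T1_63 : WTree := (.node (.node (.node .leaf 553 [2, 3, 4, 3, 1, 2, 3, 6, 3, 1, 2, 3, 4, 1] .leaf) 554 [3, 2, 3, 6, 1, 2, 3, 5, 6, 2, 0, 1] .leaf) 555 [5, 3, 2, 3, 4, 3, 1, 2, 3, 6, 3, 1, 2, 3, 4, 1] (.node (.node .leaf 557 [4, 2, 3, 0, 1, 2, 3, 6, 3, 1, 2, 3, 4, 0, 1] .leaf) 558 [3, 4, 3, 2, 3, 6, 1, 2, 3, 5, 6, 2, 1] .leaf))

def lev2T1_64 : WTree := (.node (.node (.node .leaf 560 [1, 2, 3, 6, 3, 1, 2, 3, 1, 2, 3, 5, 0] .leaf) 561 [4, 2, 3, 6, 1, 2, 3, 5, 6, 2, 1] .leaf) 562 [5, 3, 4, 2, 3, 6, 1, 2, 3, 5, 6, 2, 1] (.node .leaf 563 [5, 3, 2, 3, 1, 2, 3, 6, 3, 1, 2, 3, 5, 0, 1, 0] .leaf))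

def lev2T1_65 : WTree := (.node (.node (.node .leaf 567 [3, 1, 2, 3, 6, 3, 2, 3, 1, 2, 3, 5, 0] .leaf) 568 [1, 2, 3, 6, 3, 2, 3, 2, 3, 6, 3, 2, 3, 1, 2, 3, 5] .leaf) 569 [3, 6, 4, 1, 2, 3, 5, 4, 3, 6, 2, 3, 1, 2, 3, 5, 0] (.node .leaf 570 [5, 1, 2, 3, 6, 3, 2, 3, 1] .leaf))

def lev2T1_66 : WTree := (.node (.node (.node .leaf 572 [3, 4, 2, 3, 2, 3, 0, 1, 2, 3, 6, 3, 2, 1] .leaf) 573 [5, 3, 4, 2, 3, 2, 3, 1, 2, 3, 6, 3, 1, 2, 1] .leaf) 575 [3, 5, 4, 3, 1, 2, 3, 6, 3, 1, 2, 3, 4, 0, 1] (.node .leaf 576 [4, 3, 1, 2, 3, 6, 3, 1, 2, 3, 4, 0, 1] .leaf))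

def lev2T1_67 : WTree := (.node (.node (.node (.node lev2T1_51 438 [2, 3, 5, 4, 3, 1, 2, 3, 6, 3, 2, 3, 1, 2, 3, 5, 2] lev2T1_52) 443 [0, 1, 2, 3, 6, 3, 2, 3, 4, 1, 2, 3, 5, 2] (.node lev2T1_53 449 [6, 3, 2, 3, 6, 2, 3, 2, 3, 4, 1, 2, 3, 6, 2, 3, 1] lev2T1_54)) 460 [5, 4, 2, 3, 1, 2, 3, 6, 3, 1, 2, 3, 1, 2] (.node (.node lev2T1_55 469 [2, 3, 5, 2, 3, 2, 3, 6, 1, 2, 3, 5, 6, 2, 1] lev2T1_56) 480 [3] (.node lev2T1_57 491 [3, 4, 2, 3, 5, 3, 2, 3, 1, 2, 3, 6, 3, 2, 1] lev2T1_58))) 496 [3, 2, 3, 1, 2, 3, 6, 3, 2, 1] (.node (.node (.node lev2T1_59 516 [6, 1, 2, 3, 5, 4, 3, 6, 4, 2, 3, 1, 2, 3, 5, 0] lev2T1_60) 522 [5, 4, 2, 3, 1, 2, 3, 6, 3, 2, 3, 4, 1, 2, 3, 5, 2] (.node lev2T1_61 531 [3, 2, 3, 1, 2, 3, 6, 3, 1,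 2, 1] lev2T1_62)) 552 [5, 2, 3, 4, 1, 2, 3, 6, 3, 1, 2, 3, 4, 1] (.node (.node lev2T1_63 559 [3, 2, 3, 0, 1, 2, 3, 6, 3, 1, 2, 3, 4, 0, 1] lev2T1_64) 564 [5, 4, 3, 2, 3, 0, 1, 2, 3, 6, 3, 1, 2, 3, 4, 0, 1] (.node lev2T1_65 571 [3, 4, 3, 2, 3, 2, 3, 1, 2, 3, 6, 3, 2, 1] lev2T1_66))))

def lev2T1_68 : WTree := (.node (.node (.node .leaf 578 [1, 2, 3, 6, 3, 1, 2, 3, 4, 0, 1] .leaf) 579 [0, 1, 2, 3, 6, 3, 2, 3, 1, 2, 3, 5, 0] .leaf) 580 [1, 2, 3, 6, 3, 2, 3, 4, 0, 1, 2, 3, 2] (.node (.node .leaf 581 [1, 2, 3, 6, 3, 4, 2, 3, 1, 2, 3, 5] .leaf) 582 [5, 3, 1, 2, 3, 6, 3, 1, 2, 3, 5, 3, 1] .leaf))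

def lev2T1_69 : WTree := (.node (.node (.node .leaf 584 [4, 3, 2, 3, 1, 2, 3, 6, 3, 2, 3, 1] .leaf) 585 [3, 4, 2, 3, 1, 2, 3, 6, 3, 1, 2, 3, 4, 0, 1] .leaf) 586 [4, 3, 2, 3, 1, 2, 3, 6, 3, 2, 3, 0, 1] (.node .leaf 587 [3, 2, 3, 1, 2, 3, 6, 3, 4, 1, 2, 3, 5, 1] .leaf))

def lev2T1_70 : WTree := (.node (.node (.node .leaf 589 [3, 4, 3, 2, 3, 1, 2, 3, 6, 3, 1, 2, 3, 5, 3, 1] .leaf) 590 [3, 0, 1, 2, 3, 6, 3, 1, 2, 3, 1, 2, 3, 5, 0] .leaf) 591 [4, 3, 1, 2, 3, 6, 3, 2, 3, 0, 1] (.node (.node .leaf 592 [2, 3, 1, 2, 3, 6, 3, 2, 3, 0, 1] .leaf) 593 [4, 2, 3, 1, 2, 3, 6, 3, 2, 3, 1] .leaf))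

def lev2T1_71 : WTree := (.node (.node (.node .leaf 595 [3, 4, 2, 3, 2, 3, 1, 2, 3, 6, 3, 2, 1] .leaf) 596 [4, 3, 1, 2, 3, 6, 3, 2, 3, 5, 1, 2, 3, 4] .leaf) 597 [4, 3, 1, 2, 3, 6, 3, 1, 2, 3, 5, 3, 1] (.node .leaf 598 [2, 3, 2, 3, 1, 2, 3, 6, 3, 2, 3, 1] .leaf))

def lev2T1_72 : WTree := (.node (.node (.node .leaf 600 [5, 4, 3, 2, 3, 1, 2, 3, 6, 3, 2, 3, 1] .leaf) 601 [2, 3, 1, 2, 3, 6, 3, 2, 3, 1] .leaf) 602 [5, 3, 2, 3, 1, 2, 3, 6, 3, 2, 3, 1] (.node (.node .leaf 603 [3, 2, 3, 1, 2, 3, 6, 3, 1, 2, 3, 1, 2, 3, 5, 0] .leaf) 604 [2, 3, 2, 3, 1, 2, 3, 6, 3, 2, 3, 1, 2, 3, 5, 2] .leaf))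

def lev2T1_73 : WTree := (.node (.node (.node .leaf 609 [3, 2, 3, 5, 4, 3, 2, 3, 6, 1, 2, 3, 5, 6, 2, 1] .leaf) 610 [6, 3, 5, 4, 3, 2, 3, 5, 4, 3, 1, 2, 3, 6, 2, 0, 1] .leaf) 614 [6, 2, 3, 2, 3, 6, 2, 3, 2, 3, 1, 2, 3, 6, 4, 2, 1] (.node .leaf 615 [3, 1, 2, 3, 6, 2, 3, 2, 3, 6, 2, 3, 1, 2, 3, 4, 1] .leaf))

def lev2T1_74 : WTree := (.node (.node (.node .leaf 617 [1, 2, 3, 6, 3, 5, 2, 3, 1] .leaf) 618 [1, 2, 3, 6, 3, 2, 1, 0] .leaf) 619 [6, 1, 2, 3, 5, 6, 2, 0, 1] (.node .leaf 620 [6, 4, 3, 2, 3, 6, 2, 3, 2, 3, 1, 2, 3, 6, 4, 2, 1] .leaf))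

def lev2T1_75 : WTree := (.node (.node (.node .leaf 622 [0, 1, 2, 3, 6, 3, 2, 1, 0] .leaf) 623 [3, 2, 3, 5, 2, 3, 2, 3, 6, 5, 1, 2, 3, 6, 2, 1, 0] .leaf) 628 [3, 6, 1, 2, 3, 5, 6, 0, 1, 2, 3, 1, 2, 3, 5] (.node .leaf 629 [3, 4, 1, 2, 3, 6, 3, 2, 3, 0, 1, 2, 3, 5, 2] .leaf))

def lev2T1_76 : WTree := (.node (.node (.node .leaf 631 [2, 3, 2, 3, 1, 2, 3, 6, 3, 1, 2, 1] .leaf) 632 [0, 1, 2, 3, 6, 3, 2, 3, 1, 2, 3, 5, 4] .leaf) 633 [3, 1, 2, 3, 6, 3, 2, 3, 5, 0, 1, 2, 3, 4] (.node (.node .leaf 634 [4, 3, 2, 3, 1, 2, 3, 6, 3, 5, 2, 3, 1] .leaf) 635 [2, 3, 1, 2, 3, 6, 3, 2, 3, 4, 1, 2, 3, 5, 2] .leaf))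

def lev2T1_77 : WTree := (.node (.node (.node .leaf 637 [5, 2, 3, 1, 2, 3, 6, 3, 2, 3, 4, 1, 2, 3, 5, 2] .leaf) 638 [3, 4, 2, 3, 1, 2, 3, 6, 3, 2, 3, 4, 1, 2, 3, 5, 2] .leaf) 639 [4, 1, 2, 3, 6, 3, 2, 3, 5, 1, 2, 3, 4] (.node .leaf 640 [2, 3, 4, 2, 3, 1, 2, 3, 6, 3, 5, 2, 1, 0] .leaf))

def lev2T1_78 : WTree := (.node (.node (.node .leaf 642 [1, 2, 3, 6, 3, 1, 2, 3, 4, 1, 2, 3, 2] .leaf) 643 [1, 2, 3, 6, 3, 2, 3, 4, 1, 2, 3, 5, 2] .leaf) 644 [5, 3, 4, 2, 3, 2, 3, 6, 5, 1, 2, 3, 6, 2, 1, 0] (.node .leaf 645 [6, 1, 2, 3, 5, 4, 3, 6, 5, 2, 3, 0, 1, 2, 3, 5] .leaf))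

def lev2T1_79 : WTree := (.node (.node (.node .leaf 647 [4, 3, 5, 2, 3, 2, 3, 6, 1, 2, 3, 5, 6, 2, 1] .leaf) 648 [5, 4, 3, 0, 1, 2, 3, 6, 3, 2, 3, 1, 2, 3, 5, 2] .leaf) 649 [3, 2, 3, 2, 3, 1, 2, 3, 6, 3, 2, 1] (.node .leaf 650 [3, 1, 2, 3, 6, 3, 2, 3, 5, 1, 2, 3, 4] .leaf))

def lev2T1_80 : WTree := (.node (.node (.node .leaf 652 [6, 3, 2, 3, 6, 2, 3, 2, 3, 1, 2, 3, 6, 5, 2, 3, 1] .leaf) 653 [3, 1, 2, 3, 6, 3, 2, 3, 4, 0, 1, 2, 3, 2, 3, 5, 0] .leaf) 654 [3, 5, 4, 3, 1, 2, 3, 6, 3, 2, 3, 0, 1, 2, 3, 5, 2] (.node (.node .leaf 655 [3, 2, 3, 4, 1, 2, 3, 6, 3, 2, 1] .leaf) 660 [3, 5, 2, 3, 2, 3, 6, 1, 2, 3, 5, 6, 2, 1] .leaf))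

def lev2T1_81 : WTree := (.node (.node (.node .leaf 662 [5, 2, 3, 4, 1, 2, 3, 6, 3, 2, 1] .leaf) 663 [4, 3, 5, 2, 3, 4, 1, 2, 3, 6, 3, 2, 1] .leaf) 669 [2, 3, 6, 1, 2, 3, 5, 6, 1, 2, 3, 1, 2, 3, 5] (.node .leaf 670 [3, 6, 1, 2, 3, 5, 4, 3, 6, 2, 3, 0, 1, 2, 3, 5, 0] .leaf))

def lev2T1_82 : WTree := (.node (.node (.node .leaf 674 [6, 1, 2, 3, 5, 4, 3, 6, 1, 2, 3, 1, 2, 3, 5, 0] .leaf) 676 [6, 1, 2, 3, 5, 6, 1, 2, 3, 1, 2, 3, 5] .leaf) 677 [4, 1, 2, 3, 6, 3, 2, 3, 1, 2, 3, 5, 2] (.node .leaf 678 [4, 3, 1, 2, 3, 6, 3, 2, 3, 1, 2, 3, 5, 2] .leaf))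

def lev2T1_83 : WTree := (.node (.node (.node .leaf 682 [6, 4, 1, 2, 3, 5, 4, 3, 6, 2, 3, 1, 2, 3, 5, 0] .leaf) 683 [3, 1, 2, 3, 6, 3, 4, 2, 3, 0, 1, 2, 3, 5, 4] .leaf) 684 [4, 3, 1, 2, 3, 6, 3, 4, 2, 3, 0, 1, 2, 3, 5, 4] (.node .leaf 685 [3, 2, 3, 5, 2, 3, 1, 2, 3, 6, 3, 1, 2, 1] .leaf))

def lev2T1_84 : WTree := (.node (.node (.node (.node lev2T1_68 583 [2, 3, 1, 2, 3, 6, 3, 1, 2, 3, 5, 3, 1] lev2T1_69) 588 [4, 3, 2, 3, 1, 2, 3, 6, 3, 1, 2, 3, 4, 0, 1] (.node lev2T1_70 594 [5, 3, 4, 2, 3, 1, 2, 3, 6, 3, 2, 3, 1] lev2T1_71)) 599 [3, 4, 2, 3, 1, 2, 3, 6, 3, 1, 2, 3, 5, 3, 1] (.node (.node lev2T1_72 608 [3, 5, 3, 2, 3, 1, 2, 3, 6, 3, 4, 1, 2, 3, 5, 1] lev2T1_73) 616 [4, 1, 2, 3, 6, 3, 2, 0, 1, 0] (.node lev2T1_74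 621 [3, 2, 3, 6, 1, 2, 3, 5, 6, 1, 2, 3, 1, 2, 3, 5] lev2T1_75))) 630 [4, 3, 2, 3, 2, 3, 1, 2, 3, 6, 3, 2, 1] (.node (.node (.node lev2T1_76 636 [2, 3, 1, 2, 3, 6, 3, 5, 2, 3, 1] lev2T1_77) 641 [3, 5, 2, 3, 2, 3, 4, 3, 1, 2, 3, 6, 3, 2, 3, 1] (.node lev2T1_78 646 [3, 5, 2, 3, 2, 3, 6, 5, 1, 2, 3, 6, 2, 1, 0] lev2T1_79)) 651 [5, 1, 2, 3, 6, 3, 2, 3, 5, 1, 2, 3, 4] (.node (.node lev2T1_80 661 [3, 5, 2, 3, 1, 2, 3, 6, 3, 1, 2, 1] lev2T1_81) 671 [3, 6, 1, 2, 3, 5, 4, 3, 6, 2, 3, 1, 2, 3, 5] (.node lev2T1_82 679 [4, 3, 5, 2, 3, 1, 2, 3, 6, 3, 1, 2, 1] lev2T1_83))))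

def lev2T1_85 : WTree := (.node (.node (.node .leaf 688 [3, 2, 3, 5, 2, 3, 1, 2, 3, 6, 3, 2, 1] .leaf) 689 [3, 2, 3, 1, 2, 3, 6, 3, 1, 2, 3, 1, 2] .leaf) 690 [5, 2, 3, 2, 3, 5, 2, 3, 1, 2, 3, 6, 3, 2, 1] (.node (.node .leaf 692 [4, 2, 3, 1, 2, 3, 6, 3, 1, 2, 3, 1, 2] .leaf) 693 [1, 2, 3, 6, 3, 4, 2, 3, 0, 1, 2, 3, 5, 2] .leaf))

def lev2T1_86 : WTree := (.node (.node (.node .leaf 698 [2, 3, 1, 2, 3, 6, 3, 2, 3, 5, 0, 1, 2, 3, 4] .leaf) 699 [4, 3, 0, 1, 2, 3, 6, 3, 1, 2, 3, 4, 0, 1] .leaf) 700 [5, 1, 2, 3, 6, 3, 2, 3, 1, 2, 3, 5, 0] (.node .leaf 701 [0, 1, 2, 3, 6, 3, 1, 2, 3, 4, 0, 1] .leaf))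

def lev2T1_87 : WTree := (.node (.node (.node .leaf 703 [5, 1, 2, 3, 6, 3, 2, 3, 4, 1, 2, 3, 2] .leaf) 704 [4, 1, 2, 3, 6, 3, 2, 3, 1, 2, 3, 5, 0] .leaf) 705 [3, 1, 2, 3, 6, 3, 5, 2, 3, 0, 1, 2, 3, 5, 0] (.node (.node .leaf 706 [4, 3, 2, 3, 4, 3, 1, 2, 3, 6, 3, 2, 3, 1] .leaf) 707 [3, 4, 1, 2, 3, 6, 3, 2, 3, 1] .leaf))

def lev2T1_88 : WTree := (.node (.node (.node .leaf 710 [4, 2, 3, 1, 2, 3, 6, 3, 5, 1, 2, 3, 4, 1, 2, 3, 2] .leaf) 711 [3, 5, 3, 4, 3, 2, 3, 1, 2, 3, 6, 3, 1, 2, 3, 5, 1, 0] .leaf) 712 [3, 2, 3, 1, 2, 3, 6, 3, 2, 3, 4, 0, 1, 2, 3, 5, 2] (.node .leaf 713 [5, 2, 3, 1, 2, 3, 6, 3, 2, 3, 4, 0, 1, 2, 3, 5, 2] .leaf))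

def lev2T1_89 : WTree := (.node (.node (.node .leaf 715 [3, 6, 5, 1, 2, 3, 6, 1, 2, 3, 4, 1] .leaf) 716 [2, 3, 1, 2, 3, 6, 3, 2, 3, 4, 0, 1, 2, 3, 5, 2] .leaf) 717 [3, 2, 3, 6, 5, 1, 2, 3, 6, 1, 2, 3, 4, 1] (.node (.node .leaf 718 [1, 2, 3, 6, 3, 2, 3, 4, 0, 1, 2, 3, 5, 2] .leaf) 719 [0, 1, 2, 3, 6, 3, 2, 3, 4, 1, 2, 3, 2] .leaf))

def lev2T1_90 : WTree := (.node (.node (.node .leaf 721 [6, 4, 1, 2, 3, 5, 6, 2, 3, 1, 2, 3, 5] .leaf) 722 [4, 2, 3, 2, 3, 1, 2, 3, 6, 3, 5, 2, 1, 0] .leaf) 723 [3, 5, 3, 1, 2, 3, 6, 3, 2, 3, 1, 2, 3, 5, 2] (.node .leaf 724 [3, 4, 2, 3, 2, 3, 1, 2, 3, 6, 3, 5, 2, 1, 0] .leaf))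

def lev2T1_91 : WTree := (.node (.node (.node .leaf 726 [5, 3, 1, 2, 3, 6, 3, 2, 3, 1, 2, 3, 5, 2] .leaf) 727 [5, 4, 3, 2, 3, 1, 2, 3, 6, 3, 1, 2, 3, 5, 1, 0] .leaf) 728 [4, 1, 2, 3, 6, 3, 2, 3, 0, 1, 2, 3, 5, 4] (.node .leaf 730 [3, 5, 3, 4, 3, 1, 2, 3, 6, 3, 1, 2, 3, 4, 1] .leaf))

def lev2T1_92 : WTree := (.node (.node (.node .leaf 732 [3, 2, 3, 1, 2, 3, 6, 3, 5, 1, 2, 3, 4, 1, 2, 3, 2] .leaf) 733 [5, 3, 2, 3, 6, 5, 1, 2, 3, 6, 1, 2, 3, 4, 0, 1] .leaf) 734 [2, 3, 5, 2, 3, 1, 2, 3, 6, 3, 4, 1, 2, 3, 5, 1] (.node .leaf 738 [4, 3, 5, 2, 3, 2, 3, 1, 2, 3, 6, 3, 4, 2, 0, 1] .leaf))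

def lev2T1_93 : WTree := (.node (.node (.node .leaf 744 [1, 2, 3, 6, 3, 2, 3, 1, 2, 3, 5, 3, 2] .leaf) 745 [5, 3, 2, 3, 0, 1, 2, 3, 6, 3, 2, 1] .leaf) 746 [4, 3, 2, 3, 0, 1, 2, 3, 6, 3, 2, 1] (.node (.node .leaf 747 [3, 1, 0, 1] .leaf) 754 [0, 1, 2, 3, 6, 3, 1, 2, 3, 5, 1, 2, 3, 2] .leaf))

def lev2T1_94 : WTree := (.node (.node (.node .leaf 756 [3, 4, 3, 2, 3, 0, 1, 2, 3, 6, 3, 2, 1] .leaf) 757 [3, 5, 4, 2, 3, 1, 2, 3, 6, 3, 1, 2, 3, 1, 2] .leaf) 758 [5, 2, 3, 1, 2, 3, 6, 3, 1, 2, 3, 1, 2] (.node .leaf 759 [3, 1, 2, 3, 6, 3, 1, 2, 3, 1, 2] .leaf))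

def lev2T1_95 : WTree := (.node (.node (.node .leaf 761 [3, 2, 3, 0, 1, 2, 3, 6, 3, 2, 1] .leaf) 762 [1, 2, 3, 6, 3, 1, 2, 3, 5, 0, 1, 2, 3, 2] .leaf) 763 [5, 3, 2, 3, 0, 1, 2, 3, 6, 3, 2, 0, 1] (.node .leaf 768 [2, 3, 2, 3, 5, 4, 2, 3, 2, 3, 1, 2, 3, 6, 3, 2, 1] .leaf))

def lev2T1_96 : WTree := (.node (.node (.node .leaf 773 [2, 3, 2, 3, 5, 4, 2, 3, 2, 3, 1, 2, 3, 6, 3, 2, 0, 1] .leaf) 774 [6, 1, 2, 3, 5, 4, 3, 6, 2, 3, 0, 1, 2, 3, 5] .leaf) 775 [2, 3, 5, 2, 3, 2, 3, 6, 5, 1, 2, 3, 6, 2, 1, 0] (.node .leaf 776 [2, 3, 1, 2, 3, 6, 3, 2, 3, 4, 0, 1, 2, 3, 2, 3, 5, 0] .leaf))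

def lev2T1_97 : WTree := (.node (.node (.node .leaf 781 [5, 4, 3, 2, 3, 4, 1, 2, 3, 6, 3, 2, 1] .leaf) 782 [4, 3, 2, 3, 4, 1, 2, 3, 6, 3, 2, 1] .leaf) 783 [5, 3] (.node (.node .leaf 787 [3, 5, 4, 3, 0, 1, 2, 3, 6, 3, 1, 2, 3, 4, 1] .leaf) 788 [3, 5, 4, 2, 3, 2, 3, 1, 2, 3, 6, 3, 2, 1] .leaf))

def lev2T1_98 : WTree := (.node (.node (.node .leaf 790 [4, 2, 3, 2, 3, 1, 2, 3, 6, 3, 2, 1] .leaf) 791 [3, 0] .leaf) 792 [] (.node .leaf 793 [4, 3] .leaf))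

def lev2T1_99 : WTree := (.node (.node (.node .leaf 808 [3, 1, 2, 3, 6, 3, 1, 2, 3, 5, 1, 2, 3, 2] .leaf) 809 [5, 2, 3, 4, 2, 3, 1, 2, 3, 6, 3, 2, 1] .leaf) 810 [2, 3, 4, 3, 2, 3, 1, 2, 3, 6, 3, 2, 1] (.node .leaf 811 [3, 4, 2, 3, 1, 2, 3, 6, 3, 2, 1] .leaf))

def lev2T1_100 : WTree := (.node (.node (.node .leaf 814 [1, 2, 3, 6, 3, 5, 2, 3, 1, 2, 3, 5, 0] .leaf) 815 [3, 5, 4, 3, 1, 2, 3, 6, 3, 1, 2, 3, 4, 1] .leaf) 816 [3, 4, 3, 2, 3, 5, 3, 2, 3, 1, 2, 3, 6, 3, 2, 1] (.node .leaf 817 [3, 4, 1, 2, 3, 6, 3, 2, 3, 0, 1, 2, 3, 5, 4] .leaf))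

def lev2T1_101 : WTree := (.node (.node (.node (.node lev2T1_85 695 [3, 2, 3, 5, 3, 2, 3, 4, 1, 2, 3, 6, 3, 2, 1] lev2T1_86) 702 [1, 2, 3, 6, 3, 2, 3, 1, 2, 3, 5, 0] (.node lev2T1_87 708 [2, 3, 4, 3, 1, 2, 3, 6, 3, 2, 3, 1] lev2T1_88)) 714 [5, 3, 4, 1, 2, 3, 6, 3, 1, 2, 3, 4, 1] (.node (.node lev2T1_89 720 [3, 5, 4, 3, 2, 3, 1, 2, 3, 6, 3, 1, 2, 3, 5, 1, 0] lev2T1_90) 725 [5, 4, 2, 3, 1, 2, 3, 6, 3, 2, 3, 1, 2, 3, 5, 2] (.node lev2T1_91 731 [4, 3, 2, 3, 6, 5, 1, 2, 3, 6, 2, 1, 0] lev2T1_92))) 740 [4, 3, 1, 2, 3, 6, 3, 5, 1, 2, 3, 4, 1, 2, 3, 2] (.node (.node (.node lev2T1_93 755 [5, 3, 4, 2, 3, 0, 1, 2, 3, 6, 3, 2, 1] lev2T1_94) 760 [4, 3, 2, 3, 0, 1, 2, 3, 6, 3, 2, 0, 1] (.node lev2T1_95 772 [2, 3, 2, 3,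 0, 1, 2, 3, 6, 3, 2, 0, 1] lev2T1_96)) 779 [5, 3, 2, 3, 2, 3, 1, 2, 3, 6, 3, 2, 1] (.node (.node lev2T1_97 789 [5, 2, 3, 2, 3, 1, 2, 3, 6, 3, 2, 1] lev2T1_98) 807 [1, 2, 3, 6, 3, 2, 3, 1] (.node lev2T1_99 813 [5, 3, 1, 2, 3, 6, 3, 2, 3, 5, 1, 2, 3, 4] lev2T1_100))))

def lev2T1_102 : WTree := (.node (.node (.node .leaf 819 [3, 2, 3, 5, 3, 2, 3, 1, 2, 3, 6, 3, 2, 1] .leaf) 820 [2, 3, 5, 2, 3, 1, 2, 3, 6, 3, 2, 1] .leaf) 821 [2, 3, 2, 3, 1, 2, 3, 6, 3, 2, 1] (.node (.node .leaf 822 [5, 2, 3, 1, 2, 3, 6, 3, 2, 1] .leaf) 823 [4, 2, 3, 2, 3, 1, 2, 3, 6, 3, 2, 0, 1] .leaf))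

def lev2T1_103 : WTree := (.node (.node (.node .leaf 826 [2, 3, 1, 2, 3, 6, 3, 2, 1] .leaf) 827 [3, 5, 4, 2, 3, 2, 3, 1, 2, 3, 6, 3, 2, 0, 1] .leaf) 828 [5, 2, 3, 2, 3, 1, 2, 3, 6, 3, 2, 0, 1] (.node .leaf 836 [5, 3, 0, 1, 2, 3, 6, 3, 2, 3, 1, 2, 3, 5, 4] .leaf))

def lev2T1_104 : WTree := (.node (.node (.node .leaf 843 [6, 4, 3, 5, 4, 3, 2, 3, 6, 5, 3, 1, 2, 3, 6, 2, 1] .leaf) 844 [6, 3, 4, 2, 3, 5, 6, 2, 3, 2, 3, 1, 2, 3, 6, 2, 1] .leaf) 851 [2, 3, 4, 3, 2, 3, 0, 1, 2, 3, 6, 3, 2, 1] (.node (.node .leaf 853 [3, 2, 3, 1, 2, 3, 6, 3, 1, 2, 3, 5, 0, 1, 2, 3, 2] .leaf) 854 [5, 2, 3, 2, 3, 1, 2, 3, 6, 3, 2, 3, 1, 2, 3, 5, 4] .leaf))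

def lev2T1_105 : WTree := (.node (.node (.node .leaf 856 [6, 0, 1, 2, 3, 5, 4, 3, 6, 2, 3, 1, 2, 3, 5] .leaf) 858 [4, 3, 1, 2, 3, 6, 3, 2, 3, 0, 1, 2, 3, 5, 2] .leaf) 859 [6, 1, 2, 3, 5, 4, 3, 6, 5, 2, 3, 1, 2, 3, 5] (.node .leaf 863 [3, 5, 2, 3, 2, 3, 1, 2, 3, 6, 3, 1, 2, 1] .leaf))

def lev2T1_106 : WTree := (.node (.node (.node .leaf 866 [3, 5, 4, 3, 2, 3, 1, 2, 3, 6, 3, 1, 2, 1] .leaf) 867 [3, 4, 3, 2, 3, 1, 2, 3, 6, 3, 1, 2, 1] .leaf) 868 [4, 3, 5, 3, 2, 3, 1, 2, 3, 6, 3, 1, 2, 1] (.node (.node .leaf 869 [2, 3, 1, 2, 3, 6, 3, 1, 2, 1] .leaf) 878 [5, 2, 3, 2, 3, 1, 2, 3, 6, 3, 2, 3, 1] .leaf))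

def lev2T1_107 : WTree := (.node (.node (.node .leaf 881 [3, 4, 3, 1, 2, 3, 6, 3, 1, 2, 3, 4, 1] .leaf) 882 [2, 3, 2, 3, 6, 1, 2, 3, 5, 6, 2, 0, 1] .leaf) 883 [2, 3, 4, 1, 2, 3, 6, 3, 1, 2, 3, 4, 1] (.node .leaf 884 [4, 3, 2, 3, 6, 1, 2, 3, 5, 6, 2, 0, 1] .leaf))

def lev2T1_108 : WTree := (.node (.node (.node .leaf 886 [5, 4, 3, 2, 3, 6, 1, 2, 3, 5, 6, 2, 0, 1] .leaf) 887 [2, 3, 6, 1, 2, 3, 5, 6, 2, 0, 1] .leaf) 888 [5, 3, 2, 3, 6, 1, 2, 3, 5, 6, 2, 0, 1] (.node .leaf 889 [3, 2, 3, 0, 1, 2, 3, 6, 3, 1, 2, 3, 1, 2, 3, 5, 0] .leaf))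

def lev2T1_109 : WTree := (.node (.node (.node .leaf 893 [5, 3, 2, 3, 4, 1, 2, 3, 6, 3, 1, 2, 3, 4, 1] .leaf) 894 [4, 3, 2, 3, 6, 1, 2, 3, 5, 6, 2, 1] .leaf) 895 [3, 2, 3, 1, 2, 3, 6, 3, 1, 2, 3, 5, 0, 1, 0] (.node .leaf 896 [4, 3, 2, 3, 0, 1, 2, 3, 6, 3, 1, 2, 3, 4, 0, 1] .leaf))

def lev2T1_110 : WTree := (.node (.node (.node .leaf 898 [3, 1, 2, 3, 6, 3, 1, 2, 3, 1, 2, 3, 5, 0] .leaf) 899 [4, 3, 6, 1, 2, 3, 5, 6, 2, 1] .leaf) 900 [2, 3, 6, 1, 2, 3, 5, 6, 2, 1] (.node (.node .leaf 901 [4, 2, 3, 6, 1, 2, 3, 5, 6, 2, 0, 1] .leaf) 902 [5, 3, 4, 2, 3, 6, 1, 2, 3, 5, 6, 2, 0, 1] .leaf))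

def lev2T1_111 : WTree := (.node (.node (.node .leaf 905 [3, 2, 3, 1, 2, 3, 6, 3, 1, 2, 3, 1, 2, 3, 5, 2] .leaf) 906 [6, 3, 5, 4, 3, 2, 3, 5, 4, 3, 1, 2, 3, 6, 2, 1] .leaf) 909 [3, 2, 3, 5, 3, 2, 3, 1, 2, 3, 6, 3, 1, 2, 3, 4, 1] (.node .leaf 910 [1, 2, 3, 6, 3, 4, 2, 0, 1] .leaf))

def lev2T1_112 : WTree := (.node (.node (.node .leaf 912 [5, 3, 4, 3, 2, 3, 2, 3, 1, 2, 3, 6, 3, 2, 1] .leaf) 914 [4, 2, 3, 2, 3, 0, 1, 2, 3, 6, 3, 2, 1] .leaf) 915 [5, 3, 4, 2, 3, 2, 3, 0, 1, 2, 3, 6, 3, 2, 1] (.node .leaf 919 [2, 3, 1, 2, 3, 6, 3, 5, 2, 3, 0, 1, 2, 3, 5, 0] .leaf))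

def lev2T1_113 : WTree := (.node (.node (.node .leaf 921 [1, 2, 3, 6, 3, 2, 3, 4, 0, 1] .leaf) 922 [4, 1, 2, 3, 6, 3, 1, 2, 3, 4, 0, 1] .leaf) 923 [3, 1, 2, 3, 6, 3, 4, 2, 3, 1, 2, 3, 5] (.node .leaf 924 [3, 1, 2, 3, 6, 3, 1, 2, 3, 5, 3, 1] .leaf))

def lev2T1_114 : WTree := (.node (.node (.node .leaf 926 [3, 2, 3, 1, 2, 3, 6, 3, 1, 2, 3, 5, 3, 1] .leaf) 927 [3, 4, 3, 2, 3, 1, 2, 3, 6, 3, 2, 3, 1] .leaf) 928 [3, 4, 3, 2, 3, 1, 2, 3, 6, 3, 1, 2, 3, 4, 1] (.node (.node .leaf 929 [2, 3, 4, 2, 3, 1, 2, 3, 6, 3, 1, 2, 3, 4, 1] .leaf) 930 [3, 1, 2, 3, 6, 3, 1, 2, 3, 1, 2, 3, 5, 2] .leaf))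

def lev2T1_115 : WTree := (.node (.node (.node .leaf 932 [3, 2, 3, 1, 2, 3, 6, 3, 2, 3, 0, 1] .leaf) 933 [1, 2, 3, 6, 3, 1, 2, 3, 1, 2, 3, 5, 2] .leaf) 935 [2, 3, 1, 2, 3, 6, 3, 4, 1, 2, 3, 5, 1] (.node .leaf 936 [4, 3, 2, 3, 1, 2, 3, 6, 3, 4, 1, 2, 3, 5, 1] .leaf))

def lev2T1_116 : WTree := (.node (.node (.node .leaf 938 [4, 3, 2, 3, 1, 2, 3, 6, 3, 1, 2, 3, 5, 3, 1] .leaf) 939 [2, 3, 0, 1, 2, 3, 6, 3, 1, 2, 3, 1, 2, 3, 5, 0] .leaf) 940 [3, 5, 3, 4, 3, 2, 3, 1, 2, 3, 6, 3, 2, 3, 1] (.node .leaf 941 [4, 3, 0, 1, 2, 3, 6, 3, 1, 2, 3, 5, 1, 2, 3, 2] .leaf))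

def lev2T1_117 : WTree := (.node (.node (.node .leaf 943 [3, 1, 2, 3, 6, 3, 2, 3, 0, 1] .leaf) 944 [4, 3, 1, 2, 3, 6, 3, 2, 3, 1] .leaf) 945 [3, 4, 2, 3, 1, 2, 3, 6, 3, 2, 3, 1] (.node .leaf 946 [1, 2, 3, 6, 3, 2, 3, 0, 1, 2, 3, 5, 2] .leaf))

def lev2T1_118 : WTree := (.node (.node (.node (.node lev2T1_102 824 [3, 2, 3, 1, 2, 3, 6, 3, 2, 0, 1] lev2T1_103) 842 [3, 2, 3, 1, 2, 3, 6, 3, 2, 3, 1, 2, 3, 5, 3, 2] (.node lev2T1_104 855 [4, 2, 3, 2, 3, 1, 2, 3, 6, 3, 2, 3, 1, 2, 3, 5, 4] lev2T1_105)) 864 [4, 3, 5, 3, 2, 3, 4, 1, 2, 3, 6, 3, 2, 1] (.node (.node lev2T1_106 879 [1, 2, 3, 6, 3, 2, 3, 0, 1, 2, 3, 5, 0] lev2T1_107) 885 [3, 2, 3, 4, 3, 1, 2, 3, 6, 3, 1, 2, 3, 4, 1] (.node lev2T1_108 890 [5, 4, 3, 2, 3,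 4, 3, 1, 2, 3, 6, 3, 1, 2, 3, 4, 1] lev2T1_109))) 897 [4, 3, 2, 3, 4, 3, 1, 2, 3, 6, 3, 1, 2, 3, 4, 1] (.node (.node (.node lev2T1_110 904 [4, 2, 3, 1, 2, 3, 6, 3, 2, 3, 0, 1, 2, 3, 5, 2] lev2T1_111) 911 [4, 1, 2, 3, 6, 3, 2, 3, 1] (.node lev2T1_112 920 [3, 4, 3, 1, 2, 3, 6, 3, 1, 2, 3, 4, 0, 1] lev2T1_113)) 925 [4, 2, 3, 2, 3, 1, 2, 3, 6, 3, 2, 3, 1] (.node (.node lev2T1_114 931 [5, 1, 2, 3, 6, 3, 2, 3, 1, 2, 3, 5, 2] lev2T1_115) 937 [3, 4, 2, 3, 1, 2, 3, 6, 3, 4, 1, 2, 3, 5, 1] (.node lev2T1_116 942 [4, 3, 1, 2, 3, 6, 3, 5, 2, 1, 0] lev2T1_117))))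

def lev2T1_119 : WTree := (.node (.node (.node .leaf 948 [5, 3, 4, 2, 3, 2, 3, 1, 2, 3, 6, 3, 2, 1] .leaf) 950 [4, 3, 0, 1, 2, 3, 6, 3, 1, 2, 3, 4, 1] .leaf) 951 [1, 2, 3, 6, 3, 4, 2, 3, 0, 1, 2, 3, 5] (.node (.node .leaf 952 [2, 3, 4, 2, 3, 1, 2, 3, 6, 3, 1, 2, 3, 5, 3, 1] .leaf) 953 [3, 5, 4, 3, 2, 3, 1, 2, 3, 6, 3, 2, 3, 1] .leaf))

def lev2T1_120 : WTree := (.node (.node (.node .leaf 955 [5, 3, 2, 3, 1, 2, 3, 6, 3, 2, 3, 0, 1] .leaf) 957 [2, 3, 1, 2, 3, 6, 3, 1, 2, 3, 1, 2, 3, 5, 0] .leaf) 958 [3, 2, 3, 1, 2, 3, 6, 3, 2, 3, 1, 2, 3, 5, 2] (.node .leaf 959 [6, 1, 2, 3, 5, 4, 3, 6, 2, 3, 4, 1, 2, 3, 2, 3, 5] .leaf))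

def lev2T1_121 : WTree := (.node (.node (.node .leaf 966 [2, 3, 0, 1, 2, 3, 6, 3, 2, 3, 0, 1, 2, 3, 5, 2] .leaf) 967 [3, 5, 2, 3, 1, 2, 3, 6, 3, 4, 1, 2, 3, 5, 1] .leaf) 968 [2, 3, 4, 2, 3, 5, 2, 3, 1, 2, 3, 6, 3, 4, 2, 1] (.node (.node .leaf 969 [2, 3, 5, 4, 3, 2, 3, 6, 1, 2, 3, 5, 6, 2, 1] .leaf) 970 [6, 1, 2, 3, 5, 4, 3, 6, 2, 3, 4, 1, 2, 3, 2, 3, 5, 0] .leaf))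

def lev2T1_122 : WTree := (.node (.node (.node .leaf 972 [6, 3, 5, 4, 3, 2, 3, 5, 3, 4, 3, 1, 2, 3, 6, 2, 0, 1] .leaf) 978 [5, 4, 3, 1, 2, 3, 6, 3, 4, 1, 2, 3, 5, 1] .leaf) 979 [3, 2, 3, 5, 2, 3, 0, 1, 2, 3, 6, 3, 1, 2, 3, 4, 1] (.node .leaf 980 [1, 2, 3, 6, 3, 4, 2, 1] .leaf))

def lev2T1_123 : WTree := (.node (.node (.node .leaf 982 [3, 4, 1, 2, 3, 6, 3, 2, 0, 1, 0] .leaf) 983 [3, 1, 2, 3, 6, 3, 5, 2, 3, 1] .leaf) 984 [4, 1, 2, 3, 6, 3, 2, 1, 0] (.node (.node .leaf 985 [6, 1, 2, 3, 5, 6, 2, 1] .leaf) 986 [3, 6, 1, 2, 3, 5, 6, 2, 0, 1] .leaf))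

def lev2T1_124 : WTree := (.node (.node (.node .leaf 988 [1, 2, 3, 6, 3, 5, 2, 1, 0] .leaf) 989 [1, 2, 3, 6, 3, 2, 3, 0, 1] .leaf) 990 [6, 5, 1, 2, 3, 6, 2, 1, 0] (.node .leaf 997 [6, 1, 2, 3, 5, 6, 0, 1, 2, 3, 1, 2, 3, 5] .leaf))

def lev2T1_125 : WTree := (.node (.node (.node .leaf 999 [1, 2, 3, 6, 3, 2, 3, 1, 2, 3, 5, 4] .leaf) 1000 [2, 3, 2, 3, 0, 1, 2, 3, 6, 3, 2, 1] .leaf) 1001 [3, 0, 1, 2, 3, 6, 3, 2, 3, 1, 2, 3, 5, 4] (.node .leaf 1002 [5, 3, 1, 2, 3, 6, 3, 2, 3, 5, 0, 1, 2, 3, 4] .leaf))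

def lev2T1_126 : WTree := (.node (.node (.node .leaf 1004 [6, 5, 1, 2, 3, 6, 1, 2, 3, 4, 0, 1] .leaf) 1005 [4, 2, 3, 5, 2, 3, 2, 3, 1, 2, 3, 6, 3, 4, 2, 0, 1] .leaf) 1006 [1, 2, 3, 2, 3, 1, 2, 3, 4, 2, 3, 1, 2, 3, 5, 2, 1] (.node .leaf 1007 [2, 3, 5, 4, 3, 2, 3, 5, 2, 3, 1, 2, 3, 6, 3, 4, 2, 1] .leaf))

def lev2T1_127 : WTree := (.node (.node (.node .leaf 1009 [2, 3, 5, 2, 3, 2, 3, 4, 3, 1, 2, 3, 6, 3, 2, 3, 1] .leaf) 1010 [5, 1, 2, 3, 6, 3, 1, 2, 3, 4, 1, 2, 3, 2] .leaf) 1011 [5, 2, 3, 2, 3, 4, 3, 1, 2, 3, 6, 3, 2, 3, 1] (.node (.node .leaf 1012 [1, 2, 3, 6, 3, 2, 3, 4, 1, 2, 3, 2] .leaf) 1013 [3, 5, 4, 3, 2, 3, 5, 2, 3, 1, 2, 3, 6, 3, 4, 2, 1] .leaf))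

def lev2T1_128 : WTree := (.node (.node (.node .leaf 1015 [4, 2, 3, 2, 3, 6, 5, 1, 2, 3, 6, 2, 1, 0] .leaf) 1016 [5, 3, 4, 2, 3, 2, 3, 6, 1, 2, 3, 5, 6, 2, 1] .leaf) 1017 [3, 4, 2, 3, 2, 3, 6, 5, 1, 2, 3, 6, 2, 1, 0] (.node .leaf 1018 [4, 2, 3, 5, 2, 3, 1, 2, 3, 6, 3, 1, 2, 3, 4, 1] .leaf))

def lev2T1_129 : WTree := (.node (.node (.node .leaf 1020 [3, 5, 2, 3, 1, 2, 3, 6, 3, 2, 3, 0, 1, 2, 3, 5, 2] .leaf) 1021 [5, 3, 0, 1, 2, 3, 6, 3, 2, 3, 1, 2, 3, 5, 2] .leaf) 1022 [5, 4, 3, 2, 3, 5, 2, 3, 1, 2, 3, 6, 3, 4, 2, 1] (.node .leaf 1024 [4, 3, 2, 3, 1, 2, 3, 6, 3, 5, 2, 1, 0] .leaf))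

def lev2T1_130 : WTree := (.node (.node (.node .leaf 1026 [1, 2, 3, 6, 3, 2, 3, 4, 0, 1, 2, 3, 2, 3, 5, 0] .leaf) 1027 [5, 4, 3, 1, 2, 3, 6, 3, 2, 3, 0, 1, 2, 3, 5, 2] .leaf) 1028 [2, 3, 4, 1, 2, 3, 6, 3, 2, 1] (.node .leaf 1033 [5, 2, 3, 2, 3, 6, 1, 2, 3, 5, 6, 2, 1] .leaf))

def lev2T1_131 : WTree := (.node (.node (.node .leaf 1035 [5, 3, 4, 1, 2, 3, 6, 3, 2, 1] .leaf) 1036 [2, 3, 5, 1, 2, 3, 6, 3, 2, 0, 1] .leaf) 1037 [5, 6, 3, 5, 6, 3, 2, 3, 5, 4, 3, 1, 2, 3, 6, 2, 1] (.node (.node .leaf 1038 [4, 3, 2, 3, 5, 1, 2, 3, 6, 3, 2, 0, 1] .leaf) 1044 [3, 1, 2, 3, 6, 3, 5, 2, 1, 0] .leaf))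

def lev2T1_132 : WTree := (.node (.node (.node .leaf 1047 [2, 3, 5, 2, 3, 0, 1, 2, 3, 6, 3, 1, 2, 3, 4, 1] .leaf) 1048 [3, 6, 1, 2, 3, 5, 4, 3, 6, 5, 2, 3, 1, 2, 3, 5] .leaf) 1050 [6, 1, 2, 3, 5, 4, 3, 6, 2, 3, 1, 2, 3, 5, 0] (.node .leaf 1052 [4, 1, 2, 3, 6, 3, 2, 3, 4, 0, 1, 2, 3, 5, 2] .leaf))

def lev2T1_133 : WTree := (.node (.node (.node .leaf 1055 [6, 1, 2, 3, 5, 6, 2, 3, 1, 2, 3, 5] .leaf) 1056 [2, 3, 2, 3, 1, 2, 3, 6, 3, 5, 2, 1, 0] .leaf) 1057 [1, 2, 3, 6, 3, 2, 3, 1, 2, 3, 5, 2] (.node .leaf 1058 [2, 3, 2, 3, 1, 2, 3, 6, 3, 2, 3, 0, 1] .leaf))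

def lev2T1_134 : WTree := (.node (.node (.node .leaf 1060 [3, 1, 2, 3, 6, 3, 2, 3, 1, 2, 3, 5, 2] .leaf) 1061 [3, 2, 3, 1, 2, 3, 6, 3, 1, 2, 3, 5, 1, 0] .leaf) 1062 [4, 3, 2, 3, 4, 1, 2, 3, 6, 3, 2, 0, 1] (.node .leaf 1066 [1, 2, 3, 6, 3, 4, 2, 3, 0, 1, 2, 3, 5, 4] .leaf))

def lev2T1_135 : WTree := (.node (.node (.node (.node lev2T1_119 954 [3, 1, 2, 3, 6, 3, 2, 3, 1] lev2T1_120) 965 [4, 3, 0, 1, 2, 3, 6, 3, 2, 3, 0, 1, 2, 3, 5, 2] (.node lev2T1_121 971 [6, 3, 5, 6, 3, 2, 3, 5, 4, 3, 1, 2, 3, 6, 2, 0, 1] lev2T1_122)) 981 [1, 2, 3, 6, 2, 3, 2, 3, 6, 2, 3, 1, 2, 3, 4, 1] (.node (.node lev2T1_123 987 [3, 2, 3, 5, 2, 3, 1, 2, 3, 6, 3, 1, 2, 3, 4, 1] lev2T1_124) 998 [4, 1, 2, 3, 6, 3, 2, 3, 0, 1, 2, 3, 5, 2] (.node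 lev2T1_125 1003 [4, 3, 6, 5, 1, 2, 3, 6, 1, 2, 3, 4, 0, 1] lev2T1_126))) 1008 [3, 4, 2, 3, 1, 2, 3, 6, 3, 5, 2, 1, 0] (.node (.node (.node lev2T1_127 1014 [5, 2, 3, 2, 3, 6, 5, 1, 2, 3, 6, 2, 1, 0] lev2T1_128) 1019 [4, 3, 0, 1, 2, 3, 6, 3, 2, 3, 1, 2, 3, 5, 2] (.node lev2T1_129 1025 [3, 2, 3, 5, 2, 3, 2, 3, 1, 2, 3, 6, 3, 4, 2, 0, 1] lev2T1_130)) 1034 [5, 2, 3, 1, 2, 3, 6, 3, 1, 2, 1] (.node (.node lev2T1_131 1046 [4, 3, 5, 2, 3, 0, 1, 2, 3, 6, 3, 1, 2, 3, 4, 1] lev2T1_132) 1054 [2, 3, 1, 2, 3, 6, 3, 1, 2, 3, 5, 1, 0] (.node lev2T1_133 1059 [4, 2, 3, 1, 2, 3, 6, 3, 2, 3, 1, 2, 3, 5, 2] lev2T1_134))))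

def lev2T1_136 : WTree := (.node (.node (.node .leaf 1069 [3, 1, 2, 3, 6, 3, 2, 3, 0, 1, 2, 3, 5, 4] .leaf) 1071 [5, 3, 2, 3, 5, 2, 3, 1, 2, 3, 6, 3, 2, 1] .leaf) 1073 [2, 3, 1, 2, 3, 6, 3, 1, 2, 3, 1, 2] (.node (.node .leaf 1074 [5, 3, 2, 3, 1, 2, 3, 6, 3, 1, 2, 3, 1, 2] .leaf) 1076 [3, 5, 2, 3, 2, 3, 5, 2, 3, 1, 2, 3, 6, 3, 2, 1] .leaf))

def lev2T1_137 : WTree := (.node (.node (.node .leaf 1081 [2, 3, 2, 3, 5, 3, 2, 3, 4, 1, 2, 3, 6, 3, 2, 1] .leaf) 1082 [4, 3, 2, 3, 5, 3, 2, 3, 4, 1, 2, 3, 6, 3, 2, 1] .leaf) 1085 [3, 5, 4, 3, 1, 2, 3, 6, 3, 0, 1, 2, 3, 4, 1] (.node .leaf 1086 [4, 3, 1, 2, 3, 6, 3, 0, 1, 2, 3, 4, 1] .leaf))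

def lev2T1_138 : WTree := (.node (.node (.node .leaf 1088 [1, 2, 3, 6, 3, 0, 1, 2, 3, 4, 1] .leaf) 1090 [1, 2, 3, 6, 3, 5, 2, 3, 0, 1, 2, 3, 5, 0] .leaf) 1091 [3, 2, 3, 4, 3, 2, 3, 1, 2, 3, 6, 3, 2, 3, 1] (.node (.node .leaf 1092 [3, 2, 3, 4, 3, 1, 2, 3, 6, 3, 2, 3, 1] .leaf) 1093 [3, 5, 2, 3, 4, 2, 3, 1, 2, 3, 6, 3, 2, 1] .leaf))

def lev2T1_139 : WTree := (.node (.node (.node .leaf 1097 [2, 3, 1, 2, 3, 6, 3, 5, 1, 2, 3, 4, 1, 2, 3, 2] .leaf) 1098 [2, 3, 5, 2, 3, 1, 2, 3, 6, 3, 4, 2, 1] .leaf) 1099 [5, 3, 4, 3, 2, 3, 1, 2, 3, 6, 3, 1, 2, 3, 5, 1, 0] (.node .leaf 1100 [3, 4, 1, 2, 3, 6, 3, 1, 2, 3, 4, 1] .leaf))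

def lev2T1_140 : WTree := (.node (.node (.node .leaf 1102 [6, 5, 1, 2, 3, 6, 1, 2, 3, 4, 1] .leaf) 1103 [6, 1, 2, 3, 5, 6, 2, 3, 0, 1, 2, 3, 5] .leaf) 1104 [2, 3, 6, 5, 1, 2, 3, 6, 1, 2, 3, 4, 0, 1] (.node (.node .leaf 1106 [3, 5, 2, 3, 2, 3, 1, 2, 3, 6, 3, 2, 1] .leaf) 1107 [4, 2, 3, 6, 5, 1, 2, 3, 6, 1, 2, 3, 4, 0, 1] .leaf))

def lev2T1_141 : WTree := (.node (.node (.node .leaf 1109 [3, 4, 2, 3, 2, 3, 6, 1, 2, 3, 5, 6, 2, 1] .leaf) 1111 [4, 3, 5, 2, 3, 1, 2, 3, 6, 3, 4, 1, 2, 3, 5, 1] .leaf) 1112 [5, 2, 3, 1, 2, 3, 6, 3, 2, 3, 1, 2, 3, 5, 2] (.node .leaf 1113 [3, 5, 2, 3, 1, 2, 3, 6, 3, 0, 1, 2, 3, 4, 1] .leaf))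

def lev2T1_142 : WTree := (.node (.node (.node .leaf 1115 [4, 3, 2, 3, 1, 2, 3, 6, 3, 1, 2, 3, 5, 1, 0] .leaf) 1116 [3, 2, 3, 6, 5, 1, 2, 3, 6, 2, 1, 0] .leaf) 1117 [5, 3, 2, 3, 4, 2, 3, 1, 2, 3, 6, 3, 2, 3, 1] (.node .leaf 1118 [5, 3, 2, 3, 4, 2, 3, 6, 1, 2, 3, 5, 6, 2, 0, 1] .leaf))

def lev2T1_143 : WTree := (.node (.node (.node .leaf 1120 [5, 3, 0, 1, 2, 3, 6, 3, 2, 3, 0, 1, 2, 3, 5, 2] .leaf) 1121 [5, 3, 4, 3, 2, 3, 5, 2, 3, 1, 2, 3, 6, 3, 4, 2, 1] .leaf) 1125 [3, 5, 2, 3, 2, 3, 1, 2, 3, 6, 3, 4, 2, 0, 1] (.node .leaf 1126 [3, 1, 2, 3, 6, 3, 5, 1, 2, 3, 4, 1, 2, 3, 2] .leaf))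

def lev2T1_144 : WTree := (.node (.node (.node .leaf 1132 [3, 1, 2, 3, 6, 3, 2, 3, 1, 2, 3, 5, 3, 2] .leaf) 1133 [5, 2, 3, 2, 3, 0, 1, 2, 3, 6, 3, 2, 1] .leaf) 1134 [3, 1, 0, 1, 0] (.node (.node .leaf 1135 [1, 0, 1] .leaf) 1136 [4, 3, 1, 0, 1] .leaf))

def lev2T1_145 : WTree := (.node (.node (.node .leaf 1150 [5, 2, 3, 4, 2, 3, 0, 1, 2, 3, 6, 3, 2, 1] .leaf) 1151 [3, 4, 2, 3, 0, 1, 2, 3, 6, 3, 2, 1] .leaf) 1152 [3, 5, 2, 3, 1, 2, 3, 6, 3, 1, 2, 3, 1, 2] (.node .leaf 1153 [1, 2, 3, 6, 3, 1, 2, 3, 1, 2] .leaf))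

def lev2T1_146 : WTree := (.node (.node (.node .leaf 1155 [3, 2, 3, 0, 1, 2, 3, 6, 3, 2, 0, 1] .leaf) 1157 [2, 3, 0, 1, 2, 3, 6, 3, 2, 1] .leaf) 1158 [3, 1, 2, 3, 6, 3, 1, 2, 3, 5, 0, 1, 2, 3, 2] (.node .leaf 1159 [5, 2, 3, 2, 3, 0, 1, 2, 3, 6, 3, 2, 0, 1] .leaf))

def lev2T1_147 : WTree := (.node (.node (.node .leaf 1167 [3, 2, 3, 5, 4, 2, 3, 2, 3, 1, 2, 3, 6, 3, 2, 1] .leaf) 1168 [6, 3, 2, 3, 6, 5, 2, 3, 4, 2, 3, 1, 2, 3, 6, 2, 1] .leaf) 1169 [2, 3, 2, 3, 4, 3, 1, 2, 3, 6, 3, 2, 3, 1, 2, 3, 5] (.node .leaf 1172 [3, 2, 3, 5, 4, 2, 3, 2, 3, 1, 2, 3, 6, 3, 2, 0, 1] .leaf))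

def lev2T1_148 : WTree := (.node (.node (.node .leaf 1174 [6, 3, 2, 3, 6, 5, 2, 3, 4, 2, 3, 1, 2, 3, 6, 1, 2, 1] .leaf) 1177 [3, 5, 3, 2, 3, 2, 3, 1, 2, 3, 6, 3, 2, 1] .leaf) 1179 [3, 5, 4, 3, 2, 3, 4, 1, 2, 3, 6, 3, 2, 1] (.node (.node .leaf 1180 [4, 3, 2, 3, 4, 3, 1, 2, 3, 6, 3, 2, 1] .leaf) 1181 [4, 3, 2] .leaf))

def lev2T1_149 : WTree := (.node (.node (.node .leaf 1188 [5, 4, 3, 0, 1, 2, 3, 6, 3, 1, 2, 3, 4, 1] .leaf) 1189 [2, 3, 5, 4, 2, 3, 2, 3, 1, 2, 3, 6, 3, 2, 1] .leaf) 1190 [4, 3, 5, 4, 2, 3, 2, 3, 1, 2, 3, 6, 3, 2, 1] (.node .leaf 1191 [3, 5, 3, 4, 2, 3, 2, 3, 1, 2, 3, 6, 3, 2, 1] .leaf))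

def lev2T1_150 : WTree := (.node (.node (.node .leaf 1193 [0] .leaf) 1195 [2] .leaf) 1196 [4] (.node .leaf 1197 [5] .leaf))

def lev2T1_151 : WTree := (.node (.node (.node .leaf 1210 [4, 2, 3, 1, 2, 3, 6, 3, 4, 2, 3, 1, 2, 3, 5, 0] .leaf) 1217 [4, 3, 1, 2, 3, 6, 3, 1, 2, 3, 5, 1, 2, 3, 2] .leaf) 1218 [2, 3, 4, 2, 3, 1, 2, 3, 6, 3, 2, 1] (.node .leaf 1219 [4, 2, 3, 1, 2, 3, 6, 3, 2, 1] .leaf))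

def lev2T1_152 : WTree := (.node (.node (.node (.node lev2T1_136 1080 [3, 1, 2, 3, 6, 3, 4, 2, 3, 0, 1, 2, 3, 5, 2] lev2T1_137) 1087 [0, 1, 2, 3, 6, 3, 2, 3, 4, 0, 1] (.node lev2T1_138 1094 [3, 4, 3, 1, 2, 3, 6, 3, 2, 3, 1] lev2T1_139)) 1101 [6, 5, 1, 2, 3, 6, 2, 3, 0, 1, 2, 3, 5, 0] (.node (.node lev2T1_140 1108 [3, 5, 1, 2, 3, 6, 3, 2, 3, 1, 2, 3, 5, 2] lev2T1_141) 1114 [5, 3, 2, 3, 1, 2, 3, 6, 3, 1, 2, 3, 5, 1, 0] (.node lev2T1_142 1119 [3, 2, 3, 6, 5, 1, 2, 3, 6, 1, 2, 3, 4, 0, 1] lev2T1_143))) 1128 [2, 3, 1, 0, 1] (.node (.node (.node lev2T1_144 1149 [3, 0, 1, 2, 3, 6, 3, 1, 2, 3, 5, 1, 2, 3, 2] lev2T1_145) 1154 [4, 2, 3, 2, 3, 0, 1, 2, 3, 6, 3, 2, 0, 1] (.node lev2T1_146 1165 [5, 3, 1, 2, 3, 6, 3, 2,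 3, 1, 2, 3, 5, 4] lev2T1_147)) 1173 [2, 3, 4, 2, 3, 5, 2, 3, 4, 2, 3, 1, 2, 3, 6, 3, 2, 1] (.node (.node lev2T1_148 1186 [2, 3, 4, 1, 2, 3, 6, 3, 2, 3, 0, 1, 2, 3, 5] lev2T1_149) 1192 [4, 3, 5, 2, 3, 1, 2, 3, 6, 3, 1, 2, 3, 1, 2] (.node lev2T1_150 1198 [3, 4, 3] lev2T1_151))))

def lev2T1_153 : WTree := (.node (.node (.node .leaf 1222 [5, 3, 2, 3, 4, 3, 1, 2, 3, 6, 3, 2, 3, 1] .leaf) 1223 [5, 4, 3, 1, 2, 3, 6, 3, 1, 2, 3, 4, 1] .leaf) 1224 [4, 3, 2, 3, 5, 3, 2, 3, 1, 2, 3, 6, 3, 2, 1] (.node (.node .leaf 1225 [6, 5, 3, 2, 3, 5, 3, 4, 2, 3, 1, 2, 3, 6, 2, 1] .leaf) 1226 [4, 3, 1, 2, 3, 6, 3, 4, 2, 3, 0, 1, 2, 3, 5, 2] .leaf))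

def lev2T1_154 : WTree := (.node (.node (.node .leaf 1228 [5, 3, 2, 3, 5, 3, 2, 3, 1, 2, 3, 6, 3, 2, 1] .leaf) 1229 [4, 3, 1, 2, 3, 6, 3, 2, 3, 1, 2, 3, 5, 3, 2] .leaf) 1230 [5, 3, 1, 2, 3, 6, 3, 2, 1] (.node .leaf 1231 [2, 3, 1, 2, 3, 6, 3, 2, 0, 1] .leaf))

def lev2T1_155 : WTree := (.node (.node (.node .leaf 1234 [3, 1, 2, 3, 6, 3, 2, 1] .leaf) 1235 [2, 3, 5, 4, 2, 3, 2, 3, 1, 2, 3, 6, 3, 2, 0, 1] .leaf) 1236 [4, 3, 5, 4, 2, 3, 2, 3, 1, 2, 3, 6, 3, 2, 0, 1] (.node (.node .leaf 1237 [3, 1, 2, 3, 6, 3, 1, 2, 3, 0, 1, 2, 3, 4, 3] .leaf) 1238 [3, 5, 2, 3, 2, 3, 1, 2, 3, 6, 3, 2, 0, 1] .leaf))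

def lev2T1_156 : WTree := (.node (.node (.node .leaf 1247 [5, 2, 3, 0, 1, 2, 3, 6, 3, 2, 3, 1, 2, 3, 5, 4] .leaf) 1250 [6, 3, 2, 3, 6, 2, 3, 2, 3, 0, 1, 2, 3, 6, 2, 1] .leaf) 1251 [4, 3, 0, 1, 2, 3, 6, 3, 2, 3, 1, 2, 3, 5, 4] (.node .leaf 1254 [5, 3, 1, 2, 3, 6, 3, 2, 3, 0, 1, 2, 3, 5, 4] .leaf))

def lev2T1_157 : WTree := (.node (.node (.node .leaf 1260 [5, 3, 2, 3, 4, 3] .leaf) 1261 [2, 3, 1, 2, 3, 6, 3, 2, 3, 1, 2, 3, 5, 3, 2] .leaf) 1262 [3, 4, 2, 3, 2, 3, 5, 3, 2, 3, 1, 2, 3, 6, 3, 2, 1] (.node (.node .leaf 1263 [3, 4, 2, 3, 1, 2, 3, 6, 3, 4, 2, 3, 1, 2, 3, 5, 0] .leaf) 1265 [6, 3, 5, 4, 3, 2, 3, 6, 5, 3, 1, 2, 3, 6, 2, 0, 1] .leaf))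

def lev2T1_158 : WTree := (.node (.node (.node .leaf 1276 [4, 3, 2, 3, 1, 2, 3, 6, 3, 2, 3, 1, 2, 3, 5, 4] .leaf) 1277 [2, 3, 1, 2, 3, 6, 3, 1, 2, 3, 5, 0, 1, 2, 3, 2] .leaf) 1278 [5, 3, 2, 3, 1, 2, 3, 6, 3, 2, 3, 1, 2, 3, 5, 4] (.node .leaf 1279 [2, 3, 2, 3, 1, 2, 3, 6, 3, 2, 3, 1, 2, 3, 5, 4] .leaf))

def lev2T1_159 : WTree := (.node (.node (.node .leaf 1281 [3, 1, 2, 3, 6, 3, 2, 3, 0, 1, 2, 3, 5, 2] .leaf) 1282 [3, 4, 2, 3, 1, 2, 3, 6, 3, 1, 2, 3, 5, 1, 0] .leaf) 1284 [2, 3, 5, 2, 3, 2, 3, 1, 2, 3, 6, 3, 1, 2, 1] (.node .leaf 1285 [3, 5, 2, 3, 2, 3, 0, 1, 2, 3, 6, 3, 2, 1] .leaf))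

def lev2T1_160 : WTree := (.node (.node (.node .leaf 1288 [2, 3, 2, 3, 1, 2, 3, 6, 3, 2, 3, 1, 2, 3, 4, 3] .leaf) 1289 [2, 3, 5, 4, 3, 2, 3, 1, 2, 3, 6, 3, 1, 2, 1] .leaf) 1290 [4, 3, 5, 4, 3, 2, 3, 1, 2, 3, 6, 3, 1, 2, 1] (.node .leaf 1291 [3, 1, 2, 3, 6, 3, 1, 2, 3, 1, 2, 3, 5] .leaf))

def lev2T1_161 : WTree := (.node (.node (.node .leaf 1293 [3, 4, 2, 3, 1, 2, 3, 6, 3, 1, 2, 1] .leaf) 1294 [1, 2, 3, 6, 3, 1, 2, 3, 1, 2, 3, 5] .leaf) 1295 [3, 1, 2, 3, 6, 3, 1, 2, 1] (.node (.node .leaf 1296 [4, 2, 3, 1, 2, 3, 6, 3, 1, 2, 1] .leaf) 1297 [3, 2, 3, 2, 3, 1, 2, 3, 6, 3, 2, 3, 1, 2, 3, 4, 3] .leaf))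

def lev2T1_162 : WTree := (.node (.node (.node .leaf 1307 [3, 2, 3, 4, 1, 2, 3, 6, 3, 1, 2, 3, 4, 1] .leaf) 1308 [3, 4, 3, 2, 3, 6, 1, 2, 3, 5, 6, 2, 0, 1] .leaf) 1309 [2, 3, 2, 3, 4, 3, 1, 2, 3, 6, 3, 1, 2, 3, 4, 1] (.node .leaf 1310 [3, 5, 4, 3, 2, 3, 6, 1, 2, 3, 5, 6, 2, 0, 1] .leaf))

def lev2T1_163 : WTree := (.node (.node (.node .leaf 1313 [3, 2, 3, 0, 1, 2, 3, 6, 3, 2, 3, 1, 2, 3, 5, 2] .leaf) 1314 [6, 3, 5, 4, 3, 2, 3, 5, 4, 3, 1, 2, 3, 6, 1, 2, 1] .leaf) 1317 [5, 3, 2, 3, 1, 2, 3, 6, 3, 0, 1, 2, 3, 4, 1] (.node .leaf 1318 [2, 3, 4, 2, 3, 0, 1, 2, 3, 6, 3, 1, 2, 3, 4, 1] .leaf))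

def lev2T1_164 : WTree := (.node (.node (.node .leaf 1320 [4, 2, 3, 2, 3, 6, 1, 2, 3, 5, 6, 2, 1] .leaf) 1321 [3, 2, 3, 6, 1, 2, 3, 5, 6, 2, 1] .leaf) 1322 [5, 4, 3, 2, 3, 6, 1, 2, 3, 5, 6, 2, 1] (.node .leaf 1324 [2, 3, 1, 2, 3, 6, 3, 1, 2, 3, 5, 0, 1, 0] .leaf))

def lev2T1_165 : WTree := (.node (.node (.node .leaf 1326 [3, 4, 2, 3, 1, 2, 3, 6, 3, 1, 2, 3, 5, 0, 1, 0] .leaf) 1327 [4, 3, 2, 3, 4, 1, 2, 3, 6, 3, 1, 2, 3, 4, 1] .leaf) 1328 [4, 3, 1, 2, 3, 6, 3, 1, 2, 3, 1, 2, 3, 5, 0] (.node (.node .leaf 1329 [2, 3, 5, 2, 3, 2, 3, 1, 2, 3, 6, 3, 2, 0, 1] .leaf) 1330 [6, 5, 1, 2, 3, 6, 2, 3, 4, 1] .leaf))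

def lev2T1_166 : WTree := (.node (.node (.node .leaf 1332 [4, 3, 6, 1, 2, 3, 5, 6, 2, 0, 1] .leaf) 1333 [3, 4, 2, 3, 6, 1, 2, 3, 5, 6, 2, 0, 1] .leaf) 1334 [0, 1, 2, 3, 6, 3, 2, 3, 0, 1, 2, 3, 5, 2] (.node .leaf 1335 [1, 2, 3, 6, 3, 0, 1, 2, 3, 1, 2, 3, 5, 2] .leaf))

def lev2T1_167 : WTree := (.node (.node (.node .leaf 1340 [3, 5, 2, 3, 1, 2, 3, 6, 3, 1, 2, 3, 5, 0, 1, 0] .leaf) 1341 [2, 3, 4, 2, 3, 1, 2, 3, 6, 3, 1, 2, 3, 5, 1, 0] .leaf) 1342 [2, 3, 1, 2, 3, 6, 3, 1, 2, 3, 1, 2, 3, 5, 2] (.node .leaf 1343 [6, 3, 5, 4, 3, 2, 3, 5, 4, 3, 0, 1, 2, 3, 6, 2, 1] .leaf))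

def lev2T1_168 : WTree := (.node (.node (.node .leaf 1345 [6, 3, 5, 4, 3, 2, 3, 5, 3, 4, 3, 1, 2, 3, 6, 2, 1] .leaf) 1347 [2, 3, 5, 3, 2, 3, 1, 2, 3, 6, 3, 1, 2, 3, 4, 1] .leaf) 1348 [3, 1, 2, 3, 6, 3, 4, 2, 0, 1] (.node .leaf 1351 [5, 3, 1, 2, 3, 6, 3, 2, 3, 1, 2, 3, 5, 3, 2] .leaf))

def lev2T1_169 : WTree := (.node (.node (.node (.node lev2T1_153 1227 [2, 3, 2, 3, 5, 3, 2, 3, 1, 2, 3, 6, 3, 2, 1] lev2T1_154) 1232 [3, 4, 2, 3, 2, 3, 1, 2, 3, 6, 3, 2, 0, 1] (.node lev2T1_155 1243 [4, 1, 2, 3, 6, 3, 2, 3, 1, 2, 3, 5] lev2T1_156)) 1259 [5, 4, 3, 1, 2, 3, 6, 3, 1, 2, 3, 5, 0, 1, 0] (.node (.node lev2T1_157 1271 [2, 3, 4, 2, 3, 0, 1, 2, 3, 6, 3, 2, 1] lev2T1_158) 1280 [6, 3, 5, 4, 3, 2, 3, 6, 5, 3, 4, 1, 2, 3,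 6, 2, 1] (.node lev2T1_159 1286 [4, 3, 5, 4, 3, 2, 3, 4, 1, 2, 3, 6, 3, 2, 1] lev2T1_160))) 1292 [5, 1, 2, 3, 6, 3, 2, 3, 1, 2, 3, 5] (.node (.node (.node lev2T1_161 1306 [4, 3, 1, 2, 3, 6, 3, 1, 2, 3, 4, 1] lev2T1_162) 1311 [5, 3, 2, 3, 6, 1, 2, 3, 5, 6, 2, 1] (.node lev2T1_163 1319 [3, 5, 4, 3, 2, 3, 6, 1, 2, 3, 5, 6, 2, 1] lev2T1_164)) 1325 [4, 3, 2, 3, 1, 2, 3, 6, 3, 1, 2, 3, 5, 0, 1, 0] (.node (.node lev2T1_165 1331 [3, 6, 1, 2, 3, 5, 6, 2, 1] lev2T1_166) 1339 [2, 3, 1, 2, 3, 6, 3, 2, 3, 0, 1, 2, 3, 5, 2] (.node lev2T1_167 1344 [6, 3, 5, 6, 3, 2, 3, 5, 4, 3, 1, 2, 3, 6, 2, 1] lev2T1_168))))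

def lev2T1_170 : WTree := (.node (.node (.node .leaf 1355 [2, 3, 4, 3, 1, 2, 3, 6, 3, 1, 2, 3, 4, 0, 1] .leaf) 1356 [3, 4, 1, 2, 3, 6, 3, 1, 2, 3, 4, 0, 1] .leaf) 1357 [1, 2, 3, 6, 3, 2, 3, 5, 0, 1, 0] (.node (.node .leaf 1358 [4, 1, 2, 3, 6, 3, 2, 3, 4, 0, 1] .leaf) 1359 [1, 2, 3, 6, 3, 1, 2, 3, 5, 3, 1] .leaf))

def lev2T1_171 : WTree := (.node (.node (.node .leaf 1361 [2, 3, 4, 3, 2, 3, 1, 2, 3, 6, 3, 2, 3, 1] .leaf) 1362 [3, 5, 4, 3, 2, 3, 5, 2] .leaf) 1363 [4, 3, 2, 3, 1, 2, 3, 6, 3, 1, 2, 3, 4, 1] (.node .leaf 1364 [3, 4, 2, 3, 1, 2, 3, 6, 3, 1, 2, 3, 4, 1] .leaf))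

def lev2T1_172 : WTree := (.node (.node (.node .leaf 1369 [4, 2, 3, 1, 2, 3, 6, 3, 4, 1, 2, 3, 5, 1] .leaf) 1370 [5, 2, 3, 1, 2, 3, 6, 3, 4, 1, 2, 3, 5, 1] .leaf) 1372 [5, 3, 4, 2, 3, 1, 2, 3, 6, 3, 1, 2, 3, 4, 1] (.node (.node .leaf 1374 [2, 3, 5, 3, 4, 3, 2, 3, 1, 2, 3, 6, 3, 2, 3, 1] .leaf) 1375 [4, 3, 5, 2, 3, 4, 2, 3, 0, 1, 2, 3, 6, 3, 2, 1] .leaf))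

def lev2T1_173 : WTree := (.node (.node (.node .leaf 1377 [1, 2, 3, 6, 3, 2, 3, 5, 3, 1] .leaf) 1378 [2, 3, 4, 2, 3, 1, 2, 3, 6, 3, 2, 3, 1] .leaf) 1379 [4, 2, 3, 0, 1, 2, 3, 6, 3, 1, 2, 3, 4, 1] (.node .leaf 1380 [3, 0, 1, 2, 3, 6, 3, 1, 2, 3, 4, 1] .leaf))

def lev2T1_174 : WTree := (.node (.node (.node .leaf 1384 [4, 2, 3, 1, 2, 3, 6, 3, 1, 2, 3, 1, 2, 3, 5, 0] .leaf) 1385 [4, 3, 2, 3, 1, 2, 3, 6, 3, 0, 1, 2, 3, 4, 1] .leaf) 1386 [2, 3, 1, 2, 3, 6, 3, 2, 3, 1, 2, 3, 5, 2] (.node (.node .leaf 1387 [6, 3, 5, 6, 3, 2, 3, 5, 4, 3, 1, 2, 3, 6, 0, 1, 2, 1] .leaf) 1395 [2, 3, 1, 0, 1, 2, 3, 5, 4] .leaf))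

def lev2T1_175 : WTree := (.node (.node (.node .leaf 1398 [3, 4, 2, 3, 5, 2, 3, 1, 2, 3, 6, 3, 4, 2, 1] .leaf) 1399 [2, 3, 5, 4, 3, 2, 3, 6, 1, 2, 3, 5, 6, 2, 0, 1] .leaf) 1400 [3, 4, 2, 3, 1, 2, 3, 6, 3, 0, 1, 2, 3, 4, 1] (.node .leaf 1401 [5, 3, 4, 2, 3, 1, 2, 3, 6, 3, 0, 1, 2, 3, 4, 1] .leaf))

def lev2T1_176 : WTree := (.node (.node (.node .leaf 1403 [6, 3, 5, 6, 3, 2, 3, 5, 4, 3, 0, 1, 2, 3, 6, 2, 0, 1] .leaf) 1404 [5, 3, 2, 3, 1, 2, 3, 6, 3, 1, 2, 3, 1, 2, 3, 4, 3] .leaf) 1405 [6, 4, 3, 5, 6, 3, 2, 3, 5, 4, 3, 1, 2, 3, 6, 2, 1] (.node .leaf 1406 [5, 2, 3, 2, 3, 1, 2, 3, 6, 3, 2, 3, 1, 2, 3, 4, 3] .leaf))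

def lev2T1_177 : WTree := (.node (.node (.node .leaf 1412 [5, 4, 2, 3, 1, 2, 3, 6, 3, 4, 1, 2, 3, 5, 1] .leaf) 1414 [5, 3, 1, 2, 3, 6, 3, 4, 1, 2, 3, 5, 1] .leaf) 1415 [4, 3, 1, 2, 3, 6, 3, 4, 1, 2, 3, 5, 1] (.node .leaf 1416 [3, 1, 2, 3, 6, 3, 4, 2, 1] .leaf))

def lev2T1_178 : WTree := (.node (.node (.node .leaf 1418 [2, 3, 4, 1, 2, 3, 6, 3, 2, 0, 1, 0] .leaf) 1419 [3, 4, 1, 2, 3, 6, 3, 2, 1, 0] .leaf) 1420 [6, 5, 1, 2, 3, 6, 2, 3, 4, 0, 1] (.node (.node .leaf 1421 [2, 3, 5, 2, 3, 1, 2, 3, 6, 3, 1, 2, 3, 4, 1] .leaf) 1422 [3, 6, 5, 1, 2, 3, 6, 2, 1, 0] .leaf))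

def lev2T1_179 : WTree := (.node (.node (.node .leaf 1428 [3, 1, 2, 3, 6, 3, 2, 3, 1, 2, 3, 5, 4] .leaf) 1429 [2, 3, 0, 1, 2, 3, 6, 3, 2, 3, 1, 2, 3, 5, 4] .leaf) 1430 [6, 4, 1, 2, 3, 5, 6, 2, 3, 0, 1, 2, 3, 5] (.node .leaf 1431 [3, 6, 5, 1, 2, 3, 6, 1, 2, 3, 4, 0, 1] .leaf))

def lev2T1_180 : WTree := (.node (.node (.node .leaf 1433 [4, 2, 3, 5, 2, 3, 1, 2, 3, 6, 3, 4, 2, 1] .leaf) 1434 [2, 3, 2, 3, 4, 3, 1, 2, 3, 6, 3, 2, 3, 1] .leaf) 1435 [2, 3, 2, 3, 6, 5, 1, 2, 3, 6, 2, 1, 0] (.node .leaf 1436 [4, 3, 5, 2, 3, 1, 2, 3, 6, 3, 1, 2, 3, 4, 1] .leaf))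

def lev2T1_181 : WTree := (.node (.node (.node .leaf 1438 [4, 2, 3, 0, 1, 2, 3, 6, 3, 2, 3, 1, 2, 3, 5, 2] .leaf) 1439 [3, 0, 1, 2, 3, 6, 3, 2, 3, 1, 2, 3, 5, 2] .leaf) 1440 [3, 2, 3, 5, 2, 3, 1, 2, 3, 6, 3, 4, 2, 1] (.node .leaf 1442 [5, 2, 3, 1, 2, 3, 6, 3, 2, 3, 0, 1, 2, 3, 5, 2] .leaf))

def lev2T1_182 : WTree := (.node (.node (.node .leaf 1444 [5, 4, 3, 2, 3, 1, 2, 3, 6, 3, 1, 2, 3, 4, 1] .leaf) 1445 [5, 3, 2, 3, 5, 2, 3, 1, 2, 3, 6, 3, 4, 2, 1] .leaf) 1446 [4, 3, 2, 3, 5, 2, 3, 1, 2, 3, 6, 3, 4, 2, 1] (.node (.node .leaf 1447 [3, 2, 3, 1, 2, 3, 6, 3, 5, 2, 1, 0] .leaf) 1448 [4, 3, 2, 3, 4, 2, 3, 1, 2, 3, 6, 3, 2, 3, 1] .leaf))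

def lev2T1_183 : WTree := (.node (.node (.node .leaf 1450 [3, 4, 1, 2, 3, 6, 3, 2, 1] .leaf) 1451 [2, 3, 4, 3, 1, 2, 3, 6, 3, 2, 1] .leaf) 1457 [0, 1, 2, 3, 6, 3, 2, 3, 1, 2, 3, 5, 2] (.node .leaf 1458 [2, 3, 2, 3, 6, 1, 2, 3, 5, 6, 2, 1] .leaf))

def lev2T1_184 : WTree := (.node (.node (.node .leaf 1460 [2, 3, 4, 1, 2, 3, 6, 3, 2, 0, 1] .leaf) 1461 [5, 6, 3, 5, 6, 3, 2, 3, 5, 4, 3, 0, 1, 2, 3, 6, 2, 1] .leaf) 1462 [1, 2, 3, 6, 3, 2, 3, 1, 2] (.node .leaf 1463 [3, 5, 1, 2, 3, 6, 3, 2, 0, 1] .leaf))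

def lev2T1_185 : WTree := (.node (.node (.node .leaf 1465 [3, 2, 3, 5, 1, 2, 3, 6, 3, 2, 0, 1] .leaf) 1466 [5, 6, 3, 5, 6, 3, 2, 3, 5, 4, 3, 1, 2, 3, 6, 1, 2, 1] .leaf) 1467 [6, 5, 1, 2, 3, 6, 2, 3, 0, 1, 2, 3, 5] (.node .leaf 1468 [5, 4, 3, 2, 3, 5, 1, 2, 3, 6, 3, 2, 0, 1] .leaf))

def lev2T1_186 : WTree := (.node (.node (.node (.node lev2T1_170 1360 [3, 2, 3, 4, 1, 2, 3, 6, 3, 1, 2, 3, 4, 0, 1] lev2T1_171) 1368 [3, 1, 2, 3, 6, 3, 4, 1, 2, 3, 5, 1] (.node lev2T1_172 1376 [4, 2, 3, 1, 2, 3, 6, 3, 5, 2, 1, 0] lev2T1_173)) 1382 [2, 3, 5, 4, 3, 2, 3, 1, 2, 3, 6, 3, 2, 3, 1] (.node (.node lev2T1_174 1397 [3, 0, 1, 2, 3, 6, 3, 2, 3, 0, 1, 2, 3, 5, 2] lev2T1_175) 1402 [3, 5, 4, 2, 3, 0, 1, 2, 3, 6, 3, 1, 2, 3, 4,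 1] (.node lev2T1_176 1409 [5, 2, 3, 2, 3, 1, 0, 1, 2] lev2T1_177))) 1417 [3, 5, 3, 2, 3, 0, 1, 2, 3, 6, 3, 1, 2, 3, 4, 1] (.node (.node (.node lev2T1_178 1427 [4, 2, 3, 1, 2, 3, 6, 3, 1, 2, 3, 5, 1, 0] lev2T1_179) 1432 [2, 3, 5, 2, 3, 2, 3, 1, 2, 3, 6, 3, 4, 2, 0, 1] (.node lev2T1_180 1437 [3, 6, 1, 2, 3, 5, 4, 3, 6, 2, 3, 1, 2, 3, 5, 0] lev2T1_181)) 1443 [5, 2, 3, 0, 1, 2, 3, 6, 3, 2, 3, 1, 2, 3, 5, 2] (.node (.node lev2T1_182 1449 [5, 3, 1, 2, 3, 6, 3, 2, 3, 0, 1, 2, 3, 5, 2] lev2T1_183) 1459 [5, 3, 1, 2, 3, 6, 3, 1, 2, 1] (.node lev2T1_184 1464 [3, 2, 3, 5, 2, 3, 2, 3, 5, 2, 3, 1, 2, 3, 6, 3, 2, 1] lev2T1_185))))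

def lev2T1_187 : WTree := (.node (.node (.node .leaf 1475 [2, 3, 1, 2, 3, 6, 3, 5, 2, 1, 0] .leaf) 1477 [0, 1, 2, 3, 6, 3, 2, 3, 4, 1] .leaf) 1478 [1, 0, 1, 2, 3, 5, 4] (.node (.node .leaf 1479 [3, 5, 2, 3, 0, 1, 2, 3, 6, 3, 1, 2, 3, 4, 1] .leaf) 1480 [3, 5, 4, 2, 3, 1, 2, 3, 6, 3, 0, 1, 2, 3, 4, 1] .leaf))

def lev2T1_188 : WTree := (.node (.node (.node .leaf 1486 [2, 3, 5, 2, 3, 2, 3, 1, 2, 3, 6, 3, 2, 1] .leaf) 1487 [5, 3, 0, 1, 2, 3, 6, 3, 1, 2, 3, 4, 1] .leaf) 1489 [3, 2, 3, 0, 1, 2, 3, 6, 3, 1, 2, 3, 4, 1] (.node .leaf 1490 [4, 2, 3, 2, 3, 4, 1, 2, 3, 6, 3, 2, 0, 1] .leaf))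

def lev2T1_189 : WTree := (.node (.node (.node .leaf 1492 [1, 2, 3, 6, 3, 0, 1, 2, 3, 1, 2, 3, 5] .leaf) 1495 [1, 2, 3, 6, 3, 2, 3, 5, 3, 0, 1] .leaf) 1496 [2, 3, 4, 3, 2, 3, 6, 1, 2, 3, 5, 6, 2, 0, 1] (.node (.node .leaf 1497 [2, 3, 1, 2, 3, 6, 3, 2, 3, 0, 1, 2, 3, 5, 4] .leaf) 1498 [4, 3, 1, 2, 3, 6, 3, 2, 3, 0, 1, 2, 3, 5, 4] .leaf))

def lev2T1_190 : WTree := (.node (.node (.node .leaf 1502 [2, 3, 5, 2, 3, 2, 3, 5, 2, 3, 1, 2, 3, 6, 3, 2, 1] .leaf) 1503 [4, 3, 5, 2, 3, 2, 3, 5, 2, 3, 1, 2, 3, 6, 3, 2, 1] .leaf) 1505 [2, 3, 5, 2, 3, 4, 2, 3, 1, 2, 3, 6, 3, 2, 1] (.node .leaf 1506 [4, 2, 3, 0, 1, 2, 3, 6, 3, 2, 3, 1, 2, 3, 5, 4] .leaf))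

def lev2T1_191 : WTree := (.node (.node (.node .leaf 1509 [3, 5, 2, 3, 1, 2, 3, 6, 3, 4, 2, 1] .leaf) 1511 [5, 4, 3, 1, 2, 3, 6, 3, 0, 1, 2, 3, 4, 1] .leaf) 1512 [4, 2, 3, 1, 2, 3, 6, 3, 0, 1, 2, 3, 4, 1] (.node (.node .leaf 1513 [3, 1, 2, 3, 6, 3, 0, 1, 2, 3, 4, 1] .leaf) 1514 [3, 1, 2, 3, 6, 3, 1, 2, 3, 1, 2, 3, 4, 3] .leaf))

def lev2T1_192 : WTree := (.node (.node (.node .leaf 1516 [4, 3, 5, 2, 3, 4, 2, 3, 1, 2, 3, 6, 3, 2, 1] .leaf) 1518 [4, 3, 5, 4, 2, 3, 1, 2, 3, 6, 3, 1, 2, 3, 4, 1] .leaf) 1519 [5, 3, 4, 2, 3, 1, 2, 3, 6, 3, 1, 2, 3, 5, 1, 0] (.node .leaf 1520 [3, 4, 3, 2, 3, 1, 2, 3, 6, 3, 1, 2, 3, 5, 1, 0] .leaf))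

def lev2T1_193 : WTree := (.node (.node (.node .leaf 1522 [2, 3, 6, 5, 1, 2, 3, 6, 2, 1, 0] .leaf) 1524 [2, 3, 5, 2, 3, 2, 3, 0, 1, 2, 3, 6, 3, 2, 1] .leaf) 1525 [5, 3, 4, 1, 2, 3, 6, 3, 1, 2, 3, 4, 0, 1] (.node .leaf 1528 [4, 3, 1, 0, 1, 2, 3, 5, 2] .leaf))

def lev2T1_194 : WTree := (.node (.node (.node .leaf 1530 [5, 2, 3, 1, 2, 3, 6, 3, 0, 1, 2, 3, 4, 1] .leaf) 1531 [4, 3, 2, 3, 0, 1, 2, 3, 6, 3, 1, 2, 3, 4, 1] .leaf) 1532 [3, 2, 3, 4, 2, 3, 1, 2, 3, 6, 3, 2, 3, 1] (.node .leaf 1533 [3, 2, 3, 4, 2, 3, 6, 1, 2, 3, 5, 6, 2, 0, 1] .leaf))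

def lev2T1_195 : WTree := (.node (.node (.node .leaf 1535 [3, 4, 3, 2, 3, 5, 2, 3, 1, 2, 3, 6, 3, 4, 2, 1] .leaf) 1537 [5, 2, 3, 2, 3, 1, 2, 3, 6, 3, 4, 2, 0, 1] .leaf) 1538 [1, 2, 3, 6, 3, 5, 1, 2, 3, 4, 1, 2, 3, 2] (.node (.node .leaf 1539 [3, 2, 3, 1, 0, 1] .leaf) 1543 [2, 3, 1, 2, 3, 6, 3, 4, 2, 3, 0, 1, 2, 3, 5, 0] .leaf))

def lev2T1_196 : WTree := (.node (.node (.node .leaf 1547 [4, 1, 0, 1] .leaf) 1548 [5, 1, 0, 1] .leaf) 1549 [3, 4, 3, 1, 0, 1] (.node .leaf 1557 [2, 3, 4, 3, 1, 2, 3, 6, 3, 2, 3, 1, 2, 3, 5] .leaf))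

def lev2T1_197 : WTree := (.node (.node (.node .leaf 1562 [2, 3, 5, 2, 3, 1, 2, 3, 6, 3, 1, 2, 3, 1, 2] .leaf) 1563 [2, 3, 0, 1, 2, 3, 6, 3, 2, 0, 1] .leaf) 1564 [3, 4, 2, 3, 2, 3, 0, 1, 2, 3, 6, 3, 2, 0, 1] (.node .leaf 1566 [3, 0, 1, 2, 3, 6, 3, 2, 1] .leaf))

def lev2T1_198 : WTree := (.node (.node (.node .leaf 1568 [5, 3, 1, 2, 3, 6, 3, 1, 2, 3, 5, 0, 1, 2, 3, 2] .leaf) 1569 [3, 5, 2, 3, 2, 3, 0, 1, 2, 3, 6, 3, 2, 0, 1] .leaf) 1570 [4, 1, 2, 3, 6, 3, 2, 3, 0, 1, 2, 3, 5] (.node .leaf 1573 [5, 2, 3, 1, 2, 3, 6, 3, 2, 3, 1, 2, 3, 5, 4] .leaf))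

def lev2T1_199 : WTree := (.node (.node (.node .leaf 1576 [4, 3, 1, 2, 3, 6, 3, 2, 3, 1, 2, 3, 5, 4] .leaf) 1577 [5, 3, 2, 3, 1, 0, 1, 2] .leaf) 1578 [4, 3, 2, 3, 5, 4, 2, 3, 2, 3, 1, 2, 3, 6, 3, 2, 1] (.node (.node .leaf 1579 [3, 2, 3, 4, 3, 1, 2, 3, 6, 3, 2, 3, 1, 2, 3, 5] .leaf) 1581 [2, 3, 2, 3, 1, 2, 3, 6, 3, 4, 2, 3, 0, 1, 2, 3, 5, 0] .leaf))

def lev2T1_200 : WTree := (.node (.node (.node .leaf 1587 [3, 4, 2, 3, 5, 2, 3, 4, 2, 3, 1, 2, 3, 6, 3, 2, 1] .leaf) 1588 [4, 3, 2, 3, 0, 1, 2, 3, 6, 3, 2, 3, 1, 2, 3, 5, 4] .leaf) 1590 [2, 3, 5, 3, 2, 3, 2, 3, 1, 2, 3, 6, 3, 2, 1] (.node .leaf 1592 [2, 3, 2, 3, 0, 1, 2, 3, 6, 3, 2, 3, 1, 2, 3, 4, 3] .leaf))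

def lev2T1_201 : WTree := (.node (.node (.node .leaf 1594 [3, 0, 1, 2, 3, 6, 3, 1, 2, 3, 1, 2, 3, 5] .leaf) 1595 [5, 0, 1, 2, 3, 6, 3, 2, 3, 1, 2, 3, 5] .leaf) 1596 [3, 2, 3, 4, 3, 1, 2, 3, 6, 3, 2, 1] (.node .leaf 1597 [0, 1, 2, 3, 6, 3, 1, 2, 3, 1, 2, 3, 5] .leaf))

def lev2T1_202 : WTree := (.node (.node (.node .leaf 1599 [3, 2] .leaf) 1600 [3, 5] .leaf) 1602 [3, 4, 1, 2, 3, 6, 3, 2, 3, 0, 1, 2, 3, 5] (.node .leaf 1606 [3, 2, 3, 1, 2, 3, 6, 3, 4, 2, 3, 1, 2, 3, 5, 0] .leaf))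

def lev2T1_203 : WTree := (.node (.node (.node (.node lev2T1_187 1485 [3, 1, 2, 3, 6, 3, 1, 2, 3, 5, 1, 0] lev2T1_188) 1491 [3, 2, 3, 4, 1, 2, 3, 6, 3, 2, 0, 1] (.node lev2T1_189 1501 [3, 5, 3, 2, 3, 1, 2, 3, 6, 3, 1, 2, 3, 1, 2] lev2T1_190)) 1507 [4, 2, 3, 2, 3, 5, 3, 2, 3, 4, 1, 2, 3, 6, 3, 2, 1] (.node (.node lev2T1_191 1515 [1, 2, 3, 6, 3, 4, 2, 3, 5, 1] lev2T1_192) 1521 [4, 1, 2, 3, 6, 3, 1, 2, 3, 4, 1] (.node lev2T1_193 1529 [5, 3, 2, 3, 0, 1, 2, 3, 6, 3, 1, 2, 3, 4, 1] lev2T1_194))) 1534 [5, 3, 4, 2, 3, 5, 2, 3, 1, 2, 3, 6, 3, 4, 2, 1] (.node (.node (.node lev2T1_195 1545 [1, 0, 1, 0] lev2T1_196) 1561 [4, 2, 3, 0, 1, 2, 3, 6, 3, 2, 1] (.node lev2T1_197 1567 [3, 2, 3, 5, 2, 3, 2, 3, 1, 2, 3, 6, 3, 2,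 0, 1] lev2T1_198)) 1575 [6, 3, 2, 3, 6, 2, 3, 2, 3, 1, 2, 3, 6, 2, 1] (.node (.node lev2T1_199 1586 [3, 2, 3, 0, 1, 2, 3, 6, 3, 2, 3, 1, 2, 3, 5, 4] lev2T1_200) 1593 [2, 3, 5, 4, 3, 2, 3, 4, 1, 2, 3, 6, 3, 2, 1] (.node lev2T1_201 1598 [4, 2, 3, 2] lev2T1_202))))

def lev2T1_204 : WTree := (.node (.node (.node .leaf 1608 [3, 2, 3, 4, 1, 2, 3, 6, 3, 2, 3, 0, 1, 2, 3, 5] .leaf) 1609 [2, 3, 1, 2, 3, 6, 3, 2, 3, 0, 1, 2, 3, 4, 3] .leaf) 1610 [5, 4, 2, 3, 0, 1, 2, 3, 6, 3, 1, 2, 3, 4, 1] (.node (.node .leaf 1611 [5, 3, 1, 2, 3, 6, 3, 0, 1, 2, 3, 4, 1] .leaf) 1612 [5, 3, 1, 0, 1, 2, 3, 5, 0] .leaf))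

def lev2T1_205 : WTree := (.node (.node (.node .leaf 1614 [2, 3, 5, 3, 4, 2, 3, 2, 3, 1, 2, 3, 6, 3, 2, 1] .leaf) 1615 [4, 2, 3, 5, 2, 3, 1, 2, 3, 6, 3, 1, 2, 3, 1, 2] .leaf) 1616 [4, 3, 5, 3, 4, 2, 3, 2, 3, 1, 2, 3, 6, 3, 2, 1] (.node .leaf 1617 [4, 3, 5, 3, 2, 3, 1, 2, 3, 6, 3, 1, 2, 3, 1, 2] .leaf))

def lev2T1_206 : WTree := (.node (.node (.node .leaf 1619 [5, 2] .leaf) 1620 [3, 4] .leaf) 1621 [5, 4] (.node (.node .leaf 1622 [2, 3, 4, 3] .leaf) 1623 [3, 5, 0] .leaf))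

def lev2T1_207 : WTree := (.node (.node (.node .leaf 1631 [4, 3, 1, 2, 3, 6, 3, 4, 2, 3, 1, 2, 3, 5, 0] .leaf) 1634 [2, 3, 0, 1, 2, 3, 6, 3, 2, 3, 1, 2, 3, 4, 3] .leaf) 1635 [4, 2, 3, 0, 1, 2, 3, 6, 3, 2, 3, 1, 2, 3, 4, 3] (.node .leaf 1637 [5, 1, 0, 1, 2] .leaf))

def lev2T1_208 : WTree := (.node (.node (.node .leaf 1640 [4, 3, 1, 2, 3, 6, 3, 2, 1] .leaf) 1644 [5, 3, 1, 2, 3, 6, 3, 1, 2, 3, 4, 1] .leaf) 1645 [5, 4, 2, 3, 1, 2, 3, 6, 3, 1, 2, 3, 4, 1] (.node (.node .leaf 1646 [4, 2, 3, 2, 3, 5, 3, 2, 3, 1, 2, 3, 6, 3, 2, 1] .leaf) 1647 [5, 4, 3, 2, 3, 5, 3, 2, 3, 1, 2, 3, 6, 3, 2, 1] .leaf))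

def lev2T1_209 : WTree := (.node (.node (.node .leaf 1649 [3, 2, 3, 2, 3, 5, 3, 2, 3, 1, 2, 3, 6, 3, 2, 1] .leaf) 1650 [5, 2, 3, 2, 3, 5, 3, 2, 3, 1, 2, 3, 6, 3, 2, 1] .leaf) 1651 [6, 3, 2, 3, 6, 2, 3, 2, 3, 1, 2, 3, 6, 1, 2, 1] (.node .leaf 1652 [4, 1, 2, 3, 6, 3, 2, 0, 1] .leaf))

def lev2T1_210 : WTree := (.node (.node (.node .leaf 1654 [5, 1, 2, 3, 6, 3, 2, 3, 0, 1, 2, 3, 4, 3] .leaf) 1655 [1, 2, 3, 6, 3, 1, 2, 3, 0, 1, 2, 3, 4, 3] .leaf) 1656 [3, 2, 3, 4, 2, 3, 0, 1, 2, 3, 6, 3, 2, 1] (.node .leaf 1658 [0, 1, 2, 3, 6, 3, 2, 0, 1] .leaf))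

def lev2T1_211 : WTree := (.node (.node (.node .leaf 1660 [3, 2, 3, 5, 2, 3, 4, 2, 3, 1, 2, 3, 6, 3, 2, 1] .leaf) 1661 [2, 3, 1, 2, 3, 6, 3, 1, 2, 3, 0, 1, 2, 3, 4, 3] .leaf) 1662 [4, 3, 5, 2, 3, 2, 3, 1, 2, 3, 6, 3, 2, 0, 1] (.node .leaf 1663 [4, 3, 1, 2, 3, 6, 3, 1, 2, 3, 0, 1, 2, 3, 4, 3] .leaf))

def lev2T1_212 : WTree := (.node (.node (.node .leaf 1666 [1, 2, 3, 6, 3, 4, 2, 3, 1, 2, 3, 5, 0] .leaf) 1667 [3, 4, 1, 2, 3, 6, 3, 2, 3, 1, 2, 3, 5] .leaf) 1668 [1, 2, 3, 6, 3, 2, 3, 1, 2, 3, 5] (.node (.node .leaf 1669 [6, 5, 1, 2, 3, 6, 2, 3, 1, 2, 3, 5] .leaf) 1672 [3, 1, 2, 3, 6, 3, 4, 2, 3, 0, 1, 2, 3, 5, 0] .leaf))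

def lev2T1_213 : WTree := (.node (.node (.node .leaf 1677 [4, 2, 3, 1, 2, 3, 6, 3, 1, 2, 3, 1, 2, 3, 4, 3] .leaf) 1679 [5, 4, 3, 1, 2, 3, 6, 3, 2, 3, 0, 1, 2, 3, 5, 4] .leaf) 1680 [0, 1, 2, 3, 6, 3, 2, 3, 1, 2, 3, 5] (.node .leaf 1682 [5, 2, 3, 1, 2, 3, 6, 3, 2, 3, 0, 1, 2, 3, 5, 4] .leaf))

def lev2T1_214 : WTree := (.node (.node (.node .leaf 1686 [5, 4, 2, 3, 1, 2, 3, 6, 3, 1, 2, 3, 5, 0, 1, 0] .leaf) 1688 [5, 3, 1, 2, 3, 6, 3, 1, 2, 3, 5, 0, 1, 0] .leaf) 1689 [3, 1, 2, 3, 6, 3, 1, 2, 3, 5, 0, 1, 0] (.node .leaf 1690 [4, 3, 1, 2, 3, 6, 3, 1, 2, 3, 5, 0, 1, 0] .leaf))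

def lev2T1_215 : WTree := (.node (.node (.node .leaf 1692 [5, 3, 2, 3, 5, 0] .leaf) 1693 [3, 2, 3, 4, 3] .leaf) 1695 [5, 2, 3, 1, 2, 3, 6, 3, 2, 3, 1, 2, 3, 5, 3, 2] (.node .leaf 1696 [6, 3, 5, 6, 3, 2, 3, 6, 5, 3, 1, 2, 3, 6, 2, 0, 1] .leaf))

def lev2T1_216 : WTree := (.node (.node (.node .leaf 1703 [4, 2, 3, 1, 2, 3, 6, 3, 2, 3, 0, 1, 2, 3, 5, 4] .leaf) 1704 [3, 2, 3, 1, 2, 3, 6, 3, 2, 3, 1, 2, 3, 5, 4] .leaf) 1705 [2, 3, 2, 3, 5, 2, 3, 2, 3, 1, 2, 3, 6, 3, 2, 0, 1] (.node (.node .leaf 1706 [5, 2, 3, 1, 2, 3, 6, 3, 1, 2, 3, 5, 0, 1, 2, 3, 2] .leaf) 1707 [4, 2, 3, 5, 2, 3, 4, 2, 3, 0, 1, 2, 3, 6, 3, 2, 1] .leaf))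

def lev2T1_217 : WTree := (.node (.node (.node .leaf 1709 [2, 3, 2, 3, 5, 4, 3, 2, 3, 4, 1, 2, 3, 6, 3, 2, 1] .leaf) 1710 [4, 3, 5, 2, 3, 1, 2, 3, 6, 3, 4, 2, 1] .leaf) 1711 [4, 2, 3, 5, 4, 3, 2, 3, 4, 1, 2, 3, 6, 3, 2, 1] (.node .leaf 1712 [3, 5, 4, 3, 2, 3, 5, 1, 2, 3, 6, 3, 2, 0, 1] .leaf))

def lev2T1_218 : WTree := (.node (.node (.node .leaf 1714 [3, 2, 3, 1, 2, 3, 6, 3, 2, 3, 1, 2, 3, 4, 3] .leaf) 1715 [3, 2, 3, 5, 4, 3, 2, 3, 1, 2, 3, 6, 3, 1, 2, 1] .leaf) 1716 [4, 2, 3, 5, 4, 3, 2, 3, 1, 2, 3, 6, 3, 1, 2, 1] (.node .leaf 1717 [2, 3, 1, 2, 3, 6, 3, 1, 2, 3, 1, 2, 3, 5] .leaf))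

def lev2T1_219 : WTree := (.node (.node (.node .leaf 1719 [4, 3, 1, 2, 3, 6, 3, 1, 2, 1] .leaf) 1720 [1, 2, 3, 6, 3, 1, 2, 1] .leaf) 1721 [3, 2, 3, 0, 1, 2, 3, 6, 3, 1, 2, 3, 1, 2, 3, 4, 3] (.node .leaf 1722 [6, 3, 5, 6, 3, 2, 3, 5, 4, 3, 0, 1, 2, 3, 6, 2, 1] .leaf))

def lev2T1_220 : WTree := (.node (.node (.node (.node lev2T1_204 1613 [4, 2, 3, 5, 4, 2, 3, 2, 3, 1, 2, 3, 6, 3, 2, 1] lev2T1_205) 1618 [5, 0] (.node lev2T1_206 1629 [2, 3, 1, 2, 3, 6, 3, 4, 2, 3, 1, 2, 3, 5, 0] lev2T1_207)) 1639 [3, 2, 3, 4, 2, 3, 1, 2, 3, 6, 3, 2, 1] (.node (.node lev2T1_208 1648 [5, 4, 3, 2, 3, 5] lev2T1_209) 1653 [3, 1, 2, 3, 6, 3, 2, 0, 1] (.node lev2T1_210 1659 [1, 2, 3, 6, 3, 2, 1] lev2T1_211))) 1664 [5, 3, 4, 2, 3, 1,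 2, 3, 6, 3, 1, 2, 1] (.node (.node (.node lev2T1_212 1675 [6, 3, 2, 3, 2, 3, 6, 3, 2, 3, 1, 2, 3, 6, 2, 1] lev2T1_213) 1683 [3, 2, 3, 5, 2, 3, 2] (.node lev2T1_214 1691 [5, 3, 4, 2, 3, 2] lev2T1_215)) 1700 [6, 3, 5, 6, 3, 2, 3, 5, 4, 3, 1, 2, 3, 6, 1, 2, 1] (.node (.node lev2T1_216 1708 [2, 3, 2, 3, 5, 4, 3, 2, 3, 1, 2, 3, 6, 3, 1, 2, 1] lev2T1_217) 1713 [3, 5, 4, 1, 0, 1] (.node lev2T1_218 1718 [3, 1, 2, 3, 6, 3, 0, 1, 2, 3, 1, 2, 3, 5] lev2T1_219))))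

def lev2T1_221 : WTree := (.node (.node (.node .leaf 1725 [0, 1, 2, 3, 6, 3, 2, 3, 0, 1, 2, 3, 5] .leaf) 1729 [4, 2, 3, 1, 2, 3, 6, 3, 1, 2, 3, 4, 1] .leaf) 1730 [3, 1, 2, 3, 6, 3, 1, 2, 3, 4, 1] (.node (.node .leaf 1731 [3, 2, 3, 1, 2, 3, 6, 3, 0, 1, 2, 3, 4, 1] .leaf) 1733 [2, 3, 0, 1, 2, 3, 6, 3, 2, 3, 1, 2, 3, 5, 2] .leaf))

def lev2T1_222 : WTree := (.node (.node (.node .leaf 1736 [3, 4, 2, 3, 0, 1, 2, 3, 6, 3, 1, 2, 3, 4, 1] .leaf) 1740 [4, 2, 3, 1, 2, 3, 6, 3, 1, 2, 3, 5, 0, 1, 0] .leaf) 1741 [5, 2, 3, 1, 2, 3, 6, 3, 1, 2, 3, 5, 0, 1, 0] (.node .leaf 1742 [4, 1, 2, 3, 6, 3, 2, 3, 4, 1] .leaf))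

def lev2T1_223 : WTree := (.node (.node (.node .leaf 1747 [4, 2, 3, 2, 3, 5, 2] .leaf) 1749 [3, 2, 3, 4, 3, 1, 2, 3, 6, 3, 1, 2, 3, 4, 0, 1] .leaf) 1750 [3, 5, 4, 2, 3, 1, 2, 3, 6, 3, 1, 2, 3, 4, 1] (.node (.node .leaf 1751 [3, 6, 3, 2, 3, 2, 3, 6, 3, 2, 3, 1, 2, 3, 6, 2, 1] .leaf) 1752 [6, 3, 5, 6, 3, 2, 3, 5, 3, 4, 3, 1, 2, 3, 6, 2, 1] .leaf))

def lev2T1_224 : WTree := (.node (.node (.node .leaf 1755 [2, 3, 1, 2, 3, 6, 3, 4, 2, 0, 1] .leaf) 1758 [5, 2, 3, 4, 3, 1, 2, 3, 6, 3, 1, 2, 3, 4, 0, 1] .leaf) 1759 [2, 3, 2, 3, 5, 0] (.node .leaf 1760 [2, 3, 4, 1, 2, 3, 6, 3, 1, 2, 3, 4, 0, 1] .leaf))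

def lev2T1_225 : WTree := (.node (.node (.node .leaf 1762 [1, 2, 3, 6, 3, 2, 3, 5, 1, 0] .leaf) 1763 [0, 1, 2, 3, 6, 3, 1, 2, 3, 4, 1] .leaf) 1764 [3, 4, 2, 3, 2, 3, 5, 0] (.node (.node .leaf 1765 [3, 4, 2, 3, 2, 3, 5, 2] .leaf) 1766 [5, 4, 3, 2, 3, 5, 2] .leaf))

def lev2T1_226 : WTree := (.node (.node (.node .leaf 1768 [3, 2, 3, 1, 2, 3, 6, 3, 1, 2, 3, 4, 1] .leaf) 1772 [2, 3, 2, 3, 1, 0, 1, 2] .leaf) 1773 [1, 2, 3, 6, 3, 4, 1, 2, 3, 5, 1] (.node .leaf 1776 [4, 3, 0, 1, 2, 3, 6, 3, 1, 2, 3, 1, 2, 3, 4, 3] .leaf))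

def lev2T1_227 : WTree := (.node (.node (.node .leaf 1778 [2, 3, 0, 1, 2, 3, 6, 3, 1, 2, 3, 4, 1] .leaf) 1782 [3, 2, 3, 1, 0, 1, 2, 3, 5, 4] .leaf) 1783 [3, 4, 2, 3, 1, 2, 3, 6, 3, 2, 3, 0, 1, 2, 3, 4, 3] (.node .leaf 1784 [2, 3, 5, 2, 3, 2] .leaf))

def lev2T1_228 : WTree := (.node (.node (.node .leaf 1788 [3, 1, 0, 1, 2, 3, 5, 4] .leaf) 1789 [1, 0, 1, 2, 3, 2, 3, 5, 2] .leaf) 1790 [4, 3, 1, 0, 1, 2, 3, 5, 4] (.node .leaf 1791 [5, 3, 2, 3, 0, 1, 2, 3, 6, 3, 1, 2, 3, 1, 2, 3, 4, 3] .leaf))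

def lev2T1_229 : WTree := (.node (.node (.node .leaf 1793 [3, 2, 3, 1, 2, 3, 6, 3, 1, 2, 3, 1, 2, 3, 4, 3] .leaf) 1794 [5, 3, 2, 3, 1, 2, 3, 6, 3, 2, 3, 1, 2, 3, 4, 3] .leaf) 1795 [2, 3, 2, 3, 5, 1, 0, 1, 0] (.node (.node .leaf 1797 [5, 2, 3, 2, 3, 4, 1, 0, 1] .leaf) 1798 [4, 2, 3, 2, 3, 5, 1, 0, 1] .leaf))

def lev2T1_230 : WTree := (.node (.node (.node .leaf 1802 [2, 3, 1, 2, 3, 6, 3, 4, 2, 1] .leaf) 1803 [5, 3, 1, 2, 3, 6, 3, 4, 2, 1] .leaf) 1804 [1, 0, 1, 2, 3, 5, 2] (.node .leaf 1806 [3, 2, 3, 4, 1, 2, 3, 6, 3, 2, 0, 1, 0] .leaf))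

def lev2T1_231 : WTree := (.node (.node (.node .leaf 1808 [3, 5, 2, 3, 1, 2, 3, 6, 3, 1, 2, 3, 4, 1] .leaf) 1809 [1, 2, 3, 6, 3, 2, 3, 4, 1] .leaf) 1812 [4, 3, 1, 2, 3, 6, 3, 1, 2, 3, 5, 1, 0] (.node .leaf 1813 [2, 3, 1, 2, 3, 6, 3, 2, 3, 1, 2, 3, 5, 4] .leaf))

def lev2T1_232 : WTree := (.node (.node (.node .leaf 1815 [4, 3, 5, 3, 2, 3, 1, 2, 3, 6, 3, 1, 2, 3, 4, 1] .leaf) 1819 [4, 3, 2, 3, 5, 2] .leaf) 1820 [5, 3, 2, 3, 1, 2, 3, 6, 3, 1, 2, 3, 4, 1] (.node .leaf 1821 [5, 2, 3, 4, 1, 2, 3, 6, 3, 1, 2, 3, 4, 0, 1] .leaf))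

def lev2T1_233 : WTree := (.node (.node (.node .leaf 1823 [3, 4, 3, 1, 2, 3, 6, 3, 2, 1] .leaf) 1825 [3, 4, 1, 2, 3, 6, 3, 2, 0, 1] .leaf) 1826 [3, 5, 2, 3, 1, 2, 3, 6, 3, 2, 3, 0, 1, 2, 3, 5, 4] (.node (.node .leaf 1827 [3, 0, 1, 2, 3, 6, 3, 2, 0, 1] .leaf) 1828 [5, 1, 2, 3, 6, 3, 2, 0, 1] .leaf))

def lev2T1_234 : WTree := (.node (.node (.node .leaf 1830 [5, 3, 2, 3, 5, 1, 2, 3, 6, 3, 2, 0, 1] .leaf) 1831 [3, 2, 3, 5, 3, 2, 3, 1, 2, 3, 6, 3, 1, 2, 3, 1, 2] .leaf) 1832 [2, 3, 5, 2, 3, 4, 2, 3, 0, 1, 2, 3, 6, 3, 2, 1] (.node .leaf 1833 [3, 0, 1, 2, 3, 6, 3, 1, 2, 3, 1, 2, 3, 4, 3] .leaf))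

def lev2T1_235 : WTree := (.node (.node (.node .leaf 1836 [1, 0, 1, 2, 3, 5, 2, 3, 4] .leaf) 1837 [2, 3, 5, 1, 0, 1, 2] .leaf) 1838 [2, 3, 5, 4, 1, 0, 1] (.node .leaf 1839 [5, 2, 3, 0, 1, 2, 3, 6, 3, 1, 2, 3, 4, 1] .leaf))

def lev2T1_236 : WTree := (.node (.node (.node .leaf 1842 [1, 2, 3, 6, 3, 1, 2, 3, 5, 1, 0] .leaf) 1843 [5, 3, 1, 0, 1, 2, 3, 5, 2] .leaf) 1844 [6, 5, 1, 2, 3, 6, 2, 3, 0, 1, 2, 3, 4, 3] (.node .leaf 1845 [2, 3, 2, 3, 4, 1, 2, 3, 6, 3, 2, 0, 1] .leaf))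

def lev2T1_237 : WTree := (.node (.node (.node (.node lev2T1_221 1735 [3, 2, 3, 1, 0, 1, 2, 3, 5, 2] lev2T1_222) 1743 [2, 3, 4, 2, 3, 6, 1, 2, 3, 5, 6, 2, 0, 1] (.node lev2T1_223 1754 [3, 5, 3, 2, 3, 1, 2, 3, 6, 3, 1, 2, 3, 4, 1] lev2T1_224)) 1761 [1, 2, 3, 6, 3, 1, 2, 3, 5, 0, 1, 0] (.node (.node lev2T1_225 1767 [3, 4, 2, 3, 2, 3, 5] lev2T1_226) 1777 [2, 3, 1, 0, 1, 2, 3, 5, 0] (.node lev2T1_227 1787 [2, 3, 1, 0, 1, 2, 3, 5, 2] lev2T1_228))) 1792 [5, 3, 2, 3, 5, 2, 3, 4, 2, 3, 1, 2, 3, 6, 3, 2, 1] (.node (.node (.node lev2T1_229 1801 [5, 3, 2, 3, 1, 2, 3, 6, 3, 4, 2, 0, 1] lev2T1_230) 1807 [2, 3, 4, 1, 2, 3, 6, 3, 2, 1, 0] (.node lev2T1_231 1814 [2, 3, 5, 4] lev2T1_232)) 1822 [4, 1, 2, 3, 6, 3, 2, 1] (.node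 (.node lev2T1_233 1829 [2, 3, 2, 3, 5, 1, 2, 3, 6, 3, 2, 0, 1] lev2T1_234) 1834 [3, 5, 3, 4, 1, 0, 1] (.node lev2T1_235 1840 [5, 4, 2, 3, 1, 2, 3, 6, 3, 0, 1, 2, 3, 4, 1] lev2T1_236))))

def lev2T1_238 : WTree := (.node (.node (.node .leaf 1847 [5, 3, 2, 3, 4, 1, 2, 3, 6, 3, 2, 0, 1] .leaf) 1848 [4, 3, 1, 2, 3, 6, 3, 1, 2, 3, 1, 2, 3, 4, 3] .leaf) 1849 [4, 2, 3, 1, 2, 3, 6, 3, 2, 3, 1, 2, 3, 5, 4] (.node (.node .leaf 1852 [2, 3, 5, 3, 2, 3, 1, 2, 3, 6, 3, 1, 2, 3, 1, 2] .leaf) 1853 [2, 3, 1, 2, 3, 6, 3, 1, 2, 3, 1, 2, 3, 4, 3] .leaf))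

def lev2T1_239 : WTree := (.node (.node (.node .leaf 1855 [4, 2, 3, 5, 2, 3, 4, 2, 3, 1, 2, 3, 6, 3, 2, 1] .leaf) 1857 [5, 2, 3, 1, 2, 3, 6, 3, 4, 2, 1] .leaf) 1861 [1, 0, 1, 2, 3, 2, 3, 5, 0] (.node .leaf 1862 [2, 3, 1, 2, 3, 6, 3, 0, 1, 2, 3, 4, 1] .leaf))

def lev2T1_240 : WTree := (.node (.node (.node .leaf 1864 [3, 2, 3, 5, 4] .leaf) 1865 [1, 2, 3, 6, 3, 1, 2, 3, 4, 1] .leaf) 1866 [3, 1, 0, 1, 2, 3, 5, 2] (.node (.node .leaf 1867 [4, 3, 2, 3, 5, 4, 1, 0, 1] .leaf) 1868 [2, 3, 2, 3, 1, 2, 3, 6, 3, 4, 2, 0, 1] .leaf))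

def lev2T1_241 : WTree := (.node (.node (.node .leaf 1870 [2, 3, 2, 3, 4, 1, 2, 3, 6, 3, 2, 0, 1, 0] .leaf) 1871 [1, 0, 1, 2, 3, 4] .leaf) 1872 [3, 1, 0, 1, 2] (.node .leaf 1873 [3, 5, 1, 0, 1] .leaf))

def lev2T1_242 : WTree := (.node (.node (.node .leaf 1877 [3, 2, 3, 4, 1, 2, 3, 6, 3, 2, 3, 1, 2, 3, 5] .leaf) 1878 [5, 3, 2, 3, 4, 1, 2, 3, 6, 3, 2, 3, 1, 2, 3, 5] .leaf) 1879 [3, 2, 3, 1, 2, 3, 6, 3, 4, 2, 3, 0, 1, 2, 3, 5, 0] (.node (.node .leaf 1880 [2, 3, 0, 1, 2, 3, 6, 3, 2, 3, 0, 1, 2, 3, 4, 3] .leaf) 1881 [1, 0, 1, 2] .leaf))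

def lev2T1_243 : WTree := (.node (.node (.node .leaf 1883 [3, 4, 1, 0, 1] .leaf) 1884 [5, 4, 1, 0, 1] .leaf) 1885 [1, 0, 1, 2, 3, 2] (.node .leaf 1886 [3, 5, 1, 0, 1, 0] .leaf))

def lev2T1_244 : WTree := (.node (.node (.node .leaf 1889 [2, 3, 4, 1, 2, 3, 6, 3, 2, 3, 1, 2, 3, 5] .leaf) 1890 [3, 2, 3, 1, 2, 3, 6, 3, 2, 3, 0, 1, 2, 3, 5] .leaf) 1893 [3, 4, 3, 1, 2, 3, 6, 3, 2, 3, 1, 2, 3, 5] (.node .leaf 1894 [2, 3, 1, 2, 3, 6, 3, 2, 3, 1, 2, 3, 4, 3] .leaf))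

def lev2T1_245 : WTree := (.node (.node (.node .leaf 1897 [4, 3, 0, 1, 2, 3, 6, 3, 2, 1] .leaf) 1898 [2, 3, 2, 3, 5, 4, 1, 0, 1] .leaf) 1899 [0, 1, 2, 3, 6, 3, 1, 2, 3, 0, 1, 2, 3, 4, 3] (.node .leaf 1901 [0, 1, 2, 3, 6, 3, 2, 1] .leaf))

def lev2T1_246 : WTree := (.node (.node (.node .leaf 1903 [5, 3, 2, 3, 4, 3, 1, 2, 3, 6, 3, 2, 1] .leaf) 1904 [1, 2, 3, 6, 3, 2, 3, 0, 1, 2, 3, 5] .leaf) 1905 [3, 5, 2, 3, 1, 2, 3, 6, 3, 2, 3, 1, 2, 3, 5, 4] (.node (.node .leaf 1908 [6, 2, 3, 2, 3, 6, 2, 3, 2, 3, 1, 2, 3, 6, 2, 1] .leaf) 1910 [5, 3, 2, 3, 4, 1, 0, 1] .leaf))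

def lev2T1_247 : WTree := (.node (.node (.node .leaf 1913 [2, 3, 2, 3, 5, 4, 3, 2, 3, 5, 1, 2, 3, 6, 3, 2, 0, 1] .leaf) 1916 [3, 5, 4] .leaf) 1917 [3, 2, 3, 0, 1, 2, 3, 6, 3, 2, 3, 1, 2, 3, 4, 3] (.node .leaf 1918 [3, 2, 3, 5, 4, 3, 2, 3, 4, 1, 2, 3, 6, 3, 2, 1] .leaf))

def lev2T1_248 : WTree := (.node (.node (.node .leaf 1920 [2, 3, 2, 3, 4, 3, 1, 2, 3, 6, 3, 2, 1] .leaf) 1921 [3, 4, 2, 3, 2] .leaf) 1922 [2, 3, 2] (.node .leaf 1923 [2, 3, 5] .leaf))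

def lev2T1_249 : WTree := (.node (.node (.node .leaf 1925 [5, 2, 3, 2] .leaf) 1927 [3, 4, 3, 1, 2, 3, 6, 3, 2, 3, 0, 1, 2, 3, 5] .leaf) 1928 [3, 1, 2, 3, 6, 3, 2, 3, 0, 1, 2, 3, 4, 3] (.node .leaf 1931 [4, 3, 1, 2, 3, 6, 3, 2, 3, 0, 1, 2, 3, 4, 3] .leaf))

def lev2T1_250 : WTree := (.node (.node (.node .leaf 1933 [4, 3, 2, 3, 5, 1, 0, 1, 2] .leaf) 1934 [5, 3, 1, 0, 1, 2, 3, 5] .leaf) 1935 [2, 3, 2, 3, 5, 1, 0, 1, 2] (.node (.node .leaf 1936 [3, 1, 0, 1, 2, 3, 5, 0] .leaf) 1937 [6, 3, 2, 3, 2, 3, 6, 3, 2, 3, 1, 2, 3, 6, 1, 2, 1] .leaf))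

def lev2T1_251 : WTree := (.node (.node (.node .leaf 1939 [3, 5, 2] .leaf) 1940 [2, 3, 4] .leaf) 1941 [5, 3, 4] (.node .leaf 1942 [2, 3, 5, 0] .leaf))

def lev2T1_252 : WTree := (.node (.node (.node .leaf 1945 [3, 1, 2, 3, 6, 3, 4, 2, 3, 1, 2, 3, 5, 0] .leaf) 1947 [4, 3, 0, 1, 2, 3, 6, 3, 2, 3, 1, 2, 3, 5] .leaf) 1948 [4, 3, 0, 1, 2, 3, 6, 3, 2, 3, 1, 2, 3, 4, 3] (.node .leaf 1950 [3, 0, 1, 2, 3, 6, 3, 2, 3, 1, 2, 3, 4, 3] .leaf))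

def lev2T1_253 : WTree := (.node (.node (.node .leaf 1952 [5, 1, 2, 3, 6, 3, 2, 3, 1, 2, 3, 4, 3] .leaf) 1953 [3, 0, 1, 2, 3, 6, 3, 2, 3, 1, 2, 3, 5] .leaf) 1954 [5, 2, 3, 1, 2, 3, 6, 3, 1, 2, 3, 4, 1] (.node .leaf 1955 [4, 3, 2, 3, 5, 3, 2] .leaf))

def lev2T1_254 : WTree := (.node (.node (.node (.node lev2T1_238 1854 [6, 3, 5, 2, 3, 6, 4, 3, 5, 2, 3, 1, 2, 3, 6, 2, 1] lev2T1_239) 1863 [1, 2, 3, 6, 3, 1, 2, 3, 1, 2, 3, 4, 3] (.node lev2T1_240 1869 [1, 2, 3, 6, 3, 5, 2, 3, 4, 1, 2, 3, 2] lev2T1_241)) 1874 [2, 3, 4, 1, 0, 1] (.node (.node lev2T1_242 1882 [5, 1, 0, 1, 0] lev2T1_243) 1887 [2, 3, 1, 0, 1, 2] (.node lev2T1_244 1895 [4, 2, 3, 1, 2, 3, 6, 3, 2, 3, 1, 2, 3, 4, 3] lev2T1_245))) 1902 [5, 3, 2, 3, 5,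 2, 3, 2, 3, 1, 2, 3, 6, 3, 2, 0, 1] (.node (.node (.node lev2T1_246 1911 [3, 2, 3, 1, 0, 1, 2] lev2T1_247) 1919 [2, 3, 0, 1, 2, 3, 6, 3, 1, 2, 3, 1, 2, 3, 5] (.node lev2T1_248 1924 [5, 3, 2] lev2T1_249)) 1932 [3, 2, 3, 1, 2, 3, 6, 3, 2, 3, 0, 1, 2, 3, 4, 3] (.node (.node lev2T1_250 1938 [4, 2, 3, 5, 3, 2, 3, 1, 2, 3, 6, 3, 1, 2, 3, 1, 2] lev2T1_251) 1943 [5, 2, 3, 4] (.node lev2T1_252 1951 [3, 5, 1, 0, 1, 2] lev2T1_253))))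

def lev2T1_255 : WTree := (.node (.node (.node .leaf 1957 [5, 4, 3, 2, 3, 5, 0] .leaf) 1958 [4, 3, 2, 3, 5] .leaf) 1959 [6, 2, 3, 2, 3, 6, 2, 3, 2, 3, 1, 2, 3, 6, 1, 2, 1] (.node (.node .leaf 1960 [3, 5, 2, 3, 2, 3, 5, 3, 2, 3, 1, 2, 3, 6, 3, 2, 1] .leaf) 1961 [1, 2, 3, 6, 3, 2, 0, 1] .leaf))

def lev2T1_256 : WTree := (.node (.node (.node .leaf 1963 [6, 5, 1, 2, 3, 6, 2, 3, 1, 2, 3, 4, 3] .leaf) 1964 [0, 1, 2, 3, 6, 3, 1, 2, 3, 1, 2, 3, 4, 3] .leaf) 1965 [4, 3, 1, 2, 3, 6, 3, 2, 3, 1, 2, 3, 5] (.node .leaf 1966 [2, 3, 1, 2, 3, 6, 3, 2, 3, 0, 1, 2, 3, 5] .leaf))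

def lev2T1_257 : WTree := (.node (.node (.node .leaf 1968 [3, 1, 2, 3, 6, 3, 2, 3, 1, 2, 3, 5] .leaf) 1970 [4, 3, 0, 1, 2, 3, 6, 3, 2, 3, 0, 1, 2, 3, 4, 3] .leaf) 1971 [3, 0, 1, 2, 3, 6, 3, 2, 3, 0, 1, 2, 3, 4, 3] (.node (.node .leaf 1974 [5, 4, 2, 3, 1, 2, 3, 6, 3, 2, 3, 0, 1, 2, 3, 5, 4] .leaf) 1975 [5, 2, 3, 2, 3, 5, 2, 3, 2, 3, 1, 2, 3, 6, 3, 2, 0, 1] .leaf))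

def lev2T1_258 : WTree := (.node (.node (.node .leaf 1977 [2, 3, 2, 3, 4, 3] .leaf) 1981 [3, 4, 2, 3, 5, 2] .leaf) 1982 [3, 2, 3, 5, 0] (.node .leaf 1983 [3, 2, 3, 1, 2, 3, 6, 3, 0, 1, 2, 3, 1, 2, 3, 5] .leaf))

def lev2T1_259 : WTree := (.node (.node (.node .leaf 1987 [4, 3, 2, 3, 1, 2, 3, 6, 3, 2, 3, 1, 2, 3, 4, 3] .leaf) 1988 [3, 0, 1, 2, 3, 6, 3, 2, 3, 0, 1, 2, 3, 5] .leaf) 1990 [2, 3, 5, 4, 3, 2, 3, 5, 1, 2, 3, 6, 3, 2, 0, 1] (.node (.node .leaf 1991 [3, 2, 3, 5, 1, 0, 1] .leaf) 1992 [2, 3, 1, 2, 3, 6, 3, 0, 1, 2, 3, 1, 2, 3, 5] .leaf))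

def lev2T1_260 : WTree := (.node (.node (.node .leaf 1994 [3, 1, 2, 3, 6, 3, 2, 3, 0, 1, 2, 3, 5] .leaf) 1995 [2, 3, 0, 1, 2, 3, 6, 3, 1, 2, 3, 1, 2, 3, 4, 3] .leaf) 1996 [4, 3, 5, 2] (.node .leaf 1997 [4, 2, 3, 2, 3, 5] .leaf))

def lev2T1_261 : WTree := (.node (.node (.node .leaf 1999 [3, 2, 3, 1, 0, 1, 2, 3, 5] .leaf) 2000 [3, 2, 3, 1, 0, 1, 2, 3, 5, 0] .leaf) 2002 [2, 3, 2, 3, 5, 2] (.node .leaf 2003 [4, 3, 2, 3, 5, 4] .leaf))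

def lev2T1_262 : WTree := (.node (.node (.node .leaf 2005 [4, 2, 3, 5, 2, 3, 4] .leaf) 2006 [2, 3, 5, 2] .leaf) 2007 [3, 2, 3, 1, 2, 3, 6, 3, 4, 2, 0, 1] (.node .leaf 2009 [2, 3, 2, 3, 5] .leaf))

def lev2T1_263 : WTree := (.node (.node (.node .leaf 2011 [5, 3, 2, 3, 5, 2] .leaf) 2012 [2, 3, 2, 3, 4, 1, 0, 1] .leaf) 2014 [2, 3, 1, 0, 1, 2, 3, 5] (.node (.node .leaf 2015 [1, 0, 1, 2, 3, 2, 3, 5] .leaf) 2016 [3, 5, 2, 3, 2] .leaf))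

def lev2T1_264 : WTree := (.node (.node (.node .leaf 2018 [4, 2, 3, 5, 2, 3, 2] .leaf) 2019 [3, 2, 3, 5, 1, 0, 1, 0] .leaf) 2020 [2, 3, 2, 3, 5, 1, 0, 1] (.node .leaf 2021 [4, 3, 2, 3, 5, 1, 0, 1] .leaf))

def lev2T1_265 : WTree := (.node (.node (.node .leaf 2024 [4, 2, 3, 5, 2] .leaf) 2025 [3, 2, 3, 5, 2] .leaf) 2026 [3, 4, 3, 2, 3, 5, 2] (.node .leaf 2027 [4, 3, 2, 3, 5, 1, 0, 1, 0] .leaf))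

def lev2T1_266 : WTree := (.node (.node (.node .leaf 2030 [3, 2, 3, 5, 1, 0, 1, 2] .leaf) 2031 [3, 2, 3, 5, 4, 1, 0, 1] .leaf) 2032 [0, 1, 2, 3, 6, 3, 2, 3, 0, 1, 2, 3, 4, 3] (.node .leaf 2034 [4, 3, 1, 0, 1, 2, 3, 5] .leaf))

def lev2T1_267 : WTree := (.node (.node (.node .leaf 2036 [1, 2, 3, 6, 3, 2, 3, 1, 2, 3, 4, 3] .leaf) 2037 [2, 3, 5, 1, 0, 1] .leaf) 2038 [4, 3, 5, 1, 0, 1] (.node (.node .leaf 2039 [2, 3, 5, 1, 0, 1, 0] .leaf) 2040 [3, 2, 3, 4, 1, 0, 1] .leaf))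

def lev2T1_268 : WTree := (.node (.node (.node .leaf 2042 [1, 0, 1, 2, 3, 5, 0] .leaf) 2043 [4, 3, 1, 2, 3, 6, 3, 2, 3, 1, 2, 3, 4, 3] .leaf) 2044 [4, 3, 1, 2, 3, 6, 3, 2, 3, 0, 1, 2, 3, 5] (.node .leaf 2045 [3, 2, 3, 5, 4, 3, 2, 3, 5, 1, 2, 3, 6, 3, 2, 0, 1] .leaf))

def lev2T1_269 : WTree := (.node (.node (.node .leaf 2048 [3, 5, 2, 3, 4] .leaf) 2049 [2, 3, 4, 2, 3, 2] .leaf) 2050 [3, 2, 3, 5] (.node .leaf 2051 [3, 1, 0, 1, 2, 3, 5] .leaf))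

def lev2T1_270 : WTree := (.node (.node (.node .leaf 2053 [3, 2, 3, 5, 3, 2] .leaf) 2054 [4, 3, 2, 3, 5, 0] .leaf) 2055 [4, 3, 5, 2, 3, 2] (.node .leaf 2057 [4, 3, 5, 2, 3, 4] .leaf))

def lev2T1_271 : WTree := (.node (.node (.node (.node lev2T1_255 1962 [1, 2, 3, 6, 3, 2, 3, 0, 1, 2, 3, 4, 3] lev2T1_256) 1967 [3, 1, 2, 3, 6, 3, 2, 3, 1, 2, 3, 4, 3] (.node lev2T1_257 1976 [5, 2, 3, 4, 2, 3, 2] lev2T1_258)) 1986 [4, 3, 5, 4, 1, 0, 1] (.node (.node lev2T1_259 1993 [3, 6, 2, 3, 2, 3, 6, 2, 3, 2, 3, 1, 2, 3, 6, 2, 1] lev2T1_260) 1998 [2, 3, 1, 2, 3, 6, 3, 1, 2, 3, 4, 1] (.node lev2T1_261 2004 [4, 3, 2, 3, 0, 1, 2, 3, 6, 3, 2, 3, 1, 2, 3, 4, 3] lev2T1_262))) 2010 [4, 2, 3, 2, 3, 5, 0] (.node (.node (.node lev2T1_263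 2017 [2, 3, 5, 2, 3, 4] lev2T1_264) 2023 [2, 3, 5, 3, 2] (.node lev2T1_265 2028 [5, 3, 4, 1, 0, 1] lev2T1_266)) 2035 [0, 1, 2, 3, 6, 3, 2, 3, 1, 2, 3, 4, 3] (.node (.node lev2T1_267 2041 [1, 0, 1, 2, 3, 5] lev2T1_268) 2047 [3, 5, 3, 2] (.node lev2T1_269 2052 [4, 3, 1, 0, 1, 2, 3, 5, 0] lev2T1_270))))

def lev2T1 : WTree := (.node (.node (.node (.node lev2T1_16 149 [6, 3, 5, 2, 3, 1, 2, 3, 6, 4, 3, 2, 3, 6, 5, 1, 2, 3, 6, 2] lev2T1_33) 292 [3, 1, 2, 3, 6, 3, 5, 2, 3, 1, 2, 3, 5] (.node lev2T1_50 432 [3, 5, 4, 3, 2, 3, 4, 1, 2, 3, 6, 3, 2, 3, 1] lev2T1_67)) 577 [6, 5, 1, 2, 3, 6, 4, 2, 3, 1, 2, 3, 5] (.node (.node lev2T1_84 686 [1, 2, 3, 6, 3, 2, 3, 0, 1, 2, 3, 5, 4] lev2T1_101) 818 [4, 3, 5, 4, 2, 3, 1, 2, 3,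 6, 3, 1, 2, 3, 1, 2] (.node lev2T1_118 947 [5, 3, 4, 3, 2, 3, 1, 2, 3, 6, 3, 2, 3, 1] lev2T1_135))) 1067 [5, 3, 2, 3, 5, 2, 3, 1, 2, 3, 6, 3, 1, 2, 1] (.node (.node (.node lev2T1_152 1221 [5, 3, 2, 3, 6, 5, 1, 2, 3, 6, 2, 1, 0] lev2T1_169) 1354 [5, 3, 4, 3, 1, 2, 3, 6, 3, 1, 2, 3, 4, 0, 1] (.node lev2T1_186 1469 [3, 5, 2, 3, 4, 2, 3, 0, 1, 2, 3, 6, 3, 2, 1] lev2T1_203)) 1607 [4, 2, 3, 1, 2, 3, 6, 3, 2, 3, 0, 1, 2, 3, 4, 3] (.node (.node lev2T1_220 1724 [2, 3, 5, 2, 3, 2, 3, 5, 3, 2, 3, 1, 2, 3, 6, 3, 2, 1] lev2T1_237) 1846 [1, 2, 3, 6, 3, 4, 2, 3, 0, 1, 2, 3, 5, 0] (.node lev2T1_254 1956 [5, 3, 2, 3, 5] lev2T1_271))))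

def lev2T2_0 : WTree := (.node .leaf 12 [2, 1, 0, 3, 4, 3, 2, 3, 2, 1, 6, 3, 2, 3, 4, 2, 3, 6, 1, 2, 3, 5, 2, 3, 1] .leaf)

def lev2T2_1 : WTree := (.node .leaf 15 [2, 6, 5, 3, 2, 4, 3, 2, 1, 0, 3, 2, 3, 4, 5, 3, 6, 2, 3, 4, 1, 2, 3, 2, 3, 6, 3] .leaf)

def lev2T2_2 : WTree := (.node .leaf 33 [2, 1, 4, 3, 2, 1, 3, 6, 3, 2, 3, 2, 3, 6, 3, 2, 3, 5, 1] .leaf)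

def lev2T2_3 : WTree := (.node .leaf 48 [0, 1, 4, 5, 3, 2, 3, 6, 3, 2, 1, 3, 2, 3, 1, 2, 3, 6, 3, 2, 3, 5, 1, 2] .leaf)

def lev2T2_4 : WTree := (.node .leaf 52 [2, 1, 6, 3, 5, 2, 3, 6, 4, 3, 5, 4, 2, 3, 6, 4, 1] .leaf)

def lev2T2_5 : WTree := (.node .leaf 59 [2, 1, 6, 3, 2, 5, 3, 4, 6, 3, 2, 3, 1, 2, 3, 5, 4, 3, 6, 5, 0] .leaf)

def lev2T2_6 : WTree := (.node .leaf 91 [3, 2, 1, 3, 2, 4, 6, 3, 4, 5, 3, 2, 6, 3, 5, 1, 2, 3, 4, 3, 2, 3, 5, 2, 3] .leaf)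

def lev2T2_7 : WTree := (.node (.node (.node (.node lev2T2_0 13 [1, 0, 3, 2, 1, 5, 3, 2, 1, 6, 3, 2, 3, 4, 2, 3, 6, 1, 2, 3, 2, 3, 1] .leaf) 14 [1, 5, 3, 2, 3, 6, 3, 2, 3, 1, 2, 3, 1, 2, 3, 6, 3, 2, 3, 5, 1] (.node lev2T2_1 16 [3, 2, 4, 5, 3, 2, 1, 3, 6, 3, 2, 5, 3, 6, 4, 3, 2, 3, 1, 2, 3, 5, 4, 3, 6, 5] .leaf)) 17 [2, 3, 2, 3, 2, 1, 6, 3, 2, 5, 3, 6, 4, 3, 2, 3, 1, 2, 3, 5, 4, 3, 6, 5] (.node (.node lev2T2_2 34 [3, 2, 3, 2, 1, 6, 3, 5, 2, 3, 6, 4, 3, 5, 4, 2, 3, 6, 4, 1] .leaf) 47 [1, 0, 3, 2, 1, 3, 2, 1, 6, 3, 2, 3, 4, 2, 3, 6, 1, 2, 3, 5, 2, 3, 1] (.node lev2T2_3 49 [1, 5, 3, 2, 3, 6, 3, 2, 1, 3, 2, 3, 1, 2, 3, 6, 3, 2, 3, 5, 3, 1, 2, 3] .leaf))) 51 [0, 1, 3, 2, 1, 3, 6, 3, 2, 3, 2, 3, 6, 3, 2, 3, 5, 1]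 (.node (.node (.node lev2T2_4 57 [3, 4, 5, 3, 2, 1, 3, 6, 3, 2, 5, 3, 6, 4, 3, 2, 3, 1, 2, 3, 5, 4, 3, 6, 5] .leaf) 58 [3, 2, 3, 2, 1, 0, 5, 3, 2, 6, 3, 5, 4, 3, 6, 2, 3, 1, 2, 3, 5, 4, 3, 2] (.node lev2T2_5 62 [6, 3, 2, 5, 3, 2, 1, 3, 6, 3, 4, 2, 3, 5, 2, 3, 2, 3, 5, 3, 2, 1, 0] .leaf)) 64 [0, 3, 2, 5, 3, 2, 1, 4, 3, 2, 1, 3, 5, 2, 3, 2, 3, 5, 2, 3, 2, 3, 6, 1] (.node (.node lev2T2_6 94 [0, 1, 2, 6, 5, 3, 2, 1, 6, 3, 2, 3, 2, 5, 3, 1, 2, 3, 6, 3, 1, 2, 3, 4, 1, 2] .leaf) 96 [0, 3, 4, 5, 3, 2, 1, 6, 3, 5, 2, 3, 6, 4, 3, 5, 4, 2, 3, 6, 4, 1] (.node .leaf 108 [3, 2, 1, 0, 3, 2, 1, 3, 4, 6, 3, 2, 1, 3, 4, 2, 3, 2, 3, 1, 2, 3, 6, 4, 3, 2, 1] .leaf))))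

def lev2T2_8 : WTree := (.node .leaf 134 [1, 3, 2, 5, 3, 2, 1, 3, 2, 4, 3, 2, 3, 1, 2, 3, 6, 3, 5, 3, 6, 2, 1, 0] .leaf)

def lev2T2_9 : WTree := (.node .leaf 145 [1, 2, 5, 3, 6, 3, 2, 1, 3, 2, 3, 2, 5, 3, 2, 3, 6, 1, 2, 3, 5, 6, 1, 2, 1, 0] .leaf)

def lev2T2_10 : WTree := (.node .leaf 168 [2, 4, 6, 3, 2, 1, 3, 2, 1, 4, 3, 5, 3, 2, 3, 5, 2, 3, 1, 2, 3, 1, 2, 3, 6, 3] .leaf)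

def lev2T2_11 : WTree := (.node .leaf 193 [0, 1, 2, 1, 6, 3, 5, 6, 3, 2, 1, 3, 2, 3, 4, 2, 3, 6, 1, 2, 3, 2, 3, 1] .leaf)

def lev2T2_12 : WTree := (.node .leaf 222 [1, 2, 5, 6, 3, 2, 1, 5, 3, 2, 3, 2, 3, 6, 3, 2, 3, 1, 2, 3, 5, 3, 6, 2, 1, 0] .leaf)

def lev2T2_13 : WTree := (.node .leaf 232 [1, 5, 3, 2, 3, 6, 3, 2, 3, 2, 3, 6, 3, 2, 3, 1, 0] .leaf)

def lev2T2_14 : WTree := (.node .leaf 243 [3, 2, 5, 3, 2, 3, 5, 2, 3, 2, 3, 5, 2, 3, 4] .leaf)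

def lev2T2_15 : WTree := (.node (.node (.node (.node lev2T2_8 136 [0, 1, 3, 2, 3, 6, 3, 2, 1, 3, 5, 3, 2, 3, 5, 2, 3, 1, 2, 3, 6, 3, 2, 3, 5, 1] .leaf) 138 [1, 4, 3, 6, 3, 2, 5, 3, 6, 4, 3, 2, 3, 1, 2, 3, 5, 4, 3, 6, 5] (.node lev2T2_9 164 [3, 4, 3, 5, 3, 4, 2, 3, 1, 2, 3, 6, 3, 2, 3, 5, 0, 1] .leaf)) 166 [2, 1, 0, 5, 3, 2, 6, 3, 4, 5, 3, 6, 2, 3, 1, 2, 3, 5, 4, 3, 2, 3, 2, 3] (.node (.node lev2T2_10 175 [4, 3, 2, 1, 3, 2, 1, 3, 5, 2, 3, 2, 3, 5, 2, 3, 2, 3, 6, 1] .leaf) 176 [0, 3, 2, 1, 3, 2, 4, 6, 3, 5, 4, 3, 6, 2, 3, 5, 1, 2, 3, 4, 3, 2] (.node lev2T2_11 197 [0, 3, 2, 3, 2, 1, 6, 3, 2, 5, 3, 2, 3, 5, 3, 2, 3, 1, 2, 3, 0, 1, 0] .leaf))) 201 [1, 2, 4, 6, 3, 5, 6, 3, 2, 1, 3, 2, 3, 4, 2, 3, 6, 1, 2, 3, 2,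 3, 1] (.node (.node (.node lev2T2_12 226 [2, 1, 0, 5, 3, 2, 6, 3, 5, 4, 3, 6, 2, 3, 1, 2, 3, 5, 4, 3, 2] .leaf) 231 [1, 2, 3, 6, 2, 3, 2, 3, 6, 2, 3, 2, 3, 5, 3, 1, 0] (.node lev2T2_13 239 [0, 2, 3, 4, 5, 3, 4, 2, 3, 1, 2, 3, 6, 3, 2, 3, 5, 0, 1] .leaf)) 240 [1, 0, 2, 1, 3, 4, 6, 3, 2, 1, 3, 4, 2, 3, 2, 3, 1, 2, 3, 6, 4, 3, 2, 1] (.node (.node lev2T2_14 251 [1, 0, 3, 2, 1, 3, 5, 2, 3, 2, 3, 5, 3, 2, 3, 6, 1, 0] .leaf) 256 [1, 0, 2, 3, 2, 6, 3, 2, 3, 4, 6, 3, 2, 3, 1, 2, 3, 2, 3, 1, 2, 3, 2, 1] (.node .leaf 269 [0, 2, 3, 4, 5, 3, 2, 1, 0, 4, 3, 2, 3, 6, 3, 2, 3, 5, 4, 1, 2, 0] .leaf))))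

def lev2T2_16 : WTree := (.node .leaf 276 [1, 3, 2, 1, 3, 6, 3, 2, 3, 2, 1, 3, 6, 3, 2, 3, 5, 3, 1, 2, 3, 2, 3, 5] .leaf)

def lev2T2_17 : WTree := (.node .leaf 283 [1, 4, 6, 3, 2, 5, 3, 4, 6, 3, 5, 4, 2, 3, 6, 1, 2, 3, 2, 3, 4] .leaf)

def lev2T2_18 : WTree := (.node .leaf 295 [1, 2, 3, 2, 1, 4, 3, 2, 3, 2, 1, 6, 3, 5, 2, 3, 6, 3, 4, 3, 2, 3, 6, 1] .leaf)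

def lev2T2_19 : WTree := (.node .leaf 332 [0, 1, 0, 2, 3, 6, 3, 2, 3, 6, 2, 3, 5, 6, 1, 2, 3, 5, 4, 3, 1, 2] .leaf)

def lev2T2_20 : WTree := (.node .leaf 337 [1, 2, 5, 3, 6, 3, 2, 1, 3, 2, 3, 5, 2, 3, 2, 3, 1, 2, 3, 6, 3, 5, 2, 1] .leaf)

def lev2T2_21 : WTree := (.node .leaf 351 [1, 0, 2, 3, 4, 6, 3, 2, 1, 3, 4, 2, 3, 2, 3, 1, 2, 3, 6, 4, 3, 2, 1] .leaf)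

def lev2T2_22 : WTree := (.node .leaf 365 [1, 0, 2, 6, 3, 5, 6, 3, 2, 1, 0, 3, 4, 2, 3, 2, 3, 1, 2, 3, 6, 4, 3, 2, 1] .leaf)

def lev2T2_23 : WTree := (.node (.node (.node (.node lev2T2_16 278 [3, 2, 3, 2, 1, 3, 2, 3, 5, 2, 3, 2, 3, 5, 2, 3, 2, 3, 6, 1] .leaf) 279 [1, 2, 5, 6, 3, 5, 6, 3, 2, 1, 3, 2, 3, 4, 2, 3, 1, 2, 3, 5, 2, 3, 4, 3, 1, 2] (.node lev2T2_17 285 [0, 1, 0, 3, 2, 3, 4, 5, 3, 2, 1, 3, 2, 3, 4, 2, 3, 1, 2, 3, 5, 4, 3, 1, 2, 3, 1, 0] .leaf)) 288 [0, 1, 2, 3, 4, 6, 3, 2, 3, 2, 1, 3, 2, 3, 2, 3, 1, 2, 3, 6, 3, 5, 3, 6, 2, 1] (.node (.node lev2T2_18 308 [0, 3, 2, 1, 3, 2, 1, 6, 3, 5, 6, 3, 2, 1, 3, 2, 3, 4, 2, 3, 6, 1, 2, 3, 2, 3, 1] .leaf) 322 [1, 2, 1, 3, 6, 3, 2, 1, 3, 4, 3, 5, 3, 2, 3, 4, 1, 2,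 3, 6, 3, 2, 3, 1, 2] (.node lev2T2_19 335 [1, 3, 2, 1, 5, 3, 2, 1, 3, 2, 4, 3, 2, 3, 1, 2, 3, 6, 3, 5, 3, 6, 2, 1, 0] .leaf))) 336 [0, 6, 3, 2, 1, 3, 2, 1, 4, 3, 5, 3, 2, 3, 5, 2, 3, 1, 2, 3, 1, 2, 3, 6, 3] (.node (.node (.node lev2T2_20 342 [1, 3, 2, 1, 3, 2, 5, 3, 2, 3, 2, 5, 3, 2, 3, 6, 1, 2, 3, 2, 3, 4, 2, 3, 5, 3] .leaf) 349 [1, 3, 2, 5, 3, 2, 1, 3, 2, 4, 3, 2, 1, 3, 4, 2, 3, 6, 4, 3, 2, 3, 5, 4, 3, 1, 2] (.node lev2T2_21 360 [4, 3, 2, 6, 3, 2, 1, 5, 3, 2, 3, 6, 4, 3, 5, 1, 2, 3, 6, 4, 1] .leaf)) 362 [2, 1, 3, 2, 3, 5, 2, 3, 2, 3, 5, 2, 3, 2, 3, 6, 1] (.node (.node lev2T2_22 367 [0, 4, 3, 2, 3, 2, 1, 6, 3, 2, 5, 3, 6, 4, 3, 5, 4, 2, 3, 6, 1, 2, 3, 2, 3] .leaf) 370 [1, 2, 3, 4, 6, 3, 2, 1, 3, 2, 1, 3, 2,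 3, 1, 2, 3, 6, 4, 3, 2, 3, 5, 3, 1, 0] (.node .leaf 373 [1, 3, 5, 4, 3, 6, 4, 2, 3, 5, 4, 3, 6, 2, 1] .leaf))))

def lev2T2_24 : WTree := (.node .leaf 377 [6, 1, 2, 3, 5, 4, 3, 6, 1, 2, 1] .leaf)

def lev2T2_25 : WTree := (.node .leaf 388 [1, 0, 1, 3, 2, 3, 5, 3, 2, 3, 1, 2, 3, 6, 3, 2, 3, 5, 1] .leaf)

def lev2T2_26 : WTree := (.node .leaf 400 [3, 4, 5, 3, 2, 1, 6, 3, 2, 4, 5, 3, 6, 4, 3, 5, 2, 3, 6, 1, 2, 3, 2, 3] .leaf)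

def lev2T2_27 : WTree := (.node .leaf 439 [0, 3, 4, 5, 3, 2, 1, 0, 4, 3, 2, 3, 6, 3, 2, 3, 5, 4, 3, 1, 2] .leaf)

def lev2T2_28 : WTree := (.node .leaf 450 [2, 3, 2, 1, 3, 2, 1, 3, 5, 2, 3, 2, 3, 5, 2, 3, 2, 3, 6, 1, 2] .leaf)

def lev2T2_29 : WTree := (.node .leaf 480 [1, 2, 5, 3, 2, 1, 6, 3, 2, 4, 3, 2, 1, 3, 2, 3, 2, 3, 5, 3, 1, 2, 3, 4, 2, 3, 5, 0] .leaf)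

def lev2T2_30 : WTree := (.node (.node (.node (.node lev2T2_24 384 [0, 1, 2, 1, 6, 3, 4, 5, 3, 2, 6, 3, 5, 1, 2, 3, 4, 3, 2, 3, 5, 2, 3] .leaf) 386 [0, 1, 2, 1, 6, 3, 4, 5, 3, 6, 2, 3, 5, 1, 2, 3, 4, 3, 2, 3, 5, 3] (.node lev2T2_25 395 [1, 0, 3, 4, 5, 3, 2, 1, 3, 6, 3, 2, 3, 2, 3, 6, 3, 4, 1, 2, 1] .leaf)) 398 [0, 2, 1, 6, 3, 2, 5, 3, 4, 6, 3, 5, 4, 2, 3, 6, 1, 2, 3, 2, 3, 4] (.node (.node lev2T2_26 418 [4, 2, 3, 2, 3, 4, 2] .leaf) 426 [1, 2, 3, 6, 3, 2, 3, 2, 1, 3, 6, 3, 2, 3, 5, 1, 2, 3, 1, 2, 3, 6, 3, 2, 3, 1, 0] (.node .leaf 431 [0, 3, 2, 3, 2, 1, 6, 3, 2, 4, 5, 3, 6, 4, 3, 5, 2, 3, 6, 1, 2, 3, 2, 3] .leaf))) 437 [2, 3, 4, 3, 2, 1, 5, 3, 2, 4, 3, 6, 1, 2, 3, 2, 3, 6, 2, 3, 2, 1, 0] (.node (.node (.node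 lev2T2_27 442 [0, 3, 2, 1, 6, 3, 5, 6, 3, 2, 3, 5, 4, 3, 6, 1, 2, 3, 5, 4, 3, 6, 1] .leaf) 448 [1, 4, 6, 3, 2, 4, 5, 3, 6, 4, 3, 5, 2, 3, 6, 1, 2, 3, 2, 3] (.node lev2T2_28 462 [1, 0, 5, 2, 3, 6, 3, 2, 3, 4, 1, 2, 3, 2, 3] .leaf)) 478 [1, 2, 6, 3, 5, 3, 6, 3, 2, 1, 3, 2, 1, 0, 3, 2, 3, 4, 1, 2, 3, 6, 2, 3, 1, 2, 1, 0] (.node (.node lev2T2_29 488 [1, 2, 4, 6, 3, 4, 5, 3, 6, 2, 3, 5, 4, 1, 2, 3, 2, 3, 2] .leaf) 492 [1, 2, 3, 2, 1, 3, 2, 3, 2, 1, 6, 3, 5, 2, 3, 6, 4, 3, 2, 3, 6, 3, 1] (.node .leaf 496 [1, 2, 1, 5, 3, 2, 1, 6, 3, 2, 4, 3, 2, 3, 1, 2, 3, 2, 3, 1, 2, 3, 4, 2, 3] .leaf))))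

def lev2T2_31 : WTree := (.node .leaf 518 [4, 3, 2, 3, 2, 3, 6, 1, 2, 3, 5, 4, 3, 6, 2, 1] .leaf)

def lev2T2_32 : WTree := (.node .leaf 551 [5, 6, 3, 2, 5, 3, 2, 1, 0, 3, 2, 3, 5, 4, 3, 2, 3, 1, 2, 3, 5, 2, 3, 6] .leaf)

def lev2T2_33 : WTree := (.node .leaf 564 [6, 1, 2, 3, 5, 4, 3, 6, 4, 2, 1, 0] .leaf)

def lev2T2_34 : WTree := (.node .leaf 575 [2, 6, 3, 4, 5, 3, 2, 1, 6, 3, 2, 3, 4, 6, 3, 5, 2, 3, 6, 3, 1, 2, 3, 5, 4, 2, 3] .leaf)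

def lev2T2_35 : WTree := (.node .leaf 593 [0, 3, 2, 1, 0, 1, 5, 3, 2, 3, 5, 2, 3, 1, 2, 3, 6, 3, 2, 3, 1, 0] .leaf)

def lev2T2_36 : WTree := (.node .leaf 619 [4, 3, 2, 6, 3, 2, 1, 5, 3, 2, 1, 3, 6, 4, 3, 5, 2, 3, 6, 1, 2, 3, 2, 3, 0] .leaf)

def lev2T2_37 : WTree := (.node .leaf 637 [1, 0, 2, 3, 4, 3, 6, 3, 2, 1, 3, 2, 4, 3, 2, 3, 1, 2, 3, 6, 3, 4, 3, 2, 3, 1, 2, 3] .leaf)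

def lev2T2_38 : WTree := (.node (.node (.node (.node lev2T2_31 521 [1, 0, 2, 3, 2, 1, 0, 3, 2, 4, 3, 2, 3, 5, 6, 1, 2, 3, 5, 6, 3, 2, 1] .leaf) 546 [2, 1, 0, 4, 3, 2, 1, 3, 5, 2, 3, 2, 3, 5, 3, 2, 3, 6, 4, 1] (.node lev2T2_32 554 [1, 0, 3, 2, 3, 4, 5, 3, 2, 1, 6, 3, 2, 5, 3, 2, 3, 4, 1, 2, 3, 6, 5, 3, 2, 1] .leaf)) 559 [1, 2, 3, 2, 1, 4, 3, 2, 3, 2, 1, 3, 6, 3, 5, 2, 3, 6, 4, 3, 2, 3, 6, 1, 2, 3] (.node (.node lev2T2_33 567 [4, 3, 2, 3, 2, 1, 4, 5, 3, 2, 1, 6, 3, 4, 5, 3, 6, 2, 3, 5, 4, 1, 2, 3, 2, 3, 4] .leaf) 569 [1, 2, 3, 5, 3, 6, 3, 2, 1, 3, 2, 4, 3, 5, 3, 2, 3, 1, 2, 3, 5, 4, 3, 2, 3, 1, 0] (.node lev2T2_34 580 [0, 2, 1, 4, 3, 2, 1, 3, 2, 5, 3, 2, 3, 5, 2, 3, 2, 3, 6, 3, 1, 2, 3, 4, 2] .leaf))) 586 [1,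 2, 5, 3, 4, 6, 3, 2, 1, 3, 2, 3, 1, 2, 3, 4, 1, 2, 3, 1, 2, 1] (.node (.node (.node lev2T2_35 599 [1, 2, 1, 5, 6, 3, 5, 4, 3, 6, 2, 3, 5, 4, 3, 1, 2] .leaf) 615 [0, 4, 3, 2, 6, 3, 2, 1, 5, 3, 2, 1, 3, 6, 4, 3, 5, 2, 3, 6, 1, 2, 3, 2, 3, 4] (.node lev2T2_36 623 [1, 2, 1, 4, 3, 6, 3, 2, 3, 2, 3, 6, 3, 1, 2, 3, 5, 4, 0, 1, 2, 3] .leaf)) 631 [2, 1, 0, 4, 3, 6, 2, 3, 5, 6, 1, 2, 3, 1, 2, 3, 4, 2] (.node (.node lev2T2_37 640 [0, 2, 1, 6, 3, 2, 4, 5, 3, 6, 4, 3, 5, 2, 3, 6, 1, 2, 3, 2, 3] .leaf) 644 [0, 1, 2, 6, 3, 4, 5, 3, 6, 4, 2, 3, 5, 4, 1, 2, 3, 2, 3, 4] (.node .leaf 645 [3, 2, 3, 4, 2, 0] .leaf))))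

def lev2T2_39 : WTree := (.node .leaf 650 [0, 1, 2, 4, 6, 3, 5, 4, 3, 6, 2, 3, 5, 1, 2, 3, 4, 3, 2] .leaf)

def lev2T2_40 : WTree := (.node .leaf 661 [0, 1, 3, 2, 1, 3, 6, 3, 5, 3, 2, 1, 3, 4, 2, 3, 2, 3, 1, 2, 3, 2, 3, 1, 2, 3] .leaf)

def lev2T2_41 : WTree := (.node .leaf 679 [1, 2, 3, 2, 1, 3, 2, 3, 2, 1, 4, 6, 3, 2, 3, 6, 2, 3, 2, 3, 5, 2, 3, 1, 0] .leaf)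

def lev2T2_42 : WTree := (.node .leaf 706 [0, 1, 2, 6, 3, 4, 5, 3, 2, 3, 5, 4, 3, 6, 1, 2, 3, 5, 4, 3, 6] .leaf)

def lev2T2_43 : WTree := (.node .leaf 717 [0, 3, 5, 3, 2, 4, 3, 2, 1, 6, 3, 5, 4, 2, 3, 6, 4, 3, 5, 2, 3, 6, 4, 1] .leaf)

def lev2T2_44 : WTree := (.node .leaf 720 [3, 2, 3, 5, 1, 2, 3, 6, 3, 2, 3, 4, 0, 1, 2] .leaf)

def lev2T2_45 : WTree := (.node (.node (.node (.node lev2T2_39 655 [2, 3, 4, 3, 2, 1, 5, 3, 2, 1, 4, 3, 6, 2, 3, 2, 3, 6, 2, 3, 4, 1, 2, 1] .leaf) 660 [1, 6, 3, 2, 3, 4, 3, 6, 3, 2, 1, 5, 3, 6, 2, 3, 2, 3, 4, 1, 2, 3, 2, 1] (.node lev2T2_40 671 [1, 0, 2, 1, 5, 6, 3, 2, 3, 1, 2, 3, 6, 3, 2, 3, 2, 3, 6, 3, 2] .leaf)) 678 [6, 3, 2, 4, 3, 2, 1, 0, 3, 2, 3, 5, 4, 3, 2, 3, 1, 2, 3, 4,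 2, 3, 6] (.node (.node lev2T2_41 683 [1, 2, 3, 6, 3, 2, 1, 0, 3, 4, 5, 3, 2, 3, 4, 1, 2, 3, 6, 3, 2, 3, 1, 2] .leaf) 684 [0, 3, 6, 3, 2, 3, 2, 1, 0, 4, 3, 2, 6, 3, 5, 4, 3, 2, 3, 1, 2, 3, 4, 2, 3, 6] (.node .leaf 700 [2, 3, 5, 3, 2, 3, 5, 2, 3, 2, 3, 5, 3, 2, 3] .leaf))) 701 [2, 1, 6, 3, 2, 4, 5, 3, 4, 6, 3, 5, 2, 3, 6, 1, 2, 3, 4, 2, 3, 5, 3] (.node (.node (.node lev2T2_42 711 [2, 1, 4, 3, 2, 1, 3, 2, 5, 3, 2, 3, 5, 2, 3, 2, 3, 6, 1, 2, 3, 2, 3, 4, 2] .leaf) 712 [3, 2, 1, 6, 3, 5, 6, 3, 2, 1, 3, 5, 4, 3, 6, 2, 3, 5, 4, 3, 6, 1, 2] (.node lev2T2_43 718 [1, 2, 6, 3, 4, 5, 3, 2, 3, 5, 4, 3, 6, 1, 2, 3, 5, 4, 3, 6, 2] .leaf)) 719 [0, 3, 2, 5, 3, 2, 1, 4, 3, 2, 1, 6, 5, 3, 6, 2, 3, 2, 3, 6, 3, 2, 3, 1, 0] (.node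 (.node lev2T2_44 721 [4, 3, 2, 1, 0, 3, 2, 1, 3, 6, 3, 2, 3, 2, 3, 6, 3, 4, 1, 2, 3, 5, 4, 1, 2, 3] .leaf) 723 [0, 3, 2, 1, 3, 2, 3, 5, 3, 2, 3, 2, 3, 5, 3, 2, 3, 6, 1, 2, 3] (.node .leaf 726 [0, 2, 1, 3, 5, 4, 3, 6, 2, 3, 5, 4, 3, 6, 1, 2, 1, 0] .leaf))))

def lev2T2_46 : WTree := (.node .leaf 740 [2, 1, 0, 3, 2, 1, 3, 4, 6, 3, 2, 1, 3, 2, 4, 3, 2, 3, 1, 2, 3, 6, 4, 3, 2, 3, 1, 2] .leaf)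

def lev2T2_47 : WTree := (.node .leaf 760 [1, 0, 1, 3, 5, 3, 2, 3, 2, 3, 6, 1, 2, 3, 5, 6, 2, 1, 0] .leaf)

def lev2T2_48 : WTree := (.node .leaf 783 [0, 3, 5, 3, 2, 1, 3, 2, 3, 2, 1, 3, 2, 3, 2, 4, 3, 6, 1, 2, 3, 5, 1, 2, 3, 1, 2, 3] .leaf)

def lev2T2_49 : WTree := (.node .leaf 815 [2, 1, 6, 3, 2, 1, 5, 3, 4, 6, 3, 5, 4, 2, 3, 6, 1, 2, 3, 2, 3, 6, 4] .leaf)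

def lev2T2_50 : WTree := (.node .leaf 823 [1, 0, 2, 1, 3, 6, 3, 2, 3, 2, 3, 6, 3, 2, 3, 5, 1, 2, 3, 4, 2] .leaf)

def lev2T2_51 : WTree := (.node .leaf 888 [0, 3, 2, 1, 6, 3, 2, 3, 4, 6, 3, 2, 1, 5, 3, 6, 2, 3, 2, 3, 1, 2, 3, 4, 2, 1, 0] .leaf)

def lev2T2_52 : WTree := (.node .leaf 906 [3, 2, 5, 3, 2, 4, 3, 2, 1, 6, 3, 5, 2, 3, 6, 4, 3, 5, 4, 2, 3, 6, 1, 2] .leaf)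

def lev2T2_53 : WTree := (.node (.node (.node (.node lev2T2_46 744 [0, 1, 3, 2, 1, 3, 4, 5, 3, 2, 1, 3, 2, 4, 3, 2, 3, 1, 2, 3, 6, 3, 5, 3, 2, 1] .leaf) 754 [0, 3, 2, 1, 3, 2, 1, 6, 3, 4, 5, 3, 6, 2, 3, 5, 4, 1, 2, 3, 2, 3, 2] (.node lev2T2_47 775 [0, 2, 1, 5, 3, 2, 3, 6, 3, 2, 3, 2, 3, 6, 3, 1, 2, 3, 1, 2, 3, 4] .leaf)) 782 [1, 0, 5, 3, 6, 2, 3, 5, 6, 1, 2, 3, 1, 2, 3, 4] (.node (.node lev2T2_48 788 [0, 2, 1, 6, 3, 2, 5, 3, 2, 3, 5, 3, 2, 3, 1, 2, 3, 0, 1, 0] .leaf) 813 [3, 2, 1, 5, 3, 2, 3, 2, 6, 3, 2, 3, 6, 2, 3, 4, 1, 2, 3, 1, 2, 3, 4] (.node lev2T2_49 819 [4, 2, 3, 1, 2, 3, 6, 3, 5, 1, 2, 0, 1] .leaf))) 820 [1, 0, 2, 5, 3, 6, 3, 1, 2, 3, 4, 1, 2, 3, 2, 3] (.node (.node (.node lev2T2_50 827 [3, 2, 1, 3,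 2, 4, 6, 3, 5, 6, 3, 2, 1, 3, 2, 3, 4, 2, 3, 6, 1, 2, 3, 2, 3, 1] .leaf) 842 [0, 1, 3, 2, 3, 4, 5, 3, 2, 1, 3, 2, 4, 3, 2, 3, 1, 2, 3, 6, 3, 5, 3, 2, 1] (.node lev2T2_51 898 [1, 2, 3, 4, 6, 3, 2, 1, 3, 2, 1, 3, 2, 3, 1, 2, 3, 6, 4, 3, 2, 3, 4, 3, 1] .leaf)) 902 [2, 6, 3, 4, 5, 3, 2, 1, 4, 3, 2, 3, 6, 4, 3, 5, 2, 3, 6, 1, 2, 3, 2, 3] (.node (.node lev2T2_52 910 [3, 2, 5, 3, 2, 1, 3, 4, 3, 2, 3, 6, 1, 2, 3, 2, 3, 6, 2, 3, 2, 1] .leaf) 911 [2, 3, 2, 6, 3, 2, 1, 5, 3, 2, 1, 3, 6, 4, 3, 5, 2, 3, 6, 3, 1, 2, 3, 2, 3] (.node .leaf 914 [1, 2, 5, 3, 2, 1, 6, 3, 2, 4, 3, 2, 3, 1, 2, 3, 1, 2, 3, 1, 2, 3, 4, 2, 3] .leaf))))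

def lev2T2_54 : WTree := (.node .leaf 921 [5, 3, 2, 3, 2, 5, 3, 2, 3, 4, 3, 1, 2, 3, 6, 3, 2, 3, 0, 1, 0] .leaf)

def lev2T2_55 : WTree := (.node .leaf 936 [1, 2, 3, 2, 1, 3, 2, 3, 2, 1, 6, 3, 5, 2, 3, 6, 4, 3, 2, 3, 6, 1, 2, 3] .leaf)

def lev2T2_56 : WTree := (.node .leaf 942 [2, 1, 0, 5, 3, 2, 1, 6, 3, 4, 5, 3, 6, 2, 3, 5, 1, 2, 3, 2, 3, 5, 4] .leaf)

def lev2T2_57 : WTree := (.node .leaf 970 [2, 4, 3, 2, 1, 5, 3, 2, 3, 6, 3, 2, 3, 2, 3, 6, 3, 1, 2, 0, 1] .leaf)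

def lev2T2_58 : WTree := (.node .leaf 981 [1, 2, 3, 5, 6, 3, 2, 1, 4, 3, 2, 3, 2, 3, 5, 3, 1, 2, 3, 6, 5, 3, 2, 1] .leaf)

def lev2T2_59 : WTree := (.node .leaf 998 [0, 5, 6, 3, 4, 5, 3, 2, 1, 3, 2, 3, 6, 4, 3, 5, 2, 3, 6, 1, 2, 3, 2, 3] .leaf)

def lev2T2_60 : WTree := (.node (.node (.node (.node lev2T2_54 925 [3, 2, 4, 5, 3, 2, 1, 6, 3, 2, 4, 5, 3, 6, 4, 3, 5, 2, 3, 6, 1, 2, 3, 2, 3] .leaf) 926 [0, 1, 2, 3, 6, 2, 3, 2, 3, 6, 2, 3, 2, 1, 0] (.node lev2T2_55 938 [5, 1, 2, 3, 6, 3, 2, 3, 0, 1, 0] .leaf)) 939 [1, 2, 3, 5, 3, 6, 3, 2, 1, 3, 2, 3, 4, 2, 3, 1, 2, 3, 5, 4, 3, 2, 3, 1, 0] (.node (.node lev2T2_56 950 [3, 2, 1, 3, 2, 1, 5, 6, 3, 5, 4, 3, 6, 2, 3, 5, 4, 3, 1, 2] .leaf) 951 [3, 2, 1, 4, 5, 3, 2, 1, 4,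 3, 6, 3, 2, 3, 2, 3, 6, 3, 1, 2, 3, 0, 1, 2, 3, 4] (.node .leaf 955 [4, 3, 2, 1, 3, 2, 1, 6, 5, 3, 6, 2, 3, 2, 3, 6, 3, 2, 3, 1, 0] .leaf))) 967 [1, 3, 2, 3, 6, 3, 2, 3, 2, 3, 6, 3, 2, 3, 5, 1, 2] (.node (.node (.node lev2T2_57 972 [3, 2, 1, 6, 3, 2, 3, 5, 3, 2, 3, 2, 3, 5, 3, 4, 1, 2, 1] .leaf) 980 [3, 2, 1, 3, 2, 5, 3, 4, 6, 3, 2, 3, 1, 2, 3, 1, 2, 3, 0, 1, 2, 3, 2, 1] (.node lev2T2_58 986 [5, 6, 3, 4, 5, 3, 2, 6, 3, 5, 4, 3, 1, 2, 3, 6, 2, 3, 0, 1, 0] .leaf)) 988 [0, 6, 3, 2, 5, 3, 2, 1, 4, 3, 5, 6, 3, 2, 3, 5, 4, 3, 6, 2, 1, 0] (.node (.node lev2T2_59 1005 [0, 3, 2, 1, 3, 2, 6, 3, 4, 5, 3, 6, 4, 2, 3, 5, 4, 1, 2, 3, 2, 3, 4] .leaf) 1009 [1, 2, 1, 3, 4, 3, 6, 3, 2, 3, 2, 1, 3, 2, 3, 2, 3, 1, 2, 3, 6, 3,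 5, 3, 6, 2, 1] (.node .leaf 1014 [3, 2, 1, 3, 2, 1, 4, 3, 6, 3, 2, 3, 2, 3, 6, 3, 1, 2, 3, 5, 4, 0, 1, 2, 3] .leaf))))

def lev2T2_61 : WTree := (.node .leaf 1017 [3, 2, 1, 6, 3, 2, 3, 5, 3, 2, 3, 2, 3, 5, 3, 4, 1, 2, 3, 1, 2, 3] .leaf)

def lev2T2_62 : WTree := (.node .leaf 1025 [0, 4, 3, 2, 1, 3, 2, 1, 3, 5, 2, 3, 2, 3, 5, 2, 3, 2, 3, 6, 1, 2] .leaf)

def lev2T2_63 : WTree := (.node .leaf 1047 [1, 3, 2, 1, 3, 6, 3, 2, 3, 2, 1, 3, 6, 3, 2, 3, 5, 1, 2, 3, 2, 3, 5, 4] .leaf)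

def lev2T2_64 : WTree := (.node .leaf 1090 [3, 4, 5, 3, 2, 1, 6, 3, 2, 3, 5, 2, 3, 2, 3, 5, 2, 3, 2, 3, 1, 0] .leaf)

def lev2T2_65 : WTree := (.node .leaf 1102 [3, 4, 5, 3, 2, 4, 3, 2, 1, 6, 3, 2, 3, 5, 3, 2, 3, 2, 3, 5, 3, 2, 1, 0] .leaf)

def lev2T2_66 : WTree := (.node .leaf 1111 [0, 1, 0, 2, 3, 4, 6, 3, 2, 1, 3, 4, 2, 3, 2, 3, 1, 2, 3, 6, 4, 3, 2, 1, 0] .leaf)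

def lev2T2_67 : WTree := (.node .leaf 1126 [3, 2, 1, 3, 2, 1, 4, 3, 5, 3, 2, 3, 2, 3, 5, 3, 2, 3, 6, 1, 2, 3] .leaf)

def lev2T2_68 : WTree := (.node (.node (.node (.node lev2T2_61 1020 [0, 1, 3, 5, 4, 3, 6, 2, 3, 5, 4, 3, 6, 1, 2, 1] .leaf) 1022 [0, 5, 3, 2, 1, 6, 3, 2, 3, 4, 6, 3, 2, 5, 3, 6, 1, 2, 3, 2, 3, 1, 2, 3, 2, 1, 0] (.node lev2T2_62 1027 [0, 1, 0, 2, 1, 3, 4, 6, 3, 2, 1, 3, 4, 2, 3, 2, 3, 1, 2, 3, 6, 4, 3, 2, 1, 0] .leaf)) 1044 [0, 2, 1, 6, 3, 2, 3, 2, 5, 3, 2, 3, 5, 2, 3, 1, 2, 3, 4, 1, 2] (.node (.node lev2T2_63 1076 [3, 2, 3, 2, 1, 5, 3, 2, 3, 6, 3, 2, 3, 2, 3, 6, 3, 1, 2, 3, 1] .leaf) 1088 [0, 3, 2, 1, 0, 1, 5, 3, 2, 3, 5, 2, 3, 1, 2, 3, 6, 3, 1, 2, 3, 1, 0] (.node lev2T2_64 1098 [1, 2, 3, 2,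 1, 3, 2, 3, 4, 2, 3, 1, 2, 3, 5, 3, 6, 3, 2, 3, 1, 0] .leaf))) 1100 [2, 1, 3, 5, 4, 3, 6, 4, 2, 3, 5, 4, 3, 6, 2, 1, 0] (.node (.node (.node lev2T2_65 1104 [1, 2, 1, 4, 6, 3, 4, 5, 3, 2, 3, 5, 4, 3, 6, 1, 2, 3, 5, 4, 3, 6] .leaf) 1108 [2, 1, 5, 3, 2, 1, 0, 6, 3, 5, 4, 3, 6, 2, 3, 5, 1, 2, 3, 2, 3, 5] (.node lev2T2_66 1117 [0, 3, 2, 1, 5, 4, 3, 6, 2, 3, 5, 4, 3, 6, 1, 2, 1] .leaf)) 1121 [0, 3, 2, 3, 2, 1, 6, 3, 2, 5, 3, 4, 6, 3, 5, 4, 2, 3, 6, 1, 2, 3, 2, 3, 4] (.node (.node lev2T2_67 1128 [1, 3, 2, 6, 5, 3, 2, 1, 3, 4, 5, 3, 2, 3, 5, 4, 3, 1, 2, 3, 6, 2, 3, 1, 0] .leaf) 1136 [3, 2, 1, 3, 2, 6, 3, 4, 5, 3, 2, 3, 1, 2, 3, 6, 2, 3, 2, 3, 6, 4, 0] (.node .leaf 1150 [2, 4, 3, 2, 1, 3, 2, 1, 6, 3, 5, 6, 3, 2, 1,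 3, 2, 3, 4, 2, 3, 6, 1, 2, 3, 2, 3, 1] .leaf))))

def lev2T2_69 : WTree := (.node .leaf 1157 [2, 6, 3, 4, 5, 3, 2, 3, 5, 4, 3, 1, 2, 3, 5, 6, 2, 3, 0, 1] .leaf)

def lev2T2_70 : WTree := (.node .leaf 1169 [2, 3, 4, 3, 2, 1, 5, 3, 6, 2, 3, 5, 4, 3, 6, 1, 2, 3, 1, 2, 3] .leaf)

def lev2T2_71 : WTree := (.node .leaf 1228 [2, 1, 5, 3, 2, 3, 6, 3, 2, 3, 2, 3, 6, 3, 1, 2, 3, 1] .leaf)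

def lev2T2_72 : WTree := (.node .leaf 1292 [1, 0, 3, 6, 4, 2, 3, 5, 6, 2, 3, 1, 2, 3, 4, 2] .leaf)

def lev2T2_73 : WTree := (.node .leaf 1326 [0, 1, 2, 6, 3, 5, 4, 3, 6, 4, 2, 3, 5, 4, 3, 1, 2] .leaf)

def lev2T2_74 : WTree := (.node .leaf 1345 [0, 3, 2, 1, 3, 2, 3, 6, 2, 3, 2, 3, 6, 2, 3, 4, 1, 2, 1] .leaf)

def lev2T2_75 : WTree := (.node (.node (.node (.node lev2T2_69 1165 [2, 6, 3, 4, 5, 3, 2, 1, 4, 3, 2, 3, 6, 4, 3, 5, 2, 3, 6, 1, 2] .leaf) 1168 [3, 0, 1, 2, 3, 6, 3, 5, 2, 0, 1] (.node lev2T2_70 1191 [0, 1, 3, 2, 3, 6, 3, 2, 1, 0, 3, 2, 3, 5, 3, 2, 3, 1, 2, 3, 6, 3, 2, 3, 1, 0] .leaf)) 1210 [1, 2, 3, 5, 6, 3, 2, 1, 0, 3, 5, 2, 3, 2, 3, 1, 2, 3, 6, 5, 3, 2, 1] (.node (.node lev2T2_71 1230 [0, 1, 3, 2,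 3, 6, 3, 5, 3, 2, 1, 3, 4, 2, 3, 2, 3, 1, 2, 3, 2, 3, 1, 2, 3] .leaf) 1237 [0, 3, 2, 3, 2, 1, 6, 3, 5, 4, 2, 3, 6, 4, 3, 5, 2, 3, 6, 1, 2] (.node .leaf 1238 [1, 0, 3, 2, 1, 3, 2, 3, 5, 3, 2, 3, 5, 2, 3, 6, 4, 1, 2, 3, 2, 3] .leaf))) 1247 [2, 1, 6, 3, 2, 5, 3, 4, 6, 3, 2, 3, 4, 1, 2, 3, 5, 4, 3, 6, 2] (.node (.node (.node lev2T2_72 1308 [2, 3, 2, 3, 5, 3, 2, 3, 2, 3, 5, 3, 2, 3, 1, 2, 3, 6, 3, 2, 3, 4, 0, 1, 2] .leaf) 1313 [1, 2, 6, 3, 5, 4, 3, 6, 1, 2, 3, 5, 4, 3, 1, 0] (.node lev2T2_73 1328 [1, 2, 3, 5, 3, 6, 3, 2, 1, 3, 2, 3, 4, 2, 3, 1, 2, 3, 5, 4, 3, 1, 2, 3, 1, 0] .leaf)) 1331 [0, 3, 2, 3, 2, 1, 6, 3, 2, 3, 2, 5, 3, 2, 3, 5, 2, 3, 1, 2, 3, 4, 1, 2] (.node (.node lev2T2_74 1348 [1, 2, 1, 5, 3, 4, 6, 3,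 2, 1, 4, 3, 2, 3, 4, 2, 3, 1, 2, 3, 2, 3, 1] .leaf) 1354 [5, 1, 2, 3, 6, 3, 0, 1, 2, 3, 4, 1, 2] (.node .leaf 1356 [2, 3, 4, 5, 3, 2, 1, 0, 3, 2, 6, 3, 5, 4, 3, 6, 2, 3, 5, 1, 2, 3, 2, 3] .leaf))))

def lev2T2_76 : WTree := (.node .leaf 1359 [0, 3, 2, 1, 3, 2, 3, 6, 2, 3, 2, 3, 6, 2, 3, 2, 1, 0] .leaf)

def lev2T2_77 : WTree := (.node .leaf 1374 [1, 2, 3, 2, 6, 3, 2, 3, 6, 2, 3, 2, 3, 4, 1, 2, 3] .leaf)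

def lev2T2_78 : WTree := (.node .leaf 1385 [0, 1, 2, 3, 4, 6, 3, 2, 1, 3, 2, 3, 1, 2, 3, 1, 2, 3, 6, 4, 3, 2, 1, 0] .leaf)

def lev2T2_79 : WTree := (.node .leaf 1418 [2, 6, 3, 4, 5, 3, 2, 1, 6, 3, 2, 3, 6, 4, 3, 5, 2, 3, 6, 3, 4, 1] .leaf)

def lev2T2_80 : WTree := (.node .leaf 1436 [1, 2, 3, 2, 1, 3, 2, 1, 3, 2, 1, 0, 5, 3, 6, 2, 3, 5, 4, 3, 2, 3, 5, 6, 1, 2] .leaf)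

def lev2T2_81 : WTree := (.node .leaf 1449 [0, 2, 1, 3, 2, 3, 5, 2, 3, 2, 3, 5, 2, 3, 2, 3, 6, 1, 2] .leaf)

def lev2T2_82 : WTree := (.node .leaf 1467 [5, 3, 2, 3, 2, 1, 0, 5, 3, 6, 2, 3, 5, 4, 3, 6, 1, 2, 3, 5, 1, 2] .leaf)

def lev2T2_83 : WTree := (.node (.node (.node (.node lev2T2_76 1362 [1, 3, 2, 5, 3, 2, 1, 3, 2, 4, 3, 2, 1, 3, 4, 2, 3, 6, 4, 3, 5, 2, 3, 1, 2, 3] .leaf) 1369 [3, 2, 3, 5, 1, 2, 3, 6, 3, 2, 3, 0, 1, 0] (.node lev2T2_77 1375 [0, 3, 4, 5, 3, 2, 1, 0, 3, 4, 5, 3, 2, 3, 6, 3, 2, 3, 4, 1, 2, 3, 2, 3] .leaf)) 1378 [6, 3, 2, 1, 5, 3, 2, 1, 6, 3, 2, 3, 5, 2, 3, 2, 3, 5, 2, 3, 1, 2] (.node (.node lev2T2_78 1412 [0, 1, 2, 3, 5, 3, 2, 3, 2, 3, 5, 3, 2, 3, 6, 1, 2, 3] .leaf) 1416 [0, 3, 2, 1, 3,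 2, 1, 6, 3, 4, 5, 3, 6, 2, 3, 5, 1, 2, 3, 4, 3, 2, 3, 5, 3] (.node lev2T2_79 1432 [0, 3, 2, 1, 0, 3, 2, 1, 3, 4, 6, 3, 2, 1, 3, 4, 2, 3, 2, 3, 1, 2, 3, 6, 4, 3, 2, 1, 0] .leaf))) 1433 [1, 3, 4, 3, 2, 3, 4, 6, 3, 2, 1, 3, 2, 3, 1, 2, 3, 1, 2, 3, 6, 4, 3, 2, 1] (.node (.node (.node lev2T2_80 1446 [3, 2, 1, 0, 4, 5, 3, 2, 1, 3, 6, 3, 2, 3, 2, 3, 6, 3, 4, 1, 2, 3, 1, 2, 3] .leaf) 1447 [3, 4, 5, 3, 2, 1, 3, 5, 4, 3, 6, 2, 3, 5, 4, 3, 6, 4, 2, 1] (.node lev2T2_81 1457 [3, 2, 1, 3, 2, 6, 3, 5, 4, 3, 6, 1, 2, 3, 5, 4, 3, 1, 0] .leaf)) 1458 [1, 0, 2, 1, 5, 3, 2, 4, 6, 3, 2, 3, 1, 2, 3, 1, 2, 3, 1, 2, 3, 4, 2, 1, 0] (.node (.node lev2T2_82 1485 [1, 0, 3, 2, 1, 5, 3, 2, 6, 3, 5, 3, 2, 3, 2, 3, 6, 1, 2, 3, 5, 2, 3, 6,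 5] .leaf) 1487 [4, 2, 3, 2, 3, 0] (.node .leaf 1489 [3, 2, 1, 6, 3, 2, 3, 4, 6, 3, 2, 5, 3, 6, 1, 2, 3, 2, 3, 1, 2, 3, 2, 1] .leaf))))

def lev2T2_84 : WTree := (.node .leaf 1503 [0, 1, 2, 3, 6, 3, 2, 3, 2, 1, 3, 6, 3, 2, 3, 6, 2, 3, 5, 6, 1, 2, 3, 5, 4, 3, 1] .leaf)

def lev2T2_85 : WTree := (.node .leaf 1518 [4, 2, 0] .leaf)

def lev2T2_86 : WTree := (.node .leaf 1530 [5, 1, 2, 3, 6, 3, 2, 3, 4, 0, 1, 2] .leaf)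

def lev2T2_87 : WTree := (.node .leaf 1564 [1, 3, 2, 1, 3, 6, 3, 2, 3, 2, 3, 6, 3, 2, 3, 5, 1, 2, 3, 2, 3] .leaf)

def lev2T2_88 : WTree := (.node .leaf 1592 [1, 2, 1, 4, 3, 2, 6, 3, 2, 3, 6, 2, 3, 4, 1, 2, 3, 5, 4, 3, 1, 0] .leaf)

def lev2T2_89 : WTree := (.node .leaf 1600 [1, 2, 1, 5, 3, 2, 1, 6, 3, 2, 4, 3, 2, 3, 1, 2, 3, 2, 3, 1, 2, 3, 5, 2, 3, 0] .leaf)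

def lev2T2_90 : WTree := (.node (.node (.node (.node lev2T2_84 1505 [0, 3, 4, 5, 3, 2, 1, 0, 4, 3, 2, 3, 6, 3, 2, 3, 5, 4, 1, 2, 3, 2, 3, 4] .leaf) 1512 [1, 0, 3, 4, 5, 3, 2, 1, 3, 6, 3, 2, 3, 2, 3, 6, 3, 4, 1, 2, 3, 1, 2, 3] (.node lev2T2_85 1522 [3, 2, 1, 3, 2, 3, 6, 3, 2, 3, 2, 3, 6, 3, 1, 2, 3, 0, 1, 2, 3, 4] .leaf)) 1529 [1, 0, 3, 2, 3, 4, 5, 3, 2, 1, 6, 3, 5, 3, 2, 3, 2, 3, 1, 2, 3, 6, 5, 3, 2, 1] (.node (.node lev2T2_86 1532 [0, 1, 0, 1, 3, 5, 3, 2, 3, 5, 2, 3, 1, 2, 3, 6, 3, 2, 3, 1, 0] .leaf) 1534 [] (.node .leaf 1537 [0, 2, 1, 4, 3, 2, 1, 3, 6, 3, 2, 3, 2, 3, 6, 3, 2, 3, 5, 1, 2] .leaf))) 1563 [0, 2, 5, 6, 3, 4, 5, 3, 2, 3, 6, 5, 3, 1, 2, 3, 6, 5, 2, 0, 1] (.node (.node (.node lev2T2_87 1570 [0,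 1, 3, 4, 5, 3, 6, 2, 3, 5, 4, 3, 6, 1, 2, 3, 1, 2, 3] .leaf) 1575 [0, 1, 4, 6, 3, 2, 5, 3, 4, 6, 3, 2, 3, 4, 1, 2, 3, 5, 4, 3, 6, 2] (.node lev2T2_88 1596 [2, 1, 0, 4, 3, 2, 3, 6, 3, 5, 2, 3, 1, 2, 3, 4, 2, 0] .leaf)) 1599 [1, 2, 6, 3, 4, 5, 3, 2, 1, 3, 2, 3, 2, 6, 3, 2, 3, 1, 2, 3, 5, 4, 3, 6, 2, 1] (.node (.node lev2T2_89 1608 [0, 3, 2, 1, 4, 5, 3, 6, 2, 3, 5, 4, 3, 6, 1, 2, 3, 1, 2, 3] .leaf) 1615 [3, 0, 1, 2, 3, 6, 3, 5, 1, 2, 0, 1] (.node .leaf 1622 [0, 4, 3, 2, 5, 3, 2, 1, 0, 3, 2, 3, 6, 3, 2, 3, 1, 2, 3, 5, 2, 3, 4, 0] .leaf))))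

def lev2T2_91 : WTree := (.node .leaf 1640 [6, 3, 4, 5, 3, 2, 3, 5, 4, 3, 1, 2, 3, 6, 5, 2, 3, 0, 1, 0] .leaf)

def lev2T2_92 : WTree := (.node .leaf 1652 [0, 2, 4, 3, 2, 1, 3, 2, 3, 2, 6, 3, 2, 3, 6, 2, 3, 2, 3, 5, 1, 2, 3, 4, 2] .leaf)

def lev2T2_93 : WTree := (.node .leaf 1662 [3, 2, 5, 3, 2, 4, 3, 2, 1, 3, 6, 3, 2, 3, 5, 2, 3, 2, 3, 5, 2, 3, 1, 2, 3, 1, 0] .leaf)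

def lev2T2_94 : WTree := (.node .leaf 1675 [3, 5, 3, 2, 4, 3, 2, 1, 6, 3, 5, 2, 3, 6, 4, 3, 5, 4, 2, 3, 6, 1, 2] .leaf)

def lev2T2_95 : WTree := (.node .leaf 1689 [0, 6, 3, 4, 5, 3, 2, 1, 6, 3, 5, 4, 3, 2, 3, 6, 1, 2, 3, 0, 1, 0] .leaf)

def lev2T2_96 : WTree := (.node .leaf 1705 [1, 0, 2, 6, 3, 5, 6, 3, 2, 1, 3, 2, 1, 4, 3, 2, 3, 4, 1, 2, 3, 6, 4, 3, 2, 3, 1, 2] .leaf)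

def lev2T2_97 : WTree := (.node .leaf 1733 [0, 6, 3, 2, 4, 3, 2, 1, 0, 3, 2, 3, 4, 3, 5, 3, 2, 3, 1, 2, 3, 4, 2, 3, 6] .leaf)

def lev2T2_98 : WTree := (.node (.node (.node (.node lev2T2_91 1645 [3, 2, 3] .leaf) 1649 [0, 1, 6, 3, 2, 5, 3, 2, 3, 5, 3, 2, 3, 1, 2, 3, 0, 1] (.node lev2T2_92 1658 [3, 2, 1, 3, 2, 3, 2, 6, 3, 2, 3, 6, 2, 3, 2, 3, 5, 1, 2, 3, 4, 2] .leaf)) 1659 [0, 3, 2, 1, 3, 2, 3, 2, 6, 3, 2, 3, 6, 2, 3, 2, 3, 1, 2, 3, 4, 2] (.node (.node lev2T2_93 1667 [2, 3, 2, 3, 2, 1, 4, 5, 3, 2, 6, 3, 5, 4, 3, 6, 1, 2, 3, 1, 2, 3, 0] .leaf) 1668 [1, 0, 2, 4, 3, 6, 3, 2, 1, 3, 4, 2, 3, 2, 3, 4, 1, 2, 3, 6, 3, 2, 1, 0] (.node lev2T2_94 1682 [2, 3, 2, 5, 3, 2, 1, 3, 2, 6, 3, 5, 6, 3, 2, 3, 1, 2, 3, 4, 2, 3, 1,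 2, 3, 2, 1, 0] .leaf))) 1688 [1, 2, 1, 4, 3, 5, 3, 2, 3, 2, 3, 5, 3, 2, 3, 6, 1, 2, 3] (.node (.node (.node lev2T2_95 1691 [1, 0, 2, 5, 6, 3, 2, 3, 5, 6, 3, 4, 1, 2, 3, 5, 4, 3, 6] .leaf) 1692 [0, 2, 3, 4, 5, 3, 2, 1, 0, 4, 3, 2, 3, 6, 3, 2, 3, 4, 1, 2, 3, 5, 3, 4, 2, 3] (.node lev2T2_96 1724 [1, 2, 6, 3, 5, 6, 3, 2, 1, 0, 3, 2, 1, 3, 2, 3, 1, 2, 3, 6, 4, 3, 2, 3, 4, 3, 1] .leaf)) 1731 [5, 1, 2, 3, 6, 3, 0, 1, 2, 3, 1, 0] (.node (.node lev2T2_97 1742 [3, 6, 3, 2, 1, 3, 2, 1, 0, 3, 2, 3, 5, 3, 2, 3, 5, 1, 2, 3, 0, 1, 2, 3, 6] .leaf) 1750 [5, 3, 2, 1, 0, 3, 2, 1, 3, 2, 6, 3, 2, 3, 6, 2, 3, 1, 2, 3, 0, 1, 2, 3, 5] (.node .leaf 1763 [1, 3, 6, 3, 2, 3, 4, 6, 3, 2, 5, 3, 6, 1, 2, 3, 2, 3, 1, 2, 3, 2, 1] .leaf))))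

def lev2T2_99 : WTree := (.node .leaf 1776 [3, 2, 3, 2, 1, 6, 3, 2, 5, 3, 4, 6, 3, 2, 3, 4, 1, 2, 3, 5, 4, 3, 6, 2] .leaf)

def lev2T2_100 : WTree := (.node .leaf 1801 [1, 3, 2, 1, 3, 6, 3, 2, 3, 2, 3, 6, 3, 2, 3, 5, 1, 2] .leaf)

def lev2T2_101 : WTree := (.node .leaf 1812 [1, 0, 3, 2, 1, 3, 5, 2, 3, 2, 3, 5, 3, 2, 3, 6, 4, 1, 2] .leaf)

def lev2T2_102 : WTree := (.node .leaf 1837 [1, 2, 3, 5, 6, 3, 2, 1, 3, 2, 5, 3, 2, 3, 4, 1, 2, 3, 6, 5, 3, 1, 2, 1] .leaf)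

def lev2T2_103 : WTree := (.node .leaf 1847 [2, 1, 3, 4, 3, 5, 3, 6, 2, 3, 5, 4, 3, 6, 1, 2, 3, 1, 2, 3] .leaf)

def lev2T2_104 : WTree := (.node .leaf 1867 [1, 3, 2, 1, 3, 2, 1, 3, 4, 2, 3, 1, 2, 3, 1, 2, 3, 4, 1, 2, 1, 0] .leaf)

def lev2T2_105 : WTree := (.node (.node (.node (.node lev2T2_99 1784 [1, 2, 3, 2, 1, 3, 2, 3, 2, 1, 4, 3, 2, 3, 5, 3, 6, 3, 1, 2, 3, 4, 1, 2] .leaf) 1794 [0, 3, 1, 2, 3, 6, 3, 5, 2, 3, 0, 1, 2, 3] (.node lev2T2_100 1807 [1, 2, 5, 3, 4, 6, 3, 2, 3, 1, 2, 3, 1, 2, 3, 0, 1, 2, 3, 2, 1] .leaf)) 1809 [2, 4, 3, 2, 1, 3, 2, 3, 6, 2, 3, 2, 3, 6, 2, 3, 2, 1, 0] (.node (.node lev2T2_101 1814 [1, 2, 1, 3, 2, 1, 4, 3, 2, 1, 3, 2, 5, 3, 6, 3, 5, 3, 1, 2, 3, 1, 2, 3, 1] .leaf) 1815 [1, 2, 3,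 6, 3, 2, 1, 3, 4, 5, 3, 2, 1, 3, 2, 3, 6, 3, 4, 1, 2, 3, 1, 2, 3, 2] (.node .leaf 1822 [4, 3, 2, 3, 2, 4, 5, 3, 2, 1, 0, 3, 6, 2, 3, 5, 4, 3, 6, 2, 3, 5, 1, 2] .leaf))) 1834 [1, 2, 3, 2, 1, 3, 2, 3, 4, 1, 2, 3, 1, 2, 3, 1, 2, 3, 1] (.node (.node (.node lev2T2_102 1838 [1, 0, 2, 1, 3, 2, 1, 3, 4, 2, 3, 2, 3, 1, 2, 3, 2, 3, 1, 2, 3] .leaf) 1844 [0, 2, 1, 4, 3, 2, 1, 3, 6, 3, 2, 3, 2, 3, 6, 3, 2, 3, 5, 1, 2, 3, 2, 3] (.node lev2T2_103 1853 [3, 2, 1, 3, 2, 1, 4, 3, 2, 6, 3, 2, 3, 6, 2, 3, 4, 1, 2, 3, 5, 4, 3, 1, 0] .leaf)) 1861 [0, 1, 3, 2, 3, 6, 3, 2, 3, 6, 2, 3, 5, 6, 1, 2, 3, 1, 2, 3, 4] (.node (.node lev2T2_104 1868 [1, 0, 1, 2, 3, 5, 3, 2, 1, 3, 2, 3, 6, 3, 1, 2, 3, 2, 3, 6, 3, 2, 1] .leaf) 1871 [1, 2, 6,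 3, 4, 5, 3, 2, 3, 1, 2, 3, 6, 2, 3, 2, 3, 6, 4, 0] (.node .leaf 1872 [3, 2, 1, 3, 2, 6, 3, 4, 5, 3, 6, 2, 3, 1, 2, 3, 4, 2, 3, 5, 3, 0] .leaf))))

def lev2T2_106 : WTree := (.node .leaf 1878 [1, 4, 6, 3, 5, 4, 2, 3, 6, 4, 3, 5, 2, 3, 6, 1, 2] .leaf)

def lev2T2_107 : WTree := (.node .leaf 1885 [2, 4, 3, 2, 1, 3, 2, 5, 6, 3, 4, 5, 3, 6, 2, 3, 1, 2, 3, 4, 2, 3, 5, 3] .leaf)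

def lev2T2_108 : WTree := (.node .leaf 1898 [2, 1, 4, 3, 2, 1, 3, 6, 3, 2, 3, 6, 2, 3, 5, 6, 1, 2, 3, 1, 2, 3, 4] .leaf)

def lev2T2_109 : WTree := (.node .leaf 1921 [0, 3, 4, 5, 3, 2, 1, 0, 4, 3, 2, 1, 6, 3, 2, 3, 6, 5, 3, 4, 1, 2, 3, 5, 2, 3, 6] .leaf)

def lev2T2_110 : WTree := (.node .leaf 1933 [0, 1, 3, 2, 1, 3, 6, 3, 2, 3, 6, 2, 3, 5, 6, 1, 2, 3, 1, 2, 3, 4] .leaf)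

def lev2T2_111 : WTree := (.node .leaf 1938 [1, 5, 3, 2, 3, 6, 3, 2, 3, 2, 3, 6, 3, 1, 2, 3, 1, 0] .leaf)

def lev2T2_112 : WTree := (.node .leaf 1955 [3, 4, 3, 5, 3, 2, 1, 0, 4, 3, 2, 3, 6, 3, 2, 3, 4, 1, 2, 3, 5, 3, 4, 2, 3] .leaf)

def lev2T2_113 : WTree := (.node (.node (.node (.node lev2T2_106 1880 [2, 1, 4, 3, 2, 3, 6, 3, 5, 1, 2, 3, 0, 1, 2, 3] .leaf) 1883 [1, 2, 1, 6, 3, 4, 5, 3, 4, 2, 3, 1, 2, 3, 6, 2, 3, 2, 3, 6, 4] (.node lev2T2_107 1886 [0, 2, 1, 6, 3, 2, 3, 5, 3, 2, 3, 5, 2, 3, 1, 2, 3, 4, 0, 1, 2] .leaf)) 1893 [3, 2, 1, 3, 2, 1, 6, 3, 5, 4, 3, 6, 2, 3, 5, 4, 1, 2, 3, 0] (.node (.node lev2T2_108 1899 [2, 1, 4, 3, 2, 1, 3, 6, 3, 2, 3, 2, 3, 6, 3, 2, 3, 5, 3, 1, 2, 3] .leaf) 1903 [2, 3, 4, 3, 2,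 1, 5, 3, 2, 1, 6, 3, 5, 4, 3, 6, 2, 3, 5, 4, 1, 2, 3, 0] (.node lev2T2_109 1928 [0, 2, 1, 6, 3, 5, 4, 2, 3, 6, 4, 3, 5, 2, 3, 6, 1, 2] .leaf))) 1931 [0, 1, 3, 2, 3, 6, 3, 5, 1, 2, 3, 0, 1, 2, 3] (.node (.node (.node lev2T2_110 1935 [2, 1, 3, 2, 1, 4, 3, 2, 1, 3, 2, 3, 4, 1, 2, 3, 1, 2, 3, 1, 2, 1, 0] .leaf) 1936 [0, 2, 1, 3, 4, 5, 3, 2, 1, 6, 3, 5, 4, 3, 6, 2, 3, 1, 2, 3, 4, 2] (.node lev2T2_111 1939 [1, 0, 2, 5, 6, 3, 2, 3, 1, 2, 3, 6, 2, 3, 2, 3, 6, 2, 3, 4] .leaf)) 1943 [1, 2, 5, 3, 2, 1, 6, 3, 2, 4, 3, 2, 3, 1, 2, 3, 2, 3, 1, 2, 3, 2, 3, 5, 3] (.node (.node lev2T2_112 1959 [0, 1, 2, 3, 6, 2, 3, 2, 3, 6, 2, 3, 4, 1, 2, 1] .leaf) 1974 [2, 4, 3, 2, 3, 2, 1, 6, 3, 2, 3, 5, 2, 3, 2, 3, 5, 2, 3, 1, 2, 3, 1, 0]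 (.node .leaf 1975 [4, 6, 3, 2, 4, 3, 2, 1, 3, 2, 3, 2, 1, 6, 3, 2, 3, 4, 2, 3, 1, 2, 3, 5, 3, 2, 1] .leaf))))

def lev2T2_114 : WTree := (.node .leaf 1986 [2, 3, 2, 3, 2, 1, 4, 5, 3, 2, 1, 6, 3, 5, 4, 3, 6, 2, 3, 1, 2, 3, 4, 2] .leaf)

def lev2T2_115 : WTree := (.node .leaf 1996 [1, 2, 3, 2, 1, 0, 3, 2, 1, 3, 2, 5, 3, 6, 3, 5, 3, 1, 2, 3, 1, 2, 3, 1] .leaf)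

def lev2T2_116 : WTree := (.node .leaf 2000 [0, 3, 2, 1, 4, 5, 3, 2, 6, 3, 5, 4, 3, 6, 4, 2, 3, 1, 2, 3, 4, 2] .leaf)

def lev2T2_117 : WTree := (.node .leaf 2023 [1, 0, 2, 1, 5, 6, 3, 2, 3, 1, 2, 3, 6, 2, 3, 2, 3, 6, 2, 3, 4] .leaf)

def lev2T2_118 : WTree := (.node .leaf 2042 [1, 4, 6, 3, 2, 3, 5, 3, 2, 3, 5, 2, 3, 1, 2, 3, 4, 0, 1, 2] .leaf)

def lev2T2_119 : WTree := (.node .leaf 2049 [0, 3, 2, 3, 4, 3, 2, 5, 3, 2, 1, 0, 3, 2, 3, 6, 3, 2, 3, 1, 2, 3, 5, 2, 3, 4, 0] .leaf)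

def lev2T2_120 : WTree := (.node (.node (.node (.node lev2T2_114 1987 [0, 1, 2, 3, 2, 6, 3, 2, 3, 6, 2, 3, 4, 1, 2, 3, 5, 4, 3, 1, 0] .leaf) 1994 [0, 4, 3, 2, 3, 2, 1, 4, 5, 3, 2, 1, 6, 3, 5, 4, 3, 6, 2, 3, 5, 4, 1, 2, 3] (.node lev2T2_115 1998 [2, 4, 3, 2, 1, 3, 2, 1, 6, 3, 5, 4, 3, 6, 2, 3, 5, 4, 3, 1, 2, 0] .leaf)) 1999 [1, 0, 5, 3, 2, 1, 6, 3, 2, 5, 3, 1, 2, 3, 6, 2, 3, 2, 3, 6, 2, 3] (.node (.node lev2T2_116 2007 [1, 3, 2, 1, 3, 2, 6, 3, 2, 5, 3, 2, 3, 6, 1, 2, 3, 5, 1, 2, 3, 6, 5] .leaf) 2009 [0, 1, 2, 3, 6, 3, 2, 3, 1, 2, 3, 1, 2, 3, 6, 3, 4, 1, 2, 1] (.node .leaf 2015 [1, 0, 2, 1, 3, 2, 3, 4, 1, 2, 3, 2, 3, 1, 2, 3, 2, 1] .leaf))) 2018 [1, 3, 2, 1, 6, 5, 3, 2, 1, 6, 3, 5, 2, 3, 2, 3, 6, 1, 2, 3, 5,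 6, 2, 1, 0] (.node (.node (.node lev2T2_117 2032 [3, 2, 1, 3, 5, 3, 2, 3, 6, 3, 2, 3, 2, 3, 6, 3, 1, 2, 3, 1, 0] .leaf) 2041 [0, 1, 0, 3, 2, 1, 3, 6, 3, 2, 1, 3, 2, 3, 5, 3, 2, 3, 2, 3, 5, 3, 2, 3] (.node lev2T2_118 2044 [3, 2, 1, 3, 2, 6, 3, 5, 4, 3, 6, 4, 2, 3, 5, 4, 1, 2, 3] .leaf)) 2048 [1, 2, 1, 5, 6, 3, 2, 1, 3, 2, 3, 2, 6, 3, 2, 3, 5, 1, 2, 3, 6, 5, 1, 2, 1] (.node (.node lev2T2_119 2051 [1, 0, 2, 3, 2, 3, 4, 1, 2, 3, 2, 3, 1, 2, 3, 2, 1] .leaf) 2054 [2, 3, 2, 5, 3, 2, 1, 0, 3, 2, 3, 6, 3, 4, 2, 3, 1, 2, 3, 5, 2, 3, 4] (.node .leaf 2057 [1, 2, 3, 2, 1, 3, 2, 3, 2, 1, 4, 3, 2, 3, 5, 3, 6, 3, 2, 3, 4, 1, 2] .leaf))))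

def lev2T2 : WTree := (.node (.node (.node (.node lev2T2_7 121 [2, 1, 6, 3, 2, 4, 5, 3, 4, 6, 3, 5, 2, 3, 6, 1, 2, 3, 4, 2, 3, 5, 2, 3] lev2T2_15) 274 [0, 4, 3, 2, 6, 3, 2, 1, 5, 3, 2, 3, 6, 4, 3, 1, 2, 3, 5, 3, 6, 3, 5, 1] (.node lev2T2_23 375 [1, 2, 6, 3, 5, 4, 3, 6, 4, 2, 3, 5, 4, 3, 1] lev2T2_30)) 511 [1, 0, 1, 2, 3, 5, 3, 2, 3, 2, 3, 6, 1, 2, 3, 5, 6, 2, 1, 0] (.node (.node lev2T2_38 647 [3, 2, 1, 3, 2, 3, 2, 6, 3, 2, 3, 6, 2, 3, 2, 3, 4, 1, 2, 3] lev2T2_45) 730 [3, 2, 1, 6, 3, 2, 3, 5, 3, 2, 3, 2, 3, 5, 3, 2, 1, 0] (.node lev2T2_53 919 [1, 2, 3, 6, 3, 2, 3, 2, 1, 3, 6, 3, 2, 3, 1, 2, 3, 4, 1, 2, 3, 6, 3, 5, 2, 1] lev2T2_60))) 1015 [2, 3, 4, 5, 3, 2, 1, 3, 5, 4, 3, 6, 2, 3, 5, 4, 3, 6, 2, 1, 0] (.node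 (.node (.node lev2T2_68 1155 [1, 2, 3, 2, 6, 3, 2, 3, 6, 2, 3, 2, 3, 5, 1, 2, 3, 4, 2] lev2T2_75) 1358 [2, 3, 2, 3, 2, 1, 5, 4, 3, 6, 2, 3, 5, 4, 3, 6, 4, 2, 1] (.node lev2T2_83 1491 [4, 6, 3, 2, 3, 2, 1, 6, 3, 2, 5, 4, 3, 6, 4, 3, 5, 1, 2, 3, 6, 1, 2] lev2T2_90)) 1629 [1, 2, 6, 3, 5, 4, 3, 6, 4, 2, 3, 5, 4, 1, 2, 3] (.node (.node lev2T2_98 1764 [3, 2, 1, 3, 2, 3, 2, 1, 3, 2, 3, 2, 1, 4, 3, 2, 3, 5, 3, 6, 3, 2, 3, 4, 1, 2] lev2T2_105) 1873 [0, 3, 4, 5, 3, 2, 1, 3, 4, 3, 2, 5, 3, 2, 3, 4, 1, 2, 3, 1, 2, 3, 1, 2, 3, 2, 1] (.node lev2T2_113 1976 [3, 2, 1, 3, 2, 5, 3, 2, 1, 6, 3, 2, 4, 3, 2, 3, 1, 2, 3, 2, 3, 1, 2, 3, 2, 3, 5, 3] lev2T2_120))))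

def lev2T3 : WTree := (.node (.node (.node .leaf 1409 [] .leaf) 1461 [0, 1, 3, 2, 1, 3, 6, 3, 2, 1, 0, 3, 2, 3, 5, 3, 2, 3, 1, 2, 3, 6, 3, 1, 2, 3, 1, 0] .leaf) 1704 [1, 0, 3, 2, 5, 3, 2, 1, 3, 2, 3, 4, 2, 3, 1, 2, 3, 5, 1, 2, 3, 1] (.node .leaf 1910 [3, 2, 1, 3, 2, 1, 4, 3, 2, 6, 3, 2, 3, 6, 2, 3, 4, 1, 2, 3, 1, 2, 3] .leaf))

def lev2T4 : WTree := (.node .leaf 1106 [] .leaf)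

def lev2T5 : WTree := (.node .leaf 1033 [] .leaf)

def lev2 : List WLev :=
  [⟨0, none, lev2T0⟩,
   ⟨792, some 0, lev2T1⟩,
   ⟨1534, some 792, lev2T2⟩,
   ⟨1409, some 1534, lev2T3⟩,
   ⟨1106, some 1409, lev2T4⟩,
   ⟨1033, some 1106, lev2T5⟩]

/-- Images of the generators under an outer automorphism. -/
def tau : List (List ℕ) := [[1, 4, 5, 3, 2, 1, 0, 3, 2, 6, 3, 5, 6, 3, 5, 2, 3, 6, 1, 2, 3, 5, 3, 4], [2, 3, 2, 5, 3, 2, 6, 3, 2, 1, 0, 3, 2, 3, 5, 3, 2, 3, 1, 2, 3, 6, 2, 3, 5, 2, 3, 2], [5, 3, 4, 1, 2, 3, 2, 3, 5, 1, 0], [1, 0, 2, 3, 2, 1, 3, 2, 3, 2, 1, 3, 6, 3, 2, 1, 4, 3, 6, 2, 3, 2, 3, 1, 2, 3, 2, 0, 1], [2, 1, 3, 4, 3, 2, 1, 6, 3, 2, 5, 3, 6, 4, 2, 3, 5, 2, 3, 1, 2, 3, 4, 2], [2, 6, 3, 2, 1, 3, 2, 3,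 2, 1, 3, 5, 3, 2, 3, 5, 1, 2, 3, 2, 3, 1, 2, 3, 6, 2], [3, 6, 5, 3, 2, 1, 3, 2, 1, 0, 3, 5, 2, 3, 1, 2, 3, 1, 2, 3, 5, 6, 3]]

/-- The certificate. -/
def cert : OutCert where
  p := 17
  x1 := [1, 0, 3, 4, 6, 3, 2, 4, 5, 3, 2, 1, 6, 3, 2, 3, 1, 2, 3, 5, 3, 1, 2, 3, 6, 4, 1, 2]
  x2 := [0, 3, 2, 1, 3, 6, 3, 2, 3, 2, 1, 5, 3, 2, 1, 4, 3, 6, 4, 3, 2, 3, 1, 2, 3, 5, 3, 2]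
  x3 := [3, 2, 3, 2, 1, 5, 3, 2, 1, 6, 3, 5, 4, 3, 6, 2, 3, 5, 1, 2, 3, 2, 3]
  m := 2
  l := 3
  lev1 := lev1
  lev2 := lev2
  genW := [[1, 2, 1, 0, 2, 0, 0, 0, 2, 0, 2, 1, 1, 0, 1, 2, 1, 0, 2, 0, 2, 0, 1, 0, 2, 0, 1, 0],
    [0, 1, 0, 2, 0, 1, 2, 0, 2, 0, 2, 1, 0, 2, 1, 0, 2, 0, 1, 2, 0, 2, 0, 1, 1, 0, 1, 0],
    [1, 2, 0, 1, 0, 1, 2, 1, 0, 0, 0, 2, 0, 2, 0, 1, 2, 1, 0, 2, 1, 1, 0, 2, 0, 0, 0, 2, 0],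
    [1, 0, 1, 1, 0, 2, 1, 0, 2, 1, 0, 2, 1, 0, 1, 0, 2, 0, 2, 0, 1, 0, 2, 0, 2, 0, 2, 1],
    [0, 0, 0, 2, 0, 1, 2, 0, 1, 1, 2, 1, 0, 2, 0, 1, 2, 1, 0, 2, 0, 0, 2, 0, 2],
    [0, 1, 0, 2, 0, 0, 2, 1, 0, 2, 1, 1, 0, 2, 1, 0, 0, 2, 0, 0, 2, 1, 0, 1, 1, 0],
    [0, 0, 0, 0, 2, 0, 0, 2, 1, 0, 2, 0, 0, 0, 2, 0, 1, 0, 2, 0, 1, 2, 0, 2, 0, 0, 0, 2, 0]]
  rels := [[2, 2],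
    [1, 2, 1, 0, 2, 0, 0, 0, 2, 0, 2, 1, 1, 0, 1, 2, 1, 0, 2, 0, 2, 0, 1, 0, 2, 0, 1, 0, 1, 2, 1, 0, 2, 0, 0, 0, 2, 0, 2, 1, 1, 0, 1, 2, 1, 0, 2, 0, 2, 0, 1, 0, 2, 0, 1, 0]]
  s1 := [0, 1, 4, 3, 2, 1, 0, 5, 3, 4, 6, 3, 2, 1, 3, 5, 3, 4, 2, 3, 2, 3, 1, 2, 3, 6, 5, 2]
  s2 := [0, 3, 2, 1, 3, 6, 3, 2, 3, 2, 1, 5, 3, 2, 1, 4, 3, 6, 4, 3, 2, 3, 1, 2, 3, 5, 3, 2]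
  s3 := [6, 3, 2, 1, 4, 3, 2, 3, 2, 1, 6, 3, 2, 4, 3, 6, 1, 2, 3, 2, 3, 4, 1, 2, 3, 6]
  conjs := [([], false),
    ([0, 3, 2, 1, 3, 6, 3, 2, 3, 2, 1, 5, 3, 2, 1, 4, 3, 6, 4, 3, 2, 3, 1, 2, 3, 5, 3, 2], false),
    ([], true),
    ([1, 2, 3, 5, 6, 3, 2, 1, 0, 3, 2, 6, 3, 5, 6, 3, 2, 3, 6, 1, 2, 3, 5, 2, 1], false),
    ([1, 2, 5, 3, 2, 1, 0, 6, 3, 2, 3, 6, 5, 3, 6, 2, 3, 1, 2, 3, 6, 5, 3, 2, 1], true),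
    ([0, 3, 2, 1, 3, 6, 3, 2, 3, 2, 1, 5, 3, 2, 1, 4, 3, 6, 4, 3, 2, 3, 1, 2, 3, 5, 3, 2], true),
    ([0, 3, 2, 1, 4, 3, 6, 5, 3, 2, 1, 3, 2, 1, 3, 6, 3, 5, 3, 2, 3, 1, 2, 3, 5, 4, 3, 1, 2], true),
    ([0, 3, 2, 1, 4, 3, 6, 5, 3, 2, 1, 3, 2, 1, 3, 6, 3, 5, 3, 2, 3, 1, 2, 3, 5, 4, 3, 1, 2], false),
    ([0, 6, 3, 5, 3, 2, 1, 3, 2, 5, 3, 2, 1, 4, 6, 3, 2, 3, 5, 2, 3, 6, 1, 2, 3, 5, 4, 1], false),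
    ([0, 6, 3, 5, 3, 2, 1, 3, 2, 5, 3, 2, 1, 4, 6, 3, 2, 3, 5, 2, 3, 6, 1, 2, 3, 5, 4, 1], true),
    ([2, 1, 3, 4, 5, 3, 2, 1, 3, 2, 1, 3, 5, 3, 6, 3, 2, 3, 1, 2, 3, 5, 6, 3, 4, 1, 2, 3, 0], true),
    ([1, 2, 3, 5, 6, 3, 2, 1, 0, 3, 2, 6, 3, 5, 6, 3, 2, 3, 6, 1, 2, 3, 5, 2, 1], true),
    ([1, 2, 5, 3, 2, 1, 0, 6, 3, 2, 3, 6, 5, 3, 6, 2, 3, 1, 2, 3, 6, 5, 3, 2, 1], false),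
    ([1, 5, 6, 3, 2, 1, 3, 4, 5, 3, 2, 6, 3, 5, 2, 3, 2, 3, 5, 1, 2, 3, 6, 5], true),
    ([2, 1, 3, 4, 5, 3, 2, 1, 3, 2, 1, 3, 5, 3, 6, 3, 2, 3, 1, 2, 3, 5, 6, 3, 4, 1, 2, 3, 0], false),
    ([1, 5, 6, 3, 2, 1, 3, 4, 5, 3, 2, 6, 3, 5, 2, 3, 2, 3, 5, 1, 2, 3, 6, 5], false)]
  Z := [[5, 2, 3, 2, 3, 1, 0, 1, 2, 1, 0, 2, 1, 5, 3, 2, 4, 6, 3, 2, 3, 1, 2, 3, 1, 2, 3, 1, 2, 3, 4, 2, 1, 0, 1, 0, 3, 2, 5, 3, 2, 1, 3, 2, 3, 4, 2, 3, 1, 2, 3, 5, 1, 2, 3, 1],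
    [5, 3, 6, 2, 3, 5, 1, 2, 3, 2, 1, 3, 2, 3, 1, 2, 3, 6, 3, 4, 2, 3, 0, 1, 2, 3, 5, 0, 0, 2, 1, 6, 3, 2, 5, 3, 4, 6, 3, 5, 4, 2, 3, 6, 1, 2, 3, 2, 3, 4, 3, 2, 1, 3, 2, 1, 4, 3, 2, 6, 3, 2, 3, 6, 2, 3, 4, 1, 2, 3, 1, 2, 3],
    [3, 2, 3, 6, 2, 3, 0, 1, 2, 3, 2, 1, 2, 3, 4, 3, 1, 2, 3, 6, 3, 1, 2, 3, 4, 0, 1, 3, 2, 1, 3, 2, 1, 4, 3, 5, 3, 2, 3, 2, 3, 5, 3, 2, 3, 6, 1, 2, 3],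
    [3, 1, 2, 3, 5, 2, 3, 1, 2, 3, 2, 1, 3, 0, 1, 2, 3, 6, 3, 1, 2, 3, 5, 1, 2, 3, 2, 0, 3, 4, 5, 3, 2, 1, 0, 4, 3, 2, 3, 6, 3, 2, 3, 5, 4, 3, 1, 2, 1, 0, 3, 2, 5, 3, 2, 1, 3, 2, 3, 4, 2, 3, 1, 2, 3, 5, 1, 2, 3, 1],
    [3, 6, 5, 3, 6, 2, 3, 0, 1, 2, 3, 6, 4, 3, 0, 1, 2, 3, 6, 3, 2, 3, 4, 1, 2, 3, 5, 2, 3, 4, 3, 5, 3, 4, 2, 3, 1, 2, 3, 6, 3, 2, 3, 5, 0, 1, 3, 2, 1, 3, 2, 1, 4, 3, 2, 6, 3, 2, 3, 6, 2, 3, 4, 1, 2, 3, 1, 2, 3],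
    [4, 3, 5, 3, 2, 3, 2, 3, 1, 2, 3, 6, 2, 3, 2, 3, 1, 2, 3, 6, 3, 5, 2, 3, 1, 2, 3, 5, 4, 2, 3, 2, 3, 0, 1, 0, 3, 2, 5, 3, 2, 1, 3, 2, 3, 4, 2, 3, 1, 2, 3, 5, 1, 2, 3, 1],
    [1, 2, 3, 6, 4, 3, 2, 3, 1, 2, 3, 6, 6, 1, 2, 3, 5, 4, 3, 6, 2, 3, 1, 2, 3, 5, 1, 0, 3, 2, 1, 3, 2, 3, 5, 3, 2, 3, 5, 2, 3, 6, 4, 1, 2, 3, 2, 3, 0, 1, 3, 2, 1, 3, 6, 3, 2, 1, 0, 3, 2, 3, 5, 3, 2, 3, 1, 2, 3, 6, 3, 1, 2, 3, 1, 0],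
    [4, 2, 3, 5, 1, 2, 3, 0, 1, 2, 3, 2, 1, 2, 1, 0, 1, 2, 3, 5, 3, 2, 1, 3, 2, 3, 6, 3, 1, 2, 3, 2, 3, 6, 3, 2, 1, 1, 0, 3, 2, 5, 3, 2, 1, 3, 2, 3, 4, 2, 3, 1, 2, 3, 5, 1, 2, 3, 1],
    [3, 1, 2, 3, 5, 4, 3, 0, 1, 2, 3, 2, 1, 1, 2, 3, 6, 3, 2, 3, 4, 0, 1, 1, 2, 5, 6, 3, 5, 6, 3, 2, 1, 3, 2, 3, 4, 2, 3, 1, 2, 3, 5, 2, 3, 4, 3, 1, 2, 0, 1, 3, 2, 1, 3, 6, 3, 2, 1, 0, 3, 2, 3, 5, 3, 2, 3, 1, 2, 3, 6, 3, 1, 2, 3, 1, 0],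
    [5, 6, 3, 2, 3, 6, 2, 3, 1, 2, 3, 2, 1, 3, 5, 4, 2, 3, 0, 1, 2, 3, 6, 3, 1, 2, 3, 4, 1, 1, 2, 3, 2, 6, 3, 2, 3, 6, 2, 3, 2, 3, 4, 1, 2, 3, 1, 0, 3, 2, 5, 3, 2, 1, 3, 2, 3, 4, 2, 3, 1, 2, 3, 5, 1, 2, 3, 1],
    [4, 3, 1, 2, 3, 6, 4, 3, 1, 2, 3, 2, 1, 3, 1, 2, 3, 6, 2, 3, 2, 3, 6, 2, 3, 1, 2, 3, 4, 0, 1, 4, 2, 3, 2, 3, 4, 2],
    [3, 6, 0, 1, 2, 3, 2, 3, 1, 2, 3, 6, 1, 3, 2, 3, 5, 2, 0, 2, 1, 4, 3, 2, 1, 3, 6, 3, 2, 3, 2, 3, 6, 3, 2, 3, 5, 1, 2, 3, 2, 3],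
    [1, 2, 3, 2, 3, 6, 4, 3, 1, 2, 3, 6, 1, 4, 3, 5, 3, 2, 3, 1, 2, 3, 6, 3, 1, 2, 3, 1, 2, 1, 0, 2, 6, 3, 5, 6, 3, 2, 1, 0, 3, 4, 2, 3, 2, 3, 1, 2, 3, 6, 4, 3, 2, 1, 1, 0, 3, 2, 5, 3, 2, 1, 3, 2, 3, 4, 2, 3, 1, 2, 3, 5, 1, 2, 3, 1],
    [2, 3, 4, 1, 2, 3, 1, 2, 3, 1, 2, 3, 6, 6, 1, 2, 3, 5, 6, 2, 3, 1, 2, 3, 5, 2, 1, 3, 5, 4, 3, 6, 4, 2, 3, 5, 4, 3, 6, 2, 1, 0],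
    [6, 4, 3, 5, 6, 3, 4, 2, 3, 1, 2, 3, 6, 5, 0, 1, 2, 5, 3, 6, 3, 2, 1, 3, 2, 3, 2, 5, 3, 2, 3, 6, 1, 2, 3, 5, 6, 1, 2, 1, 0],
    [2, 3, 5, 4, 3, 6, 2, 3, 5, 1, 2, 3, 2, 1, 5, 3, 2, 3, 4, 3, 1, 2, 3, 6, 3, 1, 2, 3, 4, 1, 3, 2, 3, 2, 1, 0, 5, 3, 2, 6, 3, 5, 4, 3, 6, 2, 3, 1, 2, 3, 5, 4, 3, 2]]
  pows := [[],
    [1, 0, 3, 4, 6, 3, 2, 4, 5, 3, 2, 1, 6, 3, 2, 3, 1, 2, 3, 5, 3, 1, 2, 3, 6, 4, 1, 2],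
    [5, 6, 3, 2, 1, 5, 3, 2, 4, 3, 2, 1, 5, 3, 2, 4, 3, 1, 2, 3, 1, 2, 3, 5, 4, 3, 2, 3],
    [0, 1, 4, 3, 2, 1, 0, 5, 3, 4, 6, 3, 2, 1, 3, 5, 3, 4, 2, 3, 2, 3, 1, 2, 3, 6, 5, 2],
    [2, 3, 5, 6, 3, 2, 1, 3, 2, 6, 3, 2, 1, 3, 2, 3, 5, 2, 3, 6, 5, 3, 1, 2, 3, 5],
    [0, 1, 3, 2, 1, 3, 5, 3, 2, 3, 2, 1, 5, 3, 2, 1, 3, 4, 2, 3, 6, 2, 3, 4, 1, 2, 3, 5, 2],
    [0, 4, 3, 2, 1, 3, 2, 1, 0, 5, 3, 2, 1, 3, 2, 3, 6, 5, 3, 2, 3, 6, 1, 2, 3, 5, 3, 0],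
    [3, 2, 1, 0, 3, 2, 3, 2, 1, 6, 3, 2, 1, 3, 6, 2, 3, 4, 2, 3, 5, 6, 3, 1, 2, 3, 6],
    [2, 5, 3, 6, 5, 3, 2, 1, 3, 4, 3, 2, 3, 2, 1, 5, 3, 4, 2, 3, 5, 6, 3, 1, 2, 3, 6, 1, 2],
    [2, 1, 6, 3, 2, 1, 3, 6, 5, 3, 2, 1, 4, 3, 2, 5, 3, 2, 3, 4, 3, 1, 2, 3, 5, 6, 3, 5, 2],
    [6, 3, 2, 1, 3, 6, 5, 3, 2, 4, 3, 2, 1, 6, 3, 2, 3, 6, 1, 2, 3, 2, 3, 0, 1, 2, 3],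
    [0, 3, 5, 3, 2, 1, 6, 3, 2, 3, 5, 6, 3, 2, 1, 3, 2, 3, 5, 0, 1, 2, 3, 1, 2, 3, 4, 0],
    [2, 5, 3, 2, 1, 4, 3, 2, 6, 3, 2, 1, 4, 3, 2, 3, 5, 1, 2, 3, 2, 3, 5, 3, 1, 2, 3, 1, 0],
    [1, 2, 1, 5, 3, 4, 6, 3, 2, 1, 4, 3, 5, 3, 2, 3, 6, 2, 3, 1, 2, 3, 6, 3, 2, 1, 0],
    [2, 5, 6, 3, 2, 1, 3, 2, 3, 2, 1, 4, 3, 5, 3, 2, 3, 6, 4, 3, 5, 0, 1, 2, 3, 4, 1, 0],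
    [3, 2, 3, 4, 5, 3, 2, 1, 3, 2, 1, 3, 2, 1, 4, 3, 5, 2, 3, 4, 2, 3, 5, 1, 2, 3, 6, 5],
    [2, 1, 3, 6, 3, 2, 3, 2, 6, 3, 2, 1, 0, 3, 2, 3, 5, 6, 3, 5, 4, 2, 3, 1, 2, 3, 5, 4]]

end Cfsg.Agent.Lib.Compute.Sporadic.He.AutData
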