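import Cfsg.Agent.Lib.Compute.Sporadic.He.Base
import Cfsg.Agent.Lib.Compute.Sporadic.He.AutData
import Cfsg.Agent.Lib.CosetTable.Hom

/-! The outer automorphism group of the Held group has order two. -/

set_option autoImplicit false
set_option Elab.async false

namespace Cfsg.Agent.Lib.Compute.Sporadic.He

open Cfsg Cfsg.Agent.Lib.CosetTable
open Cfsg.Agent.Lib.Compute.Schur (prodT)
open Cfsg.Agent.Lib.Compute.WordSchur Cfsg.Agent.Lib.Compute.WordTwins
open Cfsg.Agent.Lib.Compute.WordAut

/-- Image of a point under a product of generators. -/
noncomputable def img (u : List ℕ) (b : ℕ) : ℕ := He2058.tab.walk u.reverse b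

/-- The action on point numbers. -/
theorem exists_wact : Nonempty (WAct Spor.He gn 7 He2058.tab.n img) := by
  obtain ⟨φ, hφ⟩ := exists_phi
  refine ⟨⟨fun g b => if h : b < He2058.tab.n then (φ g ⟨b, h⟩ : ℕ) else b, ?_, ?_, ?_, ?_, ?_⟩⟩
  · intro b hb
    simp [hb]
  · intro g h b hb
    simp only [dif_pos hb, dif_pos (Fin.is_lt (φ h ⟨b, hb⟩)), map_mul, Equiv.Perm.mul_apply]
  · intro g b hb
    simp only [dif_pos hb]
    exact Fin.is_lt _
  · intro u hu b hb
    simp only [dif_pos hb]
    exact walk_eq hφ hu ⟨b, hb⟩
  · intro a ha
    exact S1695.model_act.invol a ha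

theorem rel_letters : (S1683.pres.relWords.all (wlt 7)) = true := by decide +kernel

theorem tau_letters : (AutData.tau.all (wlt 7)) = true := by decide +kernel

theorem tau_invol :
    ((List.range 7).all fun a => Nat.beq (key (wordX AutData.tau [a, a])) (key [])) = true := by
  decide +kernel

theorem tau_rels :
    (S1683.pres.relWords.all fun w => Nat.beq (key (wordX AutData.tau w.reverse)) (key [])) = true := by
  decide +kernel

theorem tau_lt : ∀ w ∈ AutData.tau, ∀ a ∈ w, a < 7 := by
  intro w hw a ha
  have h := List.all_eq_true.1 tau_letters w hw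
  simp only [wlt, List.all_eq_true, Nat.blt_eq] at h
  exact h a ha

/-- The endomorphism given by `AutData.tau`. -/
theorem exists_tau_hom : ∃ ψ : Spor.He →* Spor.He,
    ∀ a, a < 7 → ψ (gn a) = prodT gn (AutData.tau.getD a []) := by
  have one : ∀ u : List ℕ, Nat.beq (key (wordX AutData.tau u)) (key []) = true →
      prodT (fun a => prodT gn (AutData.tau.getD a [])) u = 1 := by
    intro u h
    rw [← prodT_wordX]
    exact (key_sound _ [] (wordX_lt tau_lt u) (by simp) (Nat.eq_of_beq_eq_true h)).trans
      (by simp [prodT])
  refine Pres.exists_hom S1683.pres_good S1683.certified.extra_eq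
    (fun a => prodT gn (AutData.tau.getD a [])) ?_ ?_ ?_
  · intro a ha
    have := one [a, a] (List.all_eq_true.1 tau_invol a (List.mem_range.2 ha))
    simpa [prodT] using this
  · intro w hw a ha
    have h := List.all_eq_true.1 rel_letters w hw
    simp only [wlt, List.all_eq_true, Nat.blt_eq] at h
    exact h a ha
  · intro w hw
    have := one w.reverse (List.all_eq_true.1 tau_rels w hw)
    rw [prodT_eq_eval' _ w] at this
    exact this
where
  prodT_eq_eval' (p : ℕ → Spor.He) (w : List ℕ) : prodT p w.reverse = eval p w := by
    rw [prodT_eq_eval, List.reverse_reverse]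

theorem base_ok : baseCheck img key 7 He2058.tab.n 4030387200 AutData.cert = true := by decide +kernel

theorem second_ok : secondCheck img key AutData.cert = true := by decide +kernel

theorem third_eq : wordsEq (thirdList img key AutData.cert) AutData.cert.Z = true := by decide +kernel

theorem power1 : powerCheck key AutData.cert 1 = true := by decide +kernel

theorem power2 : powerCheck key AutData.cert 2 = true := by decide +kernel

theorem power3 : powerCheck key AutData.cert 3 = true := by decide +kernel

theorem power4 : powerCheck key AutData.cert 4 = true := by decide +kernel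

theorem power5 : powerCheck key AutData.cert 5 = true := by decide +kernel

theorem power6 : powerCheck key AutData.cert 6 = true := by decide +kernel

theorem power7 : powerCheck key AutData.cert 7 = true := by decide +kernel

theorem power8 : powerCheck key AutData.cert 8 = true := by decide +kernel

theorem power9 : powerCheck key AutData.cert 9 = true := by decide +kernel

theorem power10 : powerCheck key AutData.cert 10 = true := by decide +kernel

theorem power11 : powerCheck key AutData.cert 11 = true := by decide +kernel

theorem power12 : powerCheck key AutData.cert 12 = true := by decide +kernel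

theorem power13 : powerCheck key AutData.cert 13 = true := by decide +kernel

theorem power14 : powerCheck key AutData.cert 14 = true := by decide +kernel

theorem power15 : powerCheck key AutData.cert 15 = true := by decide +kernel

theorem power16 : powerCheck key AutData.cert 16 = true := by decide +kernel

theorem third_ok : ∀ k, 0 < k → k < AutData.cert.p → powerCheck key AutData.cert k = true := by
  intro k h0 h1
  have h1 : k < 17 := h1
  interval_cases k
  · exact power1
  · exact power2
  · exact power3
  · exact power4
  · exact power5
  · exact power6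
  · exact power7
  · exact power8
  · exact power9
  · exact power10
  · exact power11
  · exact power12
  · exact power13
  · exact power14
  · exact power15
  · exact power16

theorem outer_ok : outerCheckW img key AutData.cert = true := by decide +kernel

theorem tau_triple :
    (([(AutData.cert.x1, AutData.cert.s1), (AutData.cert.x2, AutData.cert.s2),
      (AutData.cert.x3, AutData.cert.s3)] : List (List ℕ × List ℕ)).all fun q =>
        wlt 7 q.1 && wlt 7 q.2 && Nat.beq (key (wordX AutData.tau q.1)) (key q.2)) = true := by
  decide +kernel

/-- `|Out He| = 2`. -/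
theorem card_out_He : Nat.card (Cfsg.Out Spor.He) = 2 := by
  haveI := S1695.order_le.1
  obtain ⟨W⟩ := exists_wact
  obtain ⟨ψ, hψ⟩ := exists_tau_hom
  haveI := S1695.result.1
  have himg : ∀ u : List ℕ, (∀ a ∈ u, a < 7) →
      ψ (prodT gn u) = prodT gn (wordX AutData.tau u) := by
    intro u hu
    rw [prodT_wordX, Schur.map_prodT]
    exact congrArg List.prod (List.map_congr_left fun a ha => hψ a (hu a ha))
  have htri : ∀ x s : List ℕ, ((x, s) : List ℕ × List ℕ) ∈
      ([(AutData.cert.x1, AutData.cert.s1), (AutData.cert.x2, AutData.cert.s2),
        (AutData.cert.x3, AutData.cert.s3)] : List (List ℕ × List ℕ)) →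
      ψ (prodT gn x) = prodT gn s ∧ (∀ a ∈ x, a < 7) := by
    intro x s hm
    have h := List.all_eq_true.1 tau_triple _ hm
    simp only [wlt, Bool.and_eq_true, List.all_eq_true, Nat.blt_eq] at h
    obtain ⟨⟨hx, hs⟩, he⟩ := h
    exact ⟨(himg x hx).trans
      (key_sound _ _ (wordX_lt tau_lt x) hs (Nat.eq_of_beq_eq_true he)), hx⟩
  have h1 := htri AutData.cert.x1 AutData.cert.s1 (by simp)
  have h2 := htri AutData.cert.x2 AutData.cert.s2 (by simp)
  have h3 := htri AutData.cert.x3 AutData.cert.s3 (by simp)
  have hne : ψ.ker ≠ ⊤ := by
    intro h
    have hx : prodT gn AutData.cert.s1 = 1 := by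
      rw [← h1.1]
      exact MonoidHom.mem_ker.1 (h ▸ Subgroup.mem_top _)
    have hk := key_eq AutData.cert.s1 [] (by
        have h := List.all_eq_true.1 tau_triple (AutData.cert.x1, AutData.cert.s1) (by simp)
        simp only [wlt, Bool.and_eq_true, List.all_eq_true, Nat.blt_eq] at h
        exact h.1.2) (by simp) (hx.trans (by simp [prodT]))
    exact absurd hk (by decide +kernel)
  have hinj : Function.Injective ψ := (MonoidHom.ker_eq_bot_iff ψ).1
    ((Subgroup.Normal.eq_bot_or_eq_top ψ.normal_ker).resolve_right hne)
  have hgen : Subgroup.closure {x | ∃ a, a < 7 ∧ gn a = x} = ⊤ := S1695.model_act.gen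
  exact card_out_eq_two W key_sound key_eq hgen natCard_He (show Nat.Prime 17 by norm_num) base_ok
    second_ok third_eq third_ok outer_ok (MulEquiv.ofBijective ψ (Finite.injective_iff_bijective.1 hinj))
    h1.1 h2.1 h3.1

end Cfsg.Agent.Lib.Compute.Sporadic.He
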