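import Cfsg.Agent.S1695
import Cfsg.Agent.Lib.Compute.WordSchur

/-! The Held group on 2058 points with a base of six points. -/

set_option autoImplicit false

namespace Cfsg.Agent.Lib.Compute.Sporadic.He

open Cfsg Cfsg.Agent.Lib.CosetTable
open Cfsg.Agent.Lib.Compute.Schur (prodT)
open Cfsg.Agent.Lib.Compute.WordSchur

/-- The base. -/
def base : List ℕ := [0, 1, 2, 9, 5, 18]

/-- Keys: images of the base. -/
noncomputable def key : List ℕ → ℕ := baseKey He2058.tab base

/-- Generators of He. -/
noncomputable abbrev gn : ℕ → Spor.He := S1695.gn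

theorem base_eq : HeSimple.levels.map (fun q => q.1.get 0) = base := by decide +kernel

theorem natCard_He : Nat.card Spor.He = 4030387200 := S1695.result.2

/-- The permutation action. -/
theorem exists_phi : ∃ φ : Spor.He →* Equiv.Perm (Fin He2058.tab.n),
    ∀ g, g < He2058.cert.k → φ (gn g) = He2058.checked.perm g := by
  have D := S1683.certified
  obtain ⟨φ, hφ⟩ := Pres.exists_action D.good D.extra_eq D.k_eq D.rels_eq D.words D.checked
  exact ⟨φ, hφ⟩

theorem prodT_eq_eval (f : ℕ → Spor.He) : ∀ u : List ℕ, prodT f u = eval f u.reverse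
  | [] => by simp [prodT, eval]
  | a :: u => by
    rw [List.reverse_cons, eval_append, Schur.prodT_cons, prodT_eq_eval f u]
    simp [eval]

theorem cons_key (T : Table) (b : ℕ) (B u : List ℕ) :
    baseKey T (b :: B) u = baseKey T B u * 2 ^ 16 + T.walk u.reverse b := by
  simp only [baseKey, List.foldr_cons]
  rw [← Nat.shiftLeft_eq]
  rfl

theorem walk_of_key {T : Table} {u v : List ℕ} : ∀ {B : List ℕ},
    (∀ b ∈ B, T.walk u.reverse b < 2 ^ 16 ∧ T.walk v.reverse b < 2 ^ 16) →
    baseKey T B u = baseKey T B v → ∀ b ∈ B, T.walk u.reverse b = T.walk v.reverse b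
  | [], _, _ => by simp
  | b :: B, hb, h => by
    have hh := hb b (by simp)
    rw [cons_key, cons_key] at h
    have h1 : T.walk u.reverse b = T.walk v.reverse b := by omega
    have h2 : baseKey T B u = baseKey T B v := by omega
    intro c hc
    rcases List.mem_cons.1 hc with rfl | hc
    · exact h1
    · exact walk_of_key (fun d hd => hb d (List.mem_cons_of_mem _ hd)) h2 c hc

theorem key_congr {T : Table} {u v : List ℕ} : ∀ {B : List ℕ},
    (∀ b ∈ B, T.walk u.reverse b = T.walk v.reverse b) → baseKey T B u = baseKey T B v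
  | [], _ => rfl
  | b :: B, h => by
    rw [cons_key, cons_key, h b (by simp), key_congr fun c hc => h c (List.mem_cons_of_mem _ hc)]

variable {φ : Spor.He →* Equiv.Perm (Fin He2058.tab.n)}
  (hφ : ∀ g, g < He2058.cert.k → φ (gn g) = He2058.checked.perm g)

include hφ in
theorem walk_eq {u : List ℕ} (hu : ∀ a ∈ u, a < 7) (i : Fin He2058.tab.n) :
    He2058.tab.walk u.reverse i = (φ (prodT gn u) i : ℕ) := by
  have hl : ∀ a ∈ u.reverse, a < He2058.cert.k := fun a ha => hu a (List.mem_reverse.1 ha)
  rw [prodT_eq_eval, Checked.map_eval He2058.checked S1695.model_act φ hφ hl,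
    He2058.checked.eval_perm hl]

include hφ in
theorem eq_one_of_fix {x : Spor.He}
    (h : ∀ i : Fin He2058.tab.n, (i : ℕ) ∈ base → φ x i = i) : x = 1 := by
  haveI := S1695.order_le.1
  have hinj := (Checked.natCard_eq He2058.checked S1695.model_act φ hφ S1695.order_le
    HeSimple.levels HeSimple.levels_ok HeSimple.levels_card).2
  have hle := levelsCard_mul_le He2058.checked HeSimple.levels HeSimple.levels_ok φ.range
    fun w hw => ⟨eval gn w, Checked.map_eval He2058.checked S1695.model_act φ hφ
      (HeSimple.levels_ok.words_lt w hw)⟩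
  have hr : Nat.card φ.range ≤ 4030387200 :=
    (Nat.card_le_card_of_surjective _ φ.rangeRestrict_surjective).trans S1695.order_le.2
  rw [HeSimple.levels_card] at hle
  have hle1 : Nat.card (fixBase φ.range HeSimple.levels) ≤ 1 := by omega
  have hmem : ∀ (y : Spor.He) (L : List (Orb × List (List ℕ))),
      (∀ q ∈ L, ∀ i : Fin He2058.tab.n, (i : ℕ) = q.1.get 0 → φ y i = i) →
      φ y ∈ fixBase φ.range L := by
    intro y L
    induction L with
    | nil => intro _; exact ⟨y, rfl⟩
    | cons q L ih =>
      intro hq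
      exact ⟨ih fun r hr => hq r (List.mem_cons_of_mem _ hr), hq q (by simp)⟩
  have hx := hmem x HeSimple.levels fun q hq i hi =>
    h i (hi ▸ base_eq ▸ List.mem_map.2 ⟨q, hq, rfl⟩)
  have h1 := hmem 1 HeSimple.levels fun q hq i hi => by simp
  haveI := Finite.card_le_one_iff_subsingleton.mp hle1
  exact hinj (congrArg Subtype.val (Subsingleton.elim
    (⟨_, hx⟩ : fixBase φ.range HeSimple.levels) ⟨_, h1⟩))

theorem base_lt : ∀ b ∈ base, b < He2058.tab.n := by decide +kernel

theorem key_sound : KeySound gn 7 key := by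
  intro u v hu hv h
  obtain ⟨φ, hφ⟩ := exists_phi
  have hn : He2058.tab.n = 2058 := rfl
  have hw := walk_of_key (fun b hb => by
    rw [show b = ((⟨b, base_lt b hb⟩ : Fin He2058.tab.n) : ℕ) from rfl, walk_eq hφ hu,
      walk_eq hφ hv]
    constructor <;> exact lt_of_lt_of_le (Fin.isLt _) (by norm_num [hn])) h
  refine inv_mul_eq_one.1 (eq_one_of_fix hφ fun i hi => ?_)
  have := hw i hi
  rw [walk_eq hφ hu, walk_eq hφ hv] at this
  rw [map_mul, map_inv, Equiv.Perm.mul_apply, ← Fin.ext this]
  exact Equiv.symm_apply_apply _ _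

theorem key_eq (u v : List ℕ) (hu : ∀ a ∈ u, a < 7) (hv : ∀ a ∈ v, a < 7)
    (h : prodT gn u = prodT gn v) : key u = key v := by
  obtain ⟨φ, hφ⟩ := exists_phi
  refine key_congr fun b hb => ?_
  have hu' := walk_eq hφ hu ⟨b, base_lt b hb⟩
  have hv' := walk_eq hφ hv ⟨b, base_lt b hb⟩
  rw [h] at hu'
  exact hu'.trans hv'.symm

end Cfsg.Agent.Lib.Compute.Sporadic.He
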