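import Cfsg.Agent.Lib.Compute.Sporadic.He.Base

/-! Generated: multiplier certificate of the Held group for the prime 3. -/

set_option autoImplicit false
set_option Elab.async false

namespace Cfsg.Agent.Lib.Compute.Sporadic.He.P3

set_option maxRecDepth 20000

open Cfsg.Agent.Lib.Compute.Schur Cfsg.Agent.Lib.Compute.WordSchur

def treeP0 : KTree := (.node .leaf 0x1200050009000200010000 0 .leaf)

def treeP1 : KTree := (.node .leaf 0xe304d4057f047604550472 23 .leaf)

def treeP2 : KTree := (.node .leaf 0x2e703140686001605870613 17 .leaf)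

def treeP3 : KTree := (.node .leaf 0x34a04860768061103b500a8 15 .leaf)

def treeP4 : KTree := (.node .leaf 0x42104100174072d07a707ad 13 .leaf)

def treeP5 : KTree := (.node .leaf 0x4c300df026b03280172060c 24 .leaf)

def treeP6 : KTree := (.node .leaf 0x5db047404b60311019f0583 6 .leaf)

def treeP7 : KTree := (.node .leaf 0x65503e003e403ba06e0030d 21 .leaf)

def treeP8 : KTree := (.node .leaf 0x67006b201e9037107da076f 18 .leaf)

def treeP9 : KTree := (.node .leaf 0x6ca03980787008805130462 22 .leaf)

def treeP10 : KTree := (.node .leaf 0x6fb075a0533003405560032 1 .leaf)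

def treeP11 : KTree := (.node .leaf 0x7c301890652080107ca0408 5 .leaf)

def tree : KTree := (.node (.node (.node (.node treeP0 0x70079c047e008100ff0014 3 treeP1) 0x1100356010801f1022a05b4 2 (.node treeP2 0x32c03a707fe055807d7068c 4 .leaf)) 0x34701a30193049a0436022c 26 (.node (.node treeP3 0x3d504d002ec076d04c4067b 10 treeP4) 0x48205cb02a30039022e0412 16 (.node treeP5 0x4f8071f05c503990411004f 14 .leaf))) 0x50e033d03510402066a069c 8 (.node (.node (.node treeP6 0x60d01cd0155076e076a0630 11 treeP7) 0x664042d008207950215016f 12 (.node treeP8 0x696040e01fe02b4071a0454 9 .leaf)) 0x6b102d4005a031c027c0740 7 (.node (.node treeP9 0x6f9002704c106b80780038a 20 treeP10) 0x74601110695006a050106d9 19 (.node treeP11 0x7dc020506f80711063806d0 25 .leaf))))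

noncomputable def eqs : List (Eqn × List ℤ) :=
  [(.fus [1, 1, 2] [1, 1, 2, 2] [1, 1, 2] [1, 2] [0, 3, 2, 4, 6, 3, 2, 1, 5, 6, 3, 2, 3, 5, 3, 2, 3, 2, 3, 1, 2, 3, 6, 2, 3, 4, 1, 2, 3], (vecP 5 0x10000000000000000000000000000000000000000000000000000000000000000)),
    (.fus [1, 2] [2, 2] [0, 1, 2] [0, 1, 2, 2] [5, 3, 2, 1, 4, 3, 2, 3, 5, 2, 3, 0, 1, 2, 3, 6, 2], (vecP 5 0x10000000000000002000000000000000000000000000000000000000000000000)),
    (.cons [1, 1, 1] [] [0], (vecP 6 0x200000000000000060000000000000000000000000000000000000000000000060000000000000000))]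

noncomputable def units : List (List ℤ × List ℤ × ℤ) :=
  [([], (vecP 1 0x2), 0),
    ([], (vecP 3 0x100000000000000000000000000000000), 0),
    ([], (vecP 2 0x20000000000000000), 0),
    ((vecP 2 0x20000000000000001), [], 0),
    ((vecP 1 0x1), [], 0),
    ((vecP 3 0x200000000000000000000000000000006), (vecP 3 0x600000000000000000000000000000000), 0)]

/-- The certificate. -/
noncomputable def cert : WCert where
  tree := tree
  A :=
    { R := ⟨3, 3, [[[]],
      [[1, 2], []],
      [[2], [2], []]]⟩
      paths := [[0, 4, 3, 2, 3, 4, 6, 3, 2, 1, 5, 3, 2, 3, 2, 3, 6, 3, 2, 3, 1, 2, 3, 4, 2, 3],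
        [6, 3, 5, 3, 2, 1, 3, 2, 1, 5, 3, 6, 2, 3, 5, 1, 2, 3, 2, 1, 0, 1],
        [0, 1, 5, 3, 2, 1, 3, 2, 1, 4, 5, 3, 2, 1, 3, 5, 2, 3, 2, 3, 5, 3, 1, 2, 3, 6, 2]]
      X := []
      chainP := []
      eqns := eqs
      L := [(vecP 1 0x2), (vecP 3 0x200000000000000000000000000000000), (vecP 2 0x10000000000000000)]
      T := []
      r := 1
      rT := []
      units := units }

theorem pres_ok : presW key 7 4030387200 cert.A = true := by decide +kernel

theorem distinct_ok : distinctW key cert = true := by decide +kernel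

theorem eqns_ok : eqnsW key 7 cert.A = true := by decide +kernel

theorem lin_ok : linCheck cert.A = true := by decide +kernel

theorem check_ok : checkW key 7 4030387200 cert = true := by
  simp only [checkW, pres_ok, distinct_ok, eqns_ok, lin_ok, Bool.and_self]

end Cfsg.Agent.Lib.Compute.Sporadic.He.P3
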