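import Cfsg.Agent.Lib.Compute.Sporadic.He.Base

/-! Generated: multiplier certificate of the Held group for the prime 5. -/

set_option autoImplicit false
set_option Elab.async false

namespace Cfsg.Agent.Lib.Compute.Sporadic.He.P5

set_option maxRecDepth 20000

open Cfsg.Agent.Lib.Compute.Schur Cfsg.Agent.Lib.Compute.WordSchur

def treeP0 : KTree := (.node .leaf 0x1200050009000200010000 0 .leaf)

def treeP1 : KTree := (.node .leaf 0x13d038604ff02f20408040a 3 .leaf)

def treeP2 : KTree := (.node .leaf 0x19801440496000907f00013 5 .leaf)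

def treeP3 : KTree := (.node .leaf 0x2f306cf02f2002b05f301d1 23 .leaf)

def treeP4 : KTree := (.node .leaf 0x3bd02e2024f07f6012e069e 21 .leaf)

def treeP5 : KTree := (.node .leaf 0x4a40647002b07660594072f 18 .leaf)

def treeP6 : KTree := (.node .leaf 0x4b307d907f603c30301008f 16 .leaf)

def treeP7 : KTree := (.node .leaf 0x5760755044b078701e70604 6 .leaf)

def treeP8 : KTree := (.node .leaf 0x6f600700612028106ec01fd 15 .leaf)

def treeP9 : KTree := (.node .leaf 0x7b002f10331049101bd0115 12 .leaf)

def tree : KTree := (.node (.node (.node (.node treeP0 0x5502b1072c03310103024c 17 treeP1) 0x16102020281049606f801d6 10 (.node treeP2 0x1e006d4061e072c00a902db 22 .leaf)) 0x2d901430787024f03670065 1 (.node (.node treeP3 0x30e04b000020612072a0474 20 .leaf) 0x35505c80766012007a0063a 13 (.node treeP4 0x3f3049d067f039203660681 9 .leaf))) 0x3fa0579079e07fb0017019a 24 (.node (.node (.node treeP5 0x4ab05b604910775063f0713 7 treeP6) 0x55206a50775061e05a1039d 2 (.node treeP7 0x63506ce012004ff069900af 8 .leaf)) 0x6c400400735067f05400209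 14 (.node (.node treeP8 0x74f04da07fb073502a502e3 19 .leaf) 0x79206fb0392079e06060340 4 (.node treeP9 0x7e3037903c3044b07c106ca 11 .leaf))))

noncomputable def eqs : List (Eqn × List ℤ) :=
  [(.fus [0, 1, 1] [1, 1] [0, 1, 1, 1, 1] [1, 1, 1] [0, 4, 5, 3, 2, 1, 3, 6, 3, 2, 3, 2, 1, 5, 3, 4, 2, 3, 2, 3, 1, 2, 3, 2, 3, 6], (vecP 2 0x20000000000000000))]

noncomputable def units : List (List ℤ × List ℤ × ℤ) :=
  [([], (vecP 1 0x2), 0),
    ((vecP 1 0x2), [], 0),
    ([], (vecP 2 0x20000000000000000), 0)]

/-- The certificate. -/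
noncomputable def cert : WCert where
  tree := tree
  A :=
    { R := ⟨5, 2, [[[]],
      [[1], []]]⟩
      paths := [[0, 1, 0, 3, 2, 5, 3, 2, 1, 3, 2, 3, 2, 1, 3, 2, 3, 6, 3, 2, 3, 5, 2, 3, 4, 1, 2, 1],
        [3, 2, 3, 4, 6, 3, 2, 1, 5, 3, 2, 6, 3, 5, 4, 3, 6, 2, 3, 1, 2, 3, 4, 2, 3, 2]]
      X := []
      chainP := []
      eqns := eqs
      L := [(vecP 1 0x2), (vecP 3 0x200000000000000000000000000000000)]
      T := []
      r := 1
      rT := []
      units := units }

theorem pres_ok : presW key 7 4030387200 cert.A = true := by decide +kernel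

theorem distinct_ok : distinctW key cert = true := by decide +kernel

theorem eqns_ok : eqnsW key 7 cert.A = true := by decide +kernel

theorem lin_ok : linCheck cert.A = true := by decide +kernel

theorem check_ok : checkW key 7 4030387200 cert = true := by
  simp only [checkW, pres_ok, distinct_ok, eqns_ok, lin_ok, Bool.and_self]

end Cfsg.Agent.Lib.Compute.Sporadic.He.P5
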